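import Groth.Agent.FBase64.Geometric
import Mathlib.AlgebraicGeometry.Geometrically.Reduced

/-!
Descending fibre properties along surjections; counting components.
-/

universe u

namespace Groth.Agent.FBase64

open CategoryTheory CategoryTheory.Limits AlgebraicGeometry

/-- A surjective morphism over `S` stays surjective after base change. -/
theorem exists_surjective_map {X Y S T : Scheme.{u}} (f : X ⟶ S) (g : Y ⟶ S) (h : X ⟶ Y)
    (w : h ≫ g = f) [Surjective h] (t : T ⟶ S) :
    ∃ h' : pullback f t ⟶ pullback g t, Surjective h' ∧
      h' ≫ pullback.fst g t = pullback.fst f t ≫ h := by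
  refine ⟨pullback.map f t g t h (𝟙 _) (𝟙 _) (by simp [w]) (by simp), ⟨?_⟩, pullback.lift_fst _ _ _⟩
  intro z
  have : z ∈ Set.range (pullback.map f t g t h (𝟙 _) (𝟙 _) (by simp [w]) (by simp)) := by
    rw [Scheme.Pullback.range_map]
    simp [h.surjective.range_eq]
  exact this

/-- A property inherited by surjective images descends along surjective base changes. -/
theorem geometrically_descend (P : ObjectProperty Scheme.{u}) [P.IsClosedUnderIsomorphisms]
    (hP : ∀ (A B : Scheme.{u}) (h : A ⟶ B) [Surjective h], P A → P B)
    {X Y Y' : Scheme.{u}} (f : X ⟶ Y) (g : Y' ⟶ Y) [Surjective g]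
    (H : geometrically P (pullback.snd f g)) : geometrically P f := by
  refine geometrically_iff_of_isClosedUnderIsomorphisms.mpr fun K _ y => ?_
  let pt : ↥(Spec (CommRingCat.of K)) := Classical.arbitrary _
  obtain ⟨s', hs'⟩ := g.surjective (y pt)
  obtain ⟨Ω, _, _, i, j, hij⟩ := exists_common_field y (Y'.fromSpecResidueField s' ≫ g)
    ⟨pt, Classical.arbitrary _, hs'.symm.trans (congrArg g (Scheme.fromSpecResidueField_apply s' _)).symm⟩
  have h1 := pullback_of_geometrically H Ω
    (Spec.map (CommRingCat.ofHom j) ≫ Y'.fromSpecResidueField s')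
  obtain ⟨h, hsurj, -, -⟩ := exists_surjective_pullback f y (Spec.map (CommRingCat.ofHom i))
    ((Spec.map (CommRingCat.ofHom j) ≫ Y'.fromSpecResidueField s') ≫ g)
    (hij.trans (Category.assoc _ _ _).symm)
  exact hP _ _ h (P.prop_of_iso (pullbackLeftPullbackSndIso f g _) h1)

theorem irreducibleSpace_of_surjective {A B : Scheme.{u}} (h : A ⟶ B) [Surjective h]
    [IrreducibleSpace A] : IrreducibleSpace B :=
  irreducibleSpace_def _ |>.mpr <| by
    have := (IrreducibleSpace.isIrreducible_univ A).image h h.continuous.continuousOn
    rwa [Set.image_univ, h.surjective.range_eq] at this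

theorem connectedSpace_of_surjective {A B : Scheme.{u}} (h : A ⟶ B) [Surjective h]
    [ConnectedSpace A] : ConnectedSpace B :=
  h.surjective.connectedSpace h.continuous

theorem geometricallyIrreducible_of_surjective' {k : Type u} [Field k] {X Y : Scheme.{u}}
    (f : X ⟶ Spec (CommRingCat.of k)) (g : Y ⟶ Spec (CommRingCat.of k)) (h : X ⟶ Y)
    (w : h ≫ g = f) [Surjective h] [GeometricallyIrreducible f] : GeometricallyIrreducible g := by
  refine ⟨geometrically_iff_of_isClosedUnderIsomorphisms.mpr fun K _ y => ?_⟩
  obtain ⟨h', _, -⟩ := exists_surjective_map f g h w y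
  have : IrreducibleSpace ↥(pullback f y) :=
    pullback_of_geometrically GeometricallyIrreducible.geometrically_irreducibleSpace K y
  exact irreducibleSpace_of_surjective h'

theorem geometricallyConnected_of_surjective' {k : Type u} [Field k] {X Y : Scheme.{u}}
    (f : X ⟶ Spec (CommRingCat.of k)) (g : Y ⟶ Spec (CommRingCat.of k)) (h : X ⟶ Y)
    (w : h ≫ g = f) [Surjective h] [GeometricallyConnected f] : GeometricallyConnected g := by
  refine ⟨geometrically_iff_of_isClosedUnderIsomorphisms.mpr fun K _ y => ?_⟩
  obtain ⟨h', _, -⟩ := exists_surjective_map f g h w y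
  have : ConnectedSpace ↥(pullback f y) :=
    pullback_of_geometrically GeometricallyConnected.geometrically_connectedSpace K y
  exact connectedSpace_of_surjective h'

section OverField

variable {k K Ω : Type u} [Field k] [Field K] [Field Ω] {X : Scheme.{u}}
  (f : X ⟶ Spec (CommRingCat.of k))

theorem mk_irreducibleComponents_bc_le (σ : k →+* Ω) (τ : k →+* K) [IsSepClosed Ω] :
    Cardinal.mk ↥(irreducibleComponents ↥(pullback f (Spec.map (CommRingCat.ofHom τ)))) ≤
      Cardinal.mk ↥(irreducibleComponents ↥(pullback f (Spec.map (CommRingCat.ofHom σ)))) := by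
  obtain ⟨E, _, _, i, h, hsurj, -⟩ := exists_dominating f σ τ
  let p := pullback.fst (pullback.snd f (Spec.map (CommRingCat.ofHom σ))) (Spec.map (CommRingCat.ofHom i))
  have : GeometricallyIrreducible p := geometricallyIrreducible_fst _ i
  exact (mk_irreducibleComponents_le_of_surjective h.continuous h.surjective).trans_eq
    (Cardinal.mk_congr (p.irreducibleComponentsEquiv p.isOpenMap))

theorem mk_connectedComponents_bc_le (σ : k →+* Ω) (τ : k →+* K) [IsSepClosed Ω] :
    Cardinal.mk (_root_.ConnectedComponents ↥(pullback f (Spec.map (CommRingCat.ofHom τ)))) ≤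
      Cardinal.mk (_root_.ConnectedComponents ↥(pullback f (Spec.map (CommRingCat.ofHom σ)))) := by
  obtain ⟨E, _, _, i, h, hsurj, -⟩ := exists_dominating f σ τ
  let p := pullback.fst (pullback.snd f (Spec.map (CommRingCat.ofHom σ))) (Spec.map (CommRingCat.ofHom i))
  have : GeometricallyConnected p := geometricallyConnected_fst _ i
  exact (mk_connectedComponents_le_of_surjective h.continuous h.surjective).trans_eq
    (Cardinal.mk_congr (p.connectedComponentsHomeomorph p.isOpenMap).toEquiv)

theorem geometricallyConnected_of_bcStr (σ : k →+* K)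
    [GeometricallyConnected (pullback.snd f (Spec.map (CommRingCat.ofHom σ)))] :
    GeometricallyConnected f := by
  let E := AlgebraicClosure K
  let e := pullbackLeftPullbackSndIso f (Spec.map (CommRingCat.ofHom σ))
    (Spec.map (CommRingCat.ofHom (algebraMap K E)))
  have : ConnectedSpace ↥(pullback (pullback.snd f (Spec.map (CommRingCat.ofHom σ)))
      (Spec.map (CommRingCat.ofHom (algebraMap K E)))) :=
    pullback_of_geometrically GeometricallyConnected.geometrically_connectedSpace _ _
  have : ConnectedSpace ↥(pullback f (Spec.map (CommRingCat.ofHom ((algebraMap K E).comp σ)))) := by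
    rw [CommRingCat.ofHom_comp, Spec.map_comp]
    exact connectedSpace_of_surjective e.hom
  exact geometricallyConnected_of_sepClosed f ((algebraMap K E).comp σ)

theorem geometricallyIrreducible_of_bcStr (σ : k →+* K)
    [GeometricallyIrreducible (pullback.snd f (Spec.map (CommRingCat.ofHom σ)))] :
    GeometricallyIrreducible f := by
  let E := AlgebraicClosure K
  let e := pullbackLeftPullbackSndIso f (Spec.map (CommRingCat.ofHom σ))
    (Spec.map (CommRingCat.ofHom (algebraMap K E)))
  have : IrreducibleSpace ↥(pullback (pullback.snd f (Spec.map (CommRingCat.ofHom σ)))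
      (Spec.map (CommRingCat.ofHom (algebraMap K E)))) :=
    pullback_of_geometrically GeometricallyIrreducible.geometrically_irreducibleSpace _ _
  have : IrreducibleSpace ↥(pullback f (Spec.map (CommRingCat.ofHom ((algebraMap K E).comp σ)))) := by
    rw [CommRingCat.ofHom_comp, Spec.map_comp]
    exact irreducibleSpace_of_surjective e.hom
  exact geometricallyIrreducible_of_sepClosed f ((algebraMap K E).comp σ)

end OverField

end Groth.Agent.FBase64
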