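import Groth.Agent.FBase64.Chart
import Groth.Agent.FBase64.Descend
import Mathlib.AlgebraicGeometry.Morphisms.Flat
import Groth.Prelude.Def_FDesc

/-!
Comparing local rings over different field extensions.
-/

universe u

namespace Groth.Agent.FBase64

open CategoryTheory CategoryTheory.Limits AlgebraicGeometry TensorProduct

theorem stalkMap_injective_of_flat {X Y : Scheme.{u}} (h : X ⟶ Y) [Flat h] (x : X) :
    Function.Injective (h.stalkMap x).hom := by
  algebraize [(h.stalkMap x).hom]
  have : Module.FaithfullyFlat (Y.presheaf.stalk (h x)) (X.presheaf.stalk x) :=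
    @Module.FaithfullyFlat.of_flat_of_isLocalHom _ _ _ _ _ _ _
      (Flat.stalkMap h x) (h.toLRSHom.prop x)
  exact ‹RingHom.FaithfullyFlat _›.injective

theorem isReduced_stalk_of_flat {X Y : Scheme.{u}} (h : X ⟶ Y) [Flat h] (x : X)
    [_root_.IsReduced (X.presheaf.stalk x)] : _root_.IsReduced (Y.presheaf.stalk (h x)) :=
  isReduced_of_injective _ (stalkMap_injective_of_flat h x)

theorem isDomain_stalk_of_flat {X Y : Scheme.{u}} (h : X ⟶ Y) [Flat h] (x : X)
    [IsDomain (X.presheaf.stalk x)] : IsDomain (Y.presheaf.stalk (h x)) :=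
  Function.Injective.isDomain _ (stalkMap_injective_of_flat h x)

theorem isDomain_stalk_of_iso {X Y : Scheme.{u}} (h : X ⟶ Y) [IsIso h] (x : X)
    [IsDomain (Y.presheaf.stalk (h x))] : IsDomain (X.presheaf.stalk x) :=
  (asIso (h.stalkMap x)).commRingCatIsoToRingEquiv.symm.toMulEquiv.isDomain

theorem isReduced_stalk_of_iso {X Y : Scheme.{u}} (h : X ⟶ Y) [IsIso h] (x : X)
    [_root_.IsReduced (Y.presheaf.stalk (h x))] : _root_.IsReduced (X.presheaf.stalk x) :=
  isReduced_of_injective _ (asIso (h.stalkMap x)).commRingCatIsoToRingEquiv.symm.injective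

/-- Base change along a flat morphism of the base gives a flat morphism. -/
theorem exists_flat_pullback {X S T T' : Scheme.{u}} (f : X ⟶ S) (t : T ⟶ S) (b : T' ⟶ T)
    [Flat b] (t' : T' ⟶ S) (ht : b ≫ t = t') :
    ∃ h : pullback f t' ⟶ pullback f t, Flat h ∧
      h ≫ pullback.fst f t = pullback.fst f t' ∧ h ≫ pullback.snd f t = pullback.snd f t' ≫ b := by
  subst ht
  refine ⟨(pullbackLeftPullbackSndIso f t b).inv ≫ pullback.fst _ _, inferInstance, ?_, ?_⟩
  · simp
  · simp [pullback.condition]

variable {k : Type u} [Field k] {X : Scheme.{u}} (f : X ⟶ Spec (CommRingCat.of k))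

/-- Points of two base changes over the same point come from a common base change. -/
theorem exists_common_point {Ω K : Type u} [Field Ω] [Field K] [Algebra k Ω] [Algebra k K]
    (x' : ↥(FBase.bc f Ω)) (y : ↥(FBase.bc f K)) (hxy : FBase.bcπ f Ω x' = FBase.bcπ f K y) :
    ∃ (E : Type u) (_ : Field E) (_ : Algebra Ω E)
      (h : FBase.bc (FBase.bcStr f Ω) E ⟶ FBase.bc f K) (z : ↥(FBase.bc (FBase.bcStr f Ω) E)),
      Flat h ∧ FBase.bcπ (FBase.bcStr f Ω) E z = x' ∧ h z = y := by
  let tΩ := Spec.map (CommRingCat.ofHom (algebraMap k Ω))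
  let tK := Spec.map (CommRingCat.ofHom (algebraMap k K))
  obtain ⟨w, hw1, hw2⟩ := Scheme.Pullback.exists_preimage_pullback (f := pullback.fst f tΩ)
    (g := pullback.fst f tK) x' y hxy
  let W := pullback (pullback.fst f tΩ) (pullback.fst f tK)
  let E := W.residueField w
  let p : Spec (CommRingCat.of E) ⟶ pullback f tΩ :=
    W.fromSpecResidueField w ≫ pullback.fst _ _
  let q : Spec (CommRingCat.of E) ⟶ pullback f tK :=
    W.fromSpecResidueField w ≫ pullback.snd _ _
  have hpq : p ≫ pullback.fst f tΩ = q ≫ pullback.fst f tK := by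
    simp [p, q, pullback.condition]
  obtain ⟨i, hi⟩ := Spec.map_surjective (p ≫ pullback.snd f tΩ)
  obtain ⟨j, hj⟩ := Spec.map_surjective (q ≫ pullback.snd f tK)
  let := i.hom.toAlgebra
  have hi' : Spec.map (CommRingCat.ofHom (algebraMap Ω E)) = p ≫ pullback.snd f tΩ := hi
  let tE := Spec.map (CommRingCat.ofHom (algebraMap Ω E))
  have hj' : Spec.map j ≫ tK = tE ≫ tΩ := by
    rw [hj, Category.assoc, ← pullback.condition, ← Category.assoc, ← hpq, Category.assoc,
      pullback.condition, ← Category.assoc, ← hi']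
  obtain ⟨h', hflat, hh1, hh2⟩ := exists_flat_pullback f tK (Spec.map j) (tE ≫ tΩ) hj'
  let h : pullback (pullback.snd f tΩ) tE ⟶ pullback f tK :=
    (pullbackLeftPullbackSndIso f tΩ tE).hom ≫ h'
  let s : Spec (CommRingCat.of E) ⟶ pullback (pullback.snd f tΩ) tE :=
    pullback.lift p (𝟙 _) (by rw [Category.id_comp]; exact hi'.symm)
  have hs2 : s ≫ h = q := by
    apply pullback.hom_ext
    · simp [s, h, hh1]
      erw [pullback.lift_fst_assoc]
      exact hpq
    · simp [s, h, hh2, hj]
      erw [pullback.lift_snd_assoc]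
      exact Category.id_comp _
  have hs1 : s ≫ pullback.fst _ _ = p := pullback.lift_fst _ _ _
  let pt : ↥(Spec (CommRingCat.of E)) := IsLocalRing.closedPoint E
  have hw : W.fromSpecResidueField w pt = w := Scheme.fromSpecResidueField_apply w _
  refine ⟨E, inferInstance, inferInstance, h, s pt, ?_, ?_, ?_⟩
  · exact (inferInstance : Flat ((pullbackLeftPullbackSndIso f tΩ tE).hom ≫ h'))
  · refine ((congrArg (fun t : Spec (CommRingCat.of E) ⟶ pullback f tΩ => t pt) hs1).trans ?_)
    exact (congrArg (fun a : ↥W => pullback.fst (pullback.fst f tΩ) (pullback.fst f tK) a) hw).trans hw1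
  · refine ((congrArg (fun t : Spec (CommRingCat.of E) ⟶ pullback f tK => t pt) hs2).trans ?_)
    exact (congrArg (fun a : ↥W => pullback.snd (pullback.fst f tΩ) (pullback.fst f tK) a) hw).trans hw2

theorem isGeomReducedAt_of_perfect {Ω : Type u} [Field Ω] [Algebra k Ω] [PerfectField Ω] (x : X)
    (x' : ↥(FBase.bc f Ω)) (hx' : FBase.bcπ f Ω x' = x)
    [_root_.IsReduced ((FBase.bc f Ω).presheaf.stalk x')] : FBase.IsGeomReducedAt f x := by
  intro K _ _ y hy
  obtain ⟨E, _, _, h, z, hflat, hz, hhz⟩ := exists_common_point f x' y (hx'.trans hy.symm)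
  have : _root_.IsReduced ((FBase.bc (FBase.bcStr f Ω) E).presheaf.stalk z) := by
    refine isReduced_stalk_bc (FBase.bcStr f Ω) (fun R _ _ hR =>
      isReduced_tensor_of_perfectField Ω E R) z ?_
    show _root_.IsReduced ((FBase.bc f Ω).presheaf.stalk (FBase.bcπ (FBase.bcStr f Ω) E z))
    rw [hz]
    infer_instance
  exact hhz ▸ isReduced_stalk_of_flat h z

theorem isGeomPtIntegralAt_of_isAlgClosed {Ω : Type u} [Field Ω] [Algebra k Ω] [IsAlgClosed Ω]
    (x : X) (x' : ↥(FBase.bc f Ω)) (hx' : FBase.bcπ f Ω x' = x)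
    [IsDomain ((FBase.bc f Ω).presheaf.stalk x')] : FBase.IsGeomPtIntegralAt f x := by
  intro K _ _ y hy
  obtain ⟨E, _, _, h, z, hflat, hz, hhz⟩ := exists_common_point f x' y (hx'.trans hy.symm)
  have : IsDomain ((FBase.bc (FBase.bcStr f Ω) E).presheaf.stalk z) := by
    refine isDomain_stalk_bc (FBase.bcStr f Ω) (fun R _ _ hR =>
      isDomain_tensor_of_isAlgClosed Ω R E) z ?_
    show IsDomain ((FBase.bc f Ω).presheaf.stalk (FBase.bcπ (FBase.bcStr f Ω) E z))
    rw [hz]
    infer_instance
  exact hhz ▸ isDomain_stalk_of_flat h z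

theorem geometricallyReduced_iff_forall :
    GeometricallyReduced f ↔ ∀ x, FBase.IsGeomReducedAt f x := by
  constructor
  · intro _ x K _ _ x' _
    have : AlgebraicGeometry.IsReduced (FBase.bc f K) :=
      pullback_of_geometrically GeometricallyReduced.geometrically_isReduced _ _
    infer_instance
  · intro h
    refine ⟨geometrically_iff_of_commRing_of_isClosedUnderIsomorphisms.mpr fun K _ _ => ?_⟩
    have (x' : ↥(pullback f (Spec.map (CommRingCat.ofHom (algebraMap k K))))) :
        _root_.IsReduced ((pullback f (Spec.map (CommRingCat.ofHom (algebraMap k K)))).presheaf.stalk x') :=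
      h _ K x' rfl
    exact isReduced_of_isReduced_stalk _

theorem geometricallyReduced_of_isReduced_perfect (Ω : Type u) [Field Ω] [Algebra k Ω]
    [PerfectField Ω] [AlgebraicGeometry.IsReduced (FBase.bc f Ω)] : GeometricallyReduced f := by
  refine (geometricallyReduced_iff_forall f).mpr fun x => ?_
  obtain ⟨x', hx'⟩ := (pullback.fst f (Spec.map (CommRingCat.ofHom (algebraMap k Ω)))).surjective x
  have : _root_.IsReduced ((FBase.bc f Ω).presheaf.stalk
    (x' : ↥(FBase.bc f Ω))) :=
    @isReduced_stalk_of_isReduced (FBase.bc f Ω) _ x'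
  exact @isGeomReducedAt_of_perfect k _ X f Ω _ _ _ x x' hx' this

/-- Geometrically reduced field extensions preserve reducedness. -/
theorem isReduced_bc_of_geomReducedField (K : Type u) [Field K] [Algebra k K]
    [Algebra.IsGeometricallyReduced k K] [AlgebraicGeometry.IsReduced X] :
    AlgebraicGeometry.IsReduced (FBase.bc f K) := by
  have (x' : ↥(FBase.bc f K)) : _root_.IsReduced ((FBase.bc f K).presheaf.stalk x') :=
    isReduced_stalk_bc f (fun R _ _ _ => isReduced_tensor_of_geomReduced k K R) x' inferInstance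
  exact isReduced_of_isReduced_stalk _

end Groth.Agent.FBase64
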