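import Mathlib.Topology.Connected.TotallyDisconnected
import Mathlib.Topology.Sober
import Mathlib.Topology.LocalAtTarget
import Mathlib.SetTheory.Cardinal.Basic

/-!
Topological lemmas for fibrewise connected maps.
-/

universe u

namespace Groth.Agent.FBase64

open Topology

variable {A B : Type*} [TopologicalSpace A] [TopologicalSpace B] {p : A → B}

theorem isConnected_preimage_of_connected_fibres (hc : Continuous p) (ho : IsOpenMap p)
    (hsurj : Function.Surjective p) (hf : ∀ b, IsConnected (p ⁻¹' {b})) {s : Set B}
    (hs : IsConnected s) : IsConnected (p ⁻¹' s) := by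
  have h1 : IsOpenMap (s.restrictPreimage p) := ho.restrictPreimage s
  have h2 : Function.Surjective (s.restrictPreimage p) := Set.restrictPreimage_surjective s hsurj
  have h3 : Continuous (s.restrictPreimage p) := hc.restrictPreimage
  have hfib : ∀ b : s, IsConnected (s.restrictPreimage p ⁻¹' {b}) := by
    intro b
    have heq : Subtype.val '' (s.restrictPreimage p ⁻¹' {b}) = p ⁻¹' {b.1} := by
      ext a
      constructor
      · rintro ⟨a', ha', rfl⟩
        exact congrArg Subtype.val ha'
      · intro ha
        exact ⟨⟨a, by rw [Set.mem_preimage, ha]; exact b.2⟩, Subtype.ext ha, rfl⟩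
    refine ⟨h2 b, ?_⟩
    rw [← Topology.IsInducing.subtypeVal.isPreconnected_image, heq]
    exact (hf b.1).isPreconnected
  have : ConnectedSpace s := isConnected_iff_connectedSpace.mp hs
  have := Topology.IsCoinducing.isConnected_preimage_of_isClosed hfib
    (h1.isQuotientMap h3 h2).isCoinducing isClosed_univ isConnected_univ
  rw [isConnected_iff_connectedSpace, connectedSpace_iff_univ]
  simpa using this

/-- For an open and closed map over a connected set, if some fibre lies in a connected subset of
the preimage then the whole preimage is connected. -/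
theorem isConnected_preimage_of_open_closed (ho : IsOpenMap p)
    (hcl : IsClosedMap p) {s : Set B} (hs : IsPreconnected s) {T : Set A} (hT : IsConnected T)
    (hTs : T ⊆ p ⁻¹' s) {b : B} (hb : b ∈ s) (hbT : p ⁻¹' {b} ⊆ T) :
    IsConnected (p ⁻¹' s) := by
  refine ⟨hT.nonempty.mono hTs, ?_⟩
  rw [isPreconnected_iff_preconnectedSpace, preconnectedSpace_iff_clopen]
  intro U hU
  have hT' : IsPreconnected (Subtype.val ⁻¹' T : Set (p ⁻¹' s)) := by
    rw [← Topology.IsInducing.subtypeVal.isPreconnected_image, Subtype.image_preimage_coe,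
      Set.inter_eq_right.mpr hTs]
    exact hT.isPreconnected
  have key : ∀ V : Set (p ⁻¹' s), IsClopen V → V.Nonempty → Subtype.val ⁻¹' T ⊆ V := by
    intro V hV hne
    have : PreconnectedSpace s := isPreconnected_iff_preconnectedSpace.mp hs
    have himg : IsClopen (s.restrictPreimage p '' V) :=
      ⟨(hcl.restrictPreimage s) _ hV.1, (ho.restrictPreimage s) _ hV.2⟩
    have huniv := himg.eq_univ (hne.image _)
    obtain ⟨⟨a, ha⟩, haV, hab⟩ := (huniv.ge (Set.mem_univ (⟨b, hb⟩ : s)) : _)
    exact hT'.subset_isClopen hV ⟨⟨a, ha⟩, hbT (congrArg Subtype.val hab), haV⟩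
  obtain ⟨t, ht⟩ := hT.nonempty
  by_cases hU' : U.Nonempty
  · refine Or.inr (Set.eq_univ_of_forall fun x => ?_)
    by_contra hx
    exact key Uᶜ hU.compl ⟨x, hx⟩ (show ⟨t, hTs ht⟩ ∈ Subtype.val ⁻¹' T from ht)
      (key U hU hU' ht)
  · exact Or.inl (Set.not_nonempty_iff_eq_empty.mp hU')

theorem mk_connectedComponents_le_of_surjective {A B : Type u} [TopologicalSpace A]
    [TopologicalSpace B] {p : A → B} (hc : Continuous p) (hsurj : Function.Surjective p) :
    Cardinal.mk (ConnectedComponents B) ≤ Cardinal.mk (ConnectedComponents A) := by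
  refine Cardinal.mk_le_of_surjective (f := hc.connectedComponentsMap) fun c => ?_
  obtain ⟨b, rfl⟩ := ConnectedComponents.surjective_coe c
  obtain ⟨a, rfl⟩ := hsurj b
  exact ⟨ConnectedComponents.mk a, rfl⟩

theorem mk_irreducibleComponents_le_of_surjective {A B : Type u} [TopologicalSpace A]
    [TopologicalSpace B] [QuasiSober B] {p : A → B} (hc : Continuous p)
    (hsurj : Function.Surjective p) :
    Cardinal.mk (irreducibleComponents B) ≤ Cardinal.mk (irreducibleComponents A) := by
  choose g hg using hsurj
  let W (Z : irreducibleComponents B) : irreducibleComponents A :=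
    ⟨irreducibleComponent (g Z.2.1.genericPoint), irreducibleComponent_mem_irreducibleComponents _⟩
  refine Cardinal.mk_le_of_injective (f := W) fun Z Z' h => ?_
  have key : ∀ Z : irreducibleComponents B, closure (p '' (W Z).1) = Z.1 := by
    intro Z
    refine (maximal_iff.mp Z.2).2 ((isIrreducible_irreducibleComponent.image _
      hc.continuousOn).closure) ?_ |>.symm
    have hη : Z.2.1.genericPoint ∈ p '' (W Z).1 := ⟨_, mem_irreducibleComponent, hg _⟩
    refine (Z.2.1.closure_genericPoint (isClosed_of_mem_irreducibleComponents _ Z.2)).ge.trans ?_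
    exact closure_mono (Set.singleton_subset_iff.mpr hη)
  exact Subtype.ext (by rw [← key Z, ← key Z', h])

end Groth.Agent.FBase64
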