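import Groth.Agent.FBase64.Primary
import Groth.Agent.FBase64.Topo
import Mathlib.AlgebraicGeometry.Geometrically.Integral
import Mathlib.AlgebraicGeometry.Geometrically.Connected
import Mathlib.AlgebraicGeometry.Morphisms.Integral
import Mathlib.AlgebraicGeometry.PullbackCarrier

/-!
Geometric irreducibility and connectedness over fields.
-/

universe u

namespace Groth.Agent.FBase64

open CategoryTheory CategoryTheory.Limits AlgebraicGeometry

theorem geometricallyConnected_of_geometricallyIrreducible {X Y : Scheme.{u}} (f : X ⟶ Y)
    [h : GeometricallyIrreducible f] : GeometricallyConnected f :=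
  ⟨fun _ _ y Z fst snd hp =>
    have : IrreducibleSpace ↥Z := h.geometrically_irreducibleSpace y fst snd hp
    inferInstance⟩

theorem geometricallyIrreducible_specMap {k L : Type u} [Field k] [Field L] [Algebra k L]
    (hL : separableClosure k L = ⊥) :
    GeometricallyIrreducible (Spec.map (CommRingCat.ofHom (algebraMap k L))) := by
  refine ⟨geometrically_iff_of_commRing_of_isClosedUnderIsomorphisms.mpr fun K _ _ => ?_⟩
  have := irreducibleSpace_tensor hL K
  have : IrreducibleSpace (PrimeSpectrum (TensorProduct k L K)) :=
    (PrimeSpectrum.homeomorphOfRingEquiv (Algebra.TensorProduct.comm k K L).toRingEquiv)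
      |>.irreducibleSpace_iff.mp inferInstance
  exact (pullbackSpecIso k L K).hom.homeomorph.irreducibleSpace_iff.mpr this

theorem geometricallyIrreducible_specMap_of_isSepClosed {k L : Type u} [Field k] [Field L]
    [IsSepClosed k] (σ : k →+* L) :
    GeometricallyIrreducible (Spec.map (CommRingCat.ofHom σ)) := by
  let := σ.toAlgebra
  exact geometricallyIrreducible_specMap (L := L) separableClosure_eq_bot_of_isSepClosed

/-- Any `k`-scheme base changes surjectively along a surjective morphism of the base. -/
theorem exists_surjective_pullback {X S T T' : Scheme.{u}} (f : X ⟶ S) (t : T ⟶ S) (b : T' ⟶ T)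
    [Surjective b] (t' : T' ⟶ S) (ht : b ≫ t = t') :
    ∃ h : pullback f t' ⟶ pullback f t, Surjective h ∧
      h ≫ pullback.fst f t = pullback.fst f t' ∧ h ≫ pullback.snd f t = pullback.snd f t' ≫ b := by
  subst ht
  refine ⟨(pullbackLeftPullbackSndIso f t b).inv ≫ pullback.fst _ _, inferInstance, ?_, ?_⟩
  · simp
  · simp [pullback.condition]

/-- Two field valued points with the same image are dominated by an algebraically closed one. -/
theorem exists_common_field {S : Scheme.{u}} {K L : Type u} [Field K] [Field L]
    (a : Spec (CommRingCat.of K) ⟶ S) (b : Spec (CommRingCat.of L) ⟶ S)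
    (h : ∃ s t, a s = b t) :
    ∃ (Ω : Type u) (_ : Field Ω) (_ : IsAlgClosed Ω) (i : K →+* Ω) (j : L →+* Ω),
      Spec.map (CommRingCat.ofHom i) ≫ a = Spec.map (CommRingCat.ofHom j) ≫ b := by
  obtain ⟨s, t, hst⟩ := h
  obtain ⟨z, -, -⟩ := Scheme.Pullback.exists_preimage_pullback s t hst
  let P := (pullback a b).residueField z
  let Ω := AlgebraicClosure P
  let g : Spec (CommRingCat.of Ω) ⟶ pullback a b :=
    Spec.map (CommRingCat.ofHom (algebraMap P Ω)) ≫ (pullback a b).fromSpecResidueField z
  obtain ⟨φ, hφ⟩ := Spec.map_surjective (g ≫ pullback.fst a b)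
  obtain ⟨ψ, hψ⟩ := Spec.map_surjective (g ≫ pullback.snd a b)
  refine ⟨Ω, inferInstance, inferInstance, φ.hom, ψ.hom, ?_⟩
  simp [hφ, hψ, pullback.condition]

theorem exists_common_field' {k K L : Type u} [Field k] [Field K] [Field L]
    (a : k →+* K) (b : k →+* L) :
    ∃ (Ω : Type u) (_ : Field Ω) (_ : IsAlgClosed Ω) (i : K →+* Ω) (j : L →+* Ω),
      i.comp a = j.comp b := by
  obtain ⟨Ω, _, _, i, j, h⟩ := exists_common_field (Spec.map (CommRingCat.ofHom a))
    (Spec.map (CommRingCat.ofHom b)) ⟨Classical.arbitrary _, Classical.arbitrary _, Subsingleton.elim _ _⟩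
  refine ⟨Ω, inferInstance, inferInstance, i, j, ?_⟩
  rw [← Spec.map_comp, ← Spec.map_comp] at h
  exact congrArg CommRingCat.Hom.hom (Spec.map_injective h)

section OverField

variable {k : Type u} [Field k] {X : Scheme.{u}} (f : X ⟶ Spec (CommRingCat.of k))
  {K : Type u} [Field K]

theorem geometricallyIrreducible_fst [IsSepClosed k] (σ : k →+* K) :
    GeometricallyIrreducible (pullback.fst f (Spec.map (CommRingCat.ofHom σ))) :=
  have := geometricallyIrreducible_specMap_of_isSepClosed σ
  inferInstance

theorem geometricallyConnected_fst [IsSepClosed k] (σ : k →+* K) :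
    GeometricallyConnected (pullback.fst f (Spec.map (CommRingCat.ofHom σ))) :=
  have := geometricallyIrreducible_fst f σ
  geometricallyConnected_of_geometricallyIrreducible _

/-- Base change from a separably closed field preserves irreducible subsets. -/
theorem isIrreducible_preimage_fst [IsSepClosed k] (σ : k →+* K) {s : Set X}
    (hs : IsIrreducible s) :
    IsIrreducible (pullback.fst f (Spec.map (CommRingCat.ofHom σ)) ⁻¹' s) :=
  have := geometricallyIrreducible_fst f σ
  (pullback.fst f (Spec.map (CommRingCat.ofHom σ))).isIrreducible_preimage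
    (pullback.fst f (Spec.map (CommRingCat.ofHom σ))).isOpenMap hs

/-- Base change from a separably closed field preserves connected subsets. -/
theorem isConnected_preimage_fst [IsSepClosed k] (σ : k →+* K) {s : Set X}
    (hs : _root_.IsConnected s) :
    _root_.IsConnected (pullback.fst f (Spec.map (CommRingCat.ofHom σ)) ⁻¹' s) :=
  have := geometricallyConnected_fst f σ
  isConnected_preimage_of_connected_fibres (Scheme.Hom.continuous _) (Scheme.Hom.isOpenMap _)
    (Scheme.Hom.surjective _) (Scheme.Hom.isConnected_preimage_singleton _) hs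

/-- Over a separably closed extension `K` and any extension `L`, a common larger extension. -/
theorem exists_dominating (σ : k →+* K) {L : Type u} [Field L] (τ : k →+* L) :
    ∃ (Ω : Type u) (_ : Field Ω) (_ : IsAlgClosed Ω) (i : K →+* Ω)
      (h : pullback (pullback.snd f (Spec.map (CommRingCat.ofHom σ))) (Spec.map (CommRingCat.ofHom i)) ⟶
        pullback f (Spec.map (CommRingCat.ofHom τ))),
      Surjective h ∧ ∀ x, pullback.fst f (Spec.map (CommRingCat.ofHom τ)) (h x) =
        pullback.fst f (Spec.map (CommRingCat.ofHom σ)) (pullback.fst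
          (pullback.snd f (Spec.map (CommRingCat.ofHom σ))) (Spec.map (CommRingCat.ofHom i)) x) := by
  obtain ⟨Ω, _, _, i, j, hij⟩ := exists_common_field' σ τ
  let tK := Spec.map (CommRingCat.ofHom σ)
  obtain ⟨h, hsurj, hh, -⟩ := exists_surjective_pullback f (Spec.map (CommRingCat.ofHom τ))
    (Spec.map (CommRingCat.ofHom j)) (Spec.map (CommRingCat.ofHom i) ≫ tK)
    (by rw [← Spec.map_comp, ← Spec.map_comp]; exact congrArg _ (congrArg _ hij.symm))
  let e := pullbackLeftPullbackSndIso f tK (Spec.map (CommRingCat.ofHom i))
  refine ⟨Ω, inferInstance, inferInstance, i, e.hom ≫ h, inferInstance, fun x => ?_⟩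
  rw [← Scheme.Hom.comp_apply, Category.assoc, hh, pullbackLeftPullbackSndIso_hom_fst,
    Scheme.Hom.comp_apply]

/-- A subset whose preimage over a separably closed extension is connected is geometrically so. -/
theorem isConnected_preimage_of_sepClosed (σ : k →+* K) [IsSepClosed K] {s : Set X}
    (hs : _root_.IsConnected (pullback.fst f (Spec.map (CommRingCat.ofHom σ)) ⁻¹' s))
    {L : Type u} [Field L] (τ : k →+* L) :
    _root_.IsConnected (pullback.fst f (Spec.map (CommRingCat.ofHom τ)) ⁻¹' s) := by
  obtain ⟨Ω, _, _, i, h, hsurj, hh⟩ := exists_dominating f σ τ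
  have h1 := (isConnected_preimage_fst (pullback.snd f (Spec.map (CommRingCat.ofHom σ))) i hs).image
    h (Scheme.Hom.continuous _).continuousOn
  convert h1 using 1
  ext x
  refine ⟨fun hx => ?_, ?_⟩
  · obtain ⟨w, rfl⟩ := h.surjective x
    exact ⟨w, by simpa only [Set.mem_preimage, ← hh] using hx, rfl⟩
  · rintro ⟨w, hw, rfl⟩
    simpa only [Set.mem_preimage, hh] using hw

/-- A subset whose preimage over a separably closed extension is irreducible is geometrically so. -/
theorem isIrreducible_preimage_of_sepClosed (σ : k →+* K) [IsSepClosed K] {s : Set X}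
    (hs : IsIrreducible (pullback.fst f (Spec.map (CommRingCat.ofHom σ)) ⁻¹' s))
    {L : Type u} [Field L] (τ : k →+* L) :
    IsIrreducible (pullback.fst f (Spec.map (CommRingCat.ofHom τ)) ⁻¹' s) := by
  obtain ⟨Ω, _, _, i, h, hsurj, hh⟩ := exists_dominating f σ τ
  have h1 := (isIrreducible_preimage_fst (pullback.snd f (Spec.map (CommRingCat.ofHom σ))) i hs).image
    h (Scheme.Hom.continuous _).continuousOn
  convert h1 using 1
  ext x
  refine ⟨fun hx => ?_, ?_⟩
  · obtain ⟨w, rfl⟩ := h.surjective x
    exact ⟨w, by simpa only [Set.mem_preimage, ← hh] using hx, rfl⟩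
  · rintro ⟨w, hw, rfl⟩
    simpa only [Set.mem_preimage, hh] using hw

/-- A scheme connected over one separably closed extension is geometrically connected. -/
theorem geometricallyConnected_of_sepClosed (σ : k →+* K) [IsSepClosed K]
    [ConnectedSpace ↥(pullback f (Spec.map (CommRingCat.ofHom σ)))] : GeometricallyConnected f := by
  refine ⟨geometrically_iff_of_commRing_of_isClosedUnderIsomorphisms.mpr fun L _ _ => ?_⟩
  rw [connectedSpace_iff_univ]
  have := isConnected_preimage_of_sepClosed f σ (s := Set.univ)
    (by simpa using isConnected_univ) (algebraMap k L)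
  simpa using this

/-- A scheme irreducible over one separably closed extension is geometrically irreducible. -/
theorem geometricallyIrreducible_of_sepClosed (σ : k →+* K) [IsSepClosed K]
    [IrreducibleSpace ↥(pullback f (Spec.map (CommRingCat.ofHom σ)))] :
    GeometricallyIrreducible f := by
  refine ⟨geometrically_iff_of_commRing_of_isClosedUnderIsomorphisms.mpr fun L _ _ => ?_⟩
  rw [irreducibleSpace_def]
  have := isIrreducible_preimage_of_sepClosed f σ (s := Set.univ)
    (by simpa using IrreducibleSpace.isIrreducible_univ _) (algebraMap k L)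
  simpa using this

theorem isClosedMap_fst [Algebra k K] [Algebra.IsAlgebraic k K] :
    IsClosedMap (pullback.fst f (Spec.map (CommRingCat.ofHom (algebraMap k K)))) := by
  have : IsIntegralHom (Spec.map (CommRingCat.ofHom (algebraMap k K))) :=
    IsIntegralHom.SpecMap_iff.mpr (fun x => (Algebra.IsAlgebraic.isAlgebraic x).isIntegral)
  exact Scheme.Hom.isClosedMap _

/-- If a connected subset contains the image of a geometrically connected nonempty scheme then
it is geometrically connected. -/
theorem isConnected_preimage_of_geometricallyConnected_source {Y : Scheme.{u}} (g : Y ⟶ X)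
    [GeometricallyConnected (g ≫ f)] {s : Set X} (hs : _root_.IsPreconnected s) (hgs : Set.range g ⊆ s)
    (y : Y) {L : Type u} [Field L] (τ : k →+* L) :
    _root_.IsConnected (pullback.fst f (Spec.map (CommRingCat.ofHom τ)) ⁻¹' s) := by
  refine isConnected_preimage_of_sepClosed f (algebraMap k (AlgebraicClosure k)) ?_ τ
  let t := Spec.map (CommRingCat.ofHom (algebraMap k (AlgebraicClosure k)))
  let h : pullback (g ≫ f) t ⟶ pullback f t :=
    pullback.map (g ≫ f) t f t g (𝟙 _) (𝟙 _) (by simp) (by simp)
  have hr : Set.range h = pullback.fst f t ⁻¹' Set.range g := by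
    rw [Scheme.Pullback.range_map]
    simp
  have : ConnectedSpace ↥(pullback (g ≫ f) t) :=
    pullback_of_geometrically GeometricallyConnected.geometrically_connectedSpace _ t
  refine isConnected_preimage_of_open_closed (Scheme.Hom.isOpenMap _) (isClosedMap_fst f) hs
    (T := Set.range h) (isConnected_range h.continuous) ?_ (b := g y) (hgs ⟨y, rfl⟩) ?_
  · rw [hr]; exact Set.preimage_mono hgs
  · rw [hr]; exact Set.preimage_mono (Set.singleton_subset_iff.mpr ⟨y, rfl⟩)

theorem geometricallyConnected_of_source {Y : Scheme.{u}} (g : Y ⟶ X) [Nonempty Y]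
    [ConnectedSpace X] [GeometricallyConnected (g ≫ f)] : GeometricallyConnected f := by
  refine ⟨geometrically_iff_of_commRing_of_isClosedUnderIsomorphisms.mpr fun L _ _ => ?_⟩
  rw [connectedSpace_iff_univ]
  have := isConnected_preimage_of_geometricallyConnected_source f g (s := Set.univ)
    (PreconnectedSpace.isPreconnected_univ (α := X)) (Set.subset_univ _) (Classical.arbitrary Y) (algebraMap k L)
  simpa using this

end OverField

end Groth.Agent.FBase64
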