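import Groth.Agent.FBase64.PointCmp

/-!
Products with geometrically reduced schemes; invariance under field extensions.
-/

universe u

namespace Groth.Agent.FBase64

open CategoryTheory CategoryTheory.Limits AlgebraicGeometry TensorProduct

variable {k : Type u} [Field k] {X : Scheme.{u}} (f : X ⟶ Spec (CommRingCat.of k))

theorem isGeometricallyReduced_chart [GeometricallyReduced f] {A : Type u} [CommRing A] [Algebra k A]
    (j : Spec (CommRingCat.of A) ⟶ X) [IsOpenImmersion j]
    (hj : j ≫ f = Spec.map (CommRingCat.ofHom (algebraMap k A))) :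
    Algebra.IsGeometricallyReduced k A := by
  rw [Algebra.isGeometricallyReduced_field_iff]
  let tK := Spec.map (CommRingCat.ofHom (algebraMap k (AlgebraicClosure k)))
  have : AlgebraicGeometry.IsReduced (pullback f tK) :=
    pullback_of_geometrically GeometricallyReduced.geometrically_isReduced _ _
  have h1 := isReduced_of_isOpenImmersion (prodChart f tK j (𝟙 _) hj (Category.id_comp _))
  have h2 : _root_.IsReduced (A ⊗[k] AlgebraicClosure k) := (affine_isReduced_iff _).mp h1
  exact isReduced_tensor_comm

theorem isReduced_pullback_of_geometricallyReduced [GeometricallyReduced f] {S : Scheme.{u}}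
    (g : S ⟶ Spec (CommRingCat.of k)) [AlgebraicGeometry.IsReduced S] :
    AlgebraicGeometry.IsReduced (pullback f g) := by
  have (z : ↥(pullback f g)) : _root_.IsReduced ((pullback f g).presheaf.stalk z) := by
    obtain ⟨A, _, _, j, _, hx, hj⟩ := exists_chart f (pullback.fst f g z)
    obtain ⟨B, _, _, j', _, hy, hj'⟩ := exists_chart g (pullback.snd f g z)
    obtain ⟨P, hP⟩ : z ∈ Set.range (prodChart f g j j' hj hj') := by
      rw [range_prodChart]; exact ⟨hx, hy⟩
    have := isGeometricallyReduced_chart f j hj
    have : _root_.IsReduced B := (affine_isReduced_iff _).mp (isReduced_of_isOpenImmersion j')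
    have : _root_.IsReduced (B ⊗[k] A) := isReduced_tensor_of_geomReduced k A B
    have : _root_.IsReduced (A ⊗[k] B) := isReduced_tensor_comm
    obtain ⟨e⟩ := nonempty_stalkEquiv (prodChart f g j j' hj hj') P
    rw [← hP]
    exact isReduced_of_injective e e.injective
  exact isReduced_of_isReduced_stalk _

theorem geometricallyReduced_pullback' {Y : Scheme.{u}} (g : Y ⟶ Spec (CommRingCat.of k))
    [GeometricallyReduced f] [GeometricallyReduced g] :
    GeometricallyReduced (pullback.fst f g ≫ f) := by
  rw [pullback.condition]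
  refine ⟨geometrically_iff_of_commRing_of_isClosedUnderIsomorphisms.mpr fun K _ _ => ?_⟩
  have : AlgebraicGeometry.IsReduced (pullback g (Spec.map (CommRingCat.ofHom (algebraMap k K)))) :=
    pullback_of_geometrically GeometricallyReduced.geometrically_isReduced _ _
  have := isReduced_pullback_of_geometricallyReduced f
    (pullback.fst g (Spec.map (CommRingCat.ofHom (algebraMap k K))) ≫ g)
  exact isReduced_of_isOpenImmersion
    (pullbackAssoc f g g (Spec.map (CommRingCat.ofHom (algebraMap k K)))).hom

theorem exists_iso_comp_fst {W S T T' : Scheme.{u}} (f : W ⟶ S) (t : T ⟶ S) (b : T' ⟶ T) (t' : T' ⟶ S)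
    (ht : b ≫ t = t') : ∃ e : pullback (pullback.snd f t) b ⟶ pullback f t',
      IsIso e ∧ e ≫ pullback.fst f t' = pullback.fst (pullback.snd f t) b ≫ pullback.fst f t := by
  subst ht
  exact ⟨(pullbackLeftPullbackSndIso f t b).hom, inferInstance,
    pullbackLeftPullbackSndIso_hom_fst f t b⟩

theorem exists_bcIso (K L : Type u) [Field K] [Field L] [Algebra k K] [Algebra K L] [Algebra k L]
    [IsScalarTower k K L] :
    ∃ e : FBase.bc (FBase.bcStr f K) L ⟶ FBase.bc f L, IsIso e ∧
      e ≫ FBase.bcπ f L = FBase.bcπ (FBase.bcStr f K) L ≫ FBase.bcπ f K := by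
  let tK := Spec.map (CommRingCat.ofHom (algebraMap k K))
  let tL := Spec.map (CommRingCat.ofHom (algebraMap K L))
  have ht : tL ≫ tK = Spec.map (CommRingCat.ofHom (algebraMap k L)) := by
    rw [← Spec.map_comp, ← CommRingCat.ofHom_comp, ← IsScalarTower.algebraMap_eq]
  exact exists_iso_comp_fst f tK tL _ ht

theorem isGeomPtIntegralAt_iff_bcStr {K : Type u} [Field K] [Algebra k K] (x' : ↥(FBase.bc f K)) :
    FBase.IsGeomPtIntegralAt f (FBase.bcπ f K x') ↔
      FBase.IsGeomPtIntegralAt (FBase.bcStr f K) x' := by
  constructor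
  · intro h L _ _ z hz
    let : Algebra k L := ((algebraMap K L).comp (algebraMap k K)).toAlgebra
    have : IsScalarTower k K L := IsScalarTower.of_algebraMap_eq' rfl
    obtain ⟨e, _, he⟩ := exists_bcIso f K L
    have := h L (e z) (((Scheme.Hom.comp_apply e (FBase.bcπ f L) z).symm.trans
      (congrArg (fun t : FBase.bc (FBase.bcStr f K) L ⟶ X => t z) he)).trans (congrArg _ hz))
    exact isDomain_stalk_of_iso e z
  · intro h
    let L := AlgebraicClosure K
    obtain ⟨e, _, he⟩ := exists_bcIso f K L
    obtain ⟨z, hz⟩ := (pullback.fst (FBase.bcStr f K)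
      (Spec.map (CommRingCat.ofHom (algebraMap K L)))).surjective x'
    have h1 : IsDomain ((FBase.bc (FBase.bcStr f K) L).presheaf.stalk z) := h L z hz
    have h2 : IsDomain ((FBase.bc f L).presheaf.stalk (e z)) := isDomain_stalk_of_flat e z
    exact isGeomPtIntegralAt_of_isAlgClosed f (Ω := L) _ (e z)
      (((Scheme.Hom.comp_apply e (FBase.bcπ f L) z).symm.trans
        (congrArg (fun t : FBase.bc (FBase.bcStr f K) L ⟶ X => t z) he)).trans (congrArg _ hz))

theorem geometricallyReduced_of_bcStr (K : Type u) [Field K] [Algebra k K]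
    [GeometricallyReduced (FBase.bcStr f K)] : GeometricallyReduced f := by
  let L := AlgebraicClosure K
  obtain ⟨e, _, -⟩ := exists_bcIso f K L
  have : AlgebraicGeometry.IsReduced (FBase.bc (FBase.bcStr f K) L) :=
    pullback_of_geometrically GeometricallyReduced.geometrically_isReduced _ _
  have := isReduced_of_isOpenImmersion (inv e)
  exact geometricallyReduced_of_isReduced_perfect f L

end Groth.Agent.FBase64
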