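import Mathlib.RingTheory.Nilpotent.GeometricallyReduced
import Mathlib.RingTheory.Unramified.Field
import Mathlib.RingTheory.Jacobson.Ring
import Mathlib.RingTheory.TensorProduct.Free
import Mathlib.RingTheory.TensorProduct.Finite
import Mathlib.FieldTheory.Perfect
import Mathlib.FieldTheory.IsAlgClosed.AlgebraicClosure

/-!
Tensor products over fields: domains and reduced rings.
-/

namespace Groth.Agent.FBase64

open TensorProduct

section Coord

variable {k A A' B : Type*} [Field k] [CommRing A] [CommRing A'] [CommRing B]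
  [Algebra k A] [Algebra k A'] [Algebra k B]

theorem coord_map (φ : A →ₐ[k] A') {ι : Type*} (b : Module.Basis ι k B) (x : A ⊗[k] B) (i : ι) :
    (Algebra.TensorProduct.basis A' b).repr (Algebra.TensorProduct.map φ (AlgHom.id k B) x) i =
      φ ((Algebra.TensorProduct.basis A b).repr x i) := by
  induction x with
  | zero => simp
  | tmul a c =>
    simp [Algebra.TensorProduct.basis_repr_tmul]
  | add x y hx hy => simp [hx, hy]

theorem eq_zero_of_forall_map {J : Type*} {C : J → Type*} [∀ j, CommRing (C j)]
    [∀ j, Algebra k (C j)] (φ : ∀ j, A →ₐ[k] C j) (hφ : ∀ a, (∀ j, φ j a = 0) → a = 0)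
    (x : A ⊗[k] B) (hx : ∀ j, Algebra.TensorProduct.map (φ j) (AlgHom.id k B) x = 0) : x = 0 := by
  let b := Module.Free.chooseBasis k B
  apply (Algebra.TensorProduct.basis A b).repr.injective
  ext i
  rw [map_zero, Finsupp.zero_apply]
  refine hφ _ fun j => ?_
  rw [← coord_map, hx j, map_zero, Finsupp.zero_apply]

theorem map_injective_left (φ : A →ₐ[k] A') (hφ : Function.Injective φ) :
    Function.Injective (Algebra.TensorProduct.map φ (AlgHom.id k B)) :=
  Module.Flat.rTensor_preserves_injective_linearMap (M := B) φ.toLinearMap hφ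

theorem isReduced_tensor_of_forall_prime [IsReduced A]
    (h : ∀ p : Ideal A, p.IsPrime → IsReduced ((A ⧸ p) ⊗[k] B)) : IsReduced (A ⊗[k] B) := by
  refine ⟨fun x hx => eq_zero_of_forall_map
    (C := fun p : {p : Ideal A // p.IsPrime} => A ⧸ p.1)
    (fun p => Ideal.Quotient.mkₐ k p.1) (fun a ha => ?_) x fun p => ?_⟩
  · refine eq_zero_of_localization a fun M hM => ?_
    have : IsNilpotent a := by
      rw [nilpotent_iff_mem_prime]
      exact fun J hJ => Ideal.Quotient.eq_zero_iff_mem.mp (ha ⟨J, hJ⟩)
    rw [this.eq_zero, map_zero]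
  · have := h p.1 p.2
    exact (hx.map _).eq_zero

theorem isReduced_tensor_comm [IsReduced (A ⊗[k] B)] : IsReduced (B ⊗[k] A) :=
  isReduced_of_injective (Algebra.TensorProduct.comm k B A)
    (Algebra.TensorProduct.comm k B A).injective

theorem exists_fg_range (x : A ⊗[k] B) : ∃ A0 : Subalgebra k A, A0.FG ∧
    x ∈ (Algebra.TensorProduct.map A0.val (AlgHom.id k B)).range := by
  obtain ⟨J, ⟨s, hs⟩, y, rfl⟩ := Submodule.exists_fg_le_eq_rTensor_subtype x
  refine ⟨Algebra.adjoin k (s : Set A), ⟨s, rfl⟩, ?_⟩
  have hle : J ≤ Subalgebra.toSubmodule (Algebra.adjoin k (s : Set A)) := by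
    rw [← hs]
    exact Submodule.span_le.mpr Algebra.subset_adjoin
  refine ⟨LinearMap.rTensor B (Submodule.inclusion hle) y, ?_⟩
  change LinearMap.rTensor B (Subalgebra.toSubmodule (Algebra.adjoin k (s : Set A))).subtype
    (LinearMap.rTensor B (Submodule.inclusion hle) y) = LinearMap.rTensor B J.subtype y
  rw [← LinearMap.rTensor_comp_apply]
  rfl

theorem range_mono {A0 A1 : Subalgebra k A} (h : A0 ≤ A1) :
    (Algebra.TensorProduct.map A0.val (AlgHom.id k B)).range ≤
      (Algebra.TensorProduct.map A1.val (AlgHom.id k B)).range := by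
  rintro x ⟨y, rfl⟩
  refine ⟨Algebra.TensorProduct.map (Subalgebra.inclusion h) (AlgHom.id k B) y, ?_⟩
  induction y with
  | zero => simp
  | tmul a b => simp
  | add y z hy hz => simp only [map_add] at hy hz ⊢; rw [hy, hz]

theorem noZeroDivisors_tensor_of_forall_fg
    (h : ∀ A0 : Subalgebra k A, A0.FG → NoZeroDivisors (A0 ⊗[k] B)) :
    NoZeroDivisors (A ⊗[k] B) := by
  refine ⟨fun {x y} hxy => ?_⟩
  obtain ⟨A0, h0, hx⟩ := exists_fg_range x
  obtain ⟨A1, h1, hy⟩ := exists_fg_range y
  have := h _ (h0.sup h1)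
  obtain ⟨x', rfl⟩ := range_mono (le_sup_left : A0 ≤ A0 ⊔ A1) hx
  obtain ⟨y', rfl⟩ := range_mono (le_sup_right : A1 ≤ A0 ⊔ A1) hy
  have hinj := map_injective_left (B := B) (A0 ⊔ A1).val Subtype.val_injective
  have : x' * y' = 0 := hinj (by rw [map_zero, map_mul]; exact hxy)
  rcases eq_zero_or_eq_zero_of_mul_eq_zero this with h | h <;> simp [h]

end Coord

section AlgClosed

variable (k A B : Type*) [Field k] [IsAlgClosed k] [CommRing A] [CommRing B]
  [Algebra k A] [Algebra k B]

theorem exists_algHom_ker_eq [Algebra.FiniteType k A] (m : Ideal A) [m.IsMaximal] :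
    ∃ φ : A →ₐ[k] k, ∀ a, φ a = 0 ↔ a ∈ m := by
  let := Ideal.Quotient.field m
  have : Module.Finite k (A ⧸ m) := finite_of_finite_type_of_isJacobsonRing k (A ⧸ m)
  let e : k ≃ₐ[k] A ⧸ m := AlgEquiv.ofBijective (Algebra.ofId k (A ⧸ m))
    (IsAlgClosed.algebraMap_bijective_of_isIntegral (k := k) (K := A ⧸ m))
  refine ⟨e.symm.toAlgHom.comp (Ideal.Quotient.mkₐ k m), fun a => ?_⟩
  simp [Ideal.Quotient.eq_zero_iff_mem]

theorem isDomain_tensor_of_isAlgClosed [IsDomain A] [IsDomain B] : IsDomain (A ⊗[k] B) := by
  have : Nontrivial (A ⊗[k] B) :=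
    (Algebra.TensorProduct.includeRight_injective (R := k) (A := A) (B := B)
      (algebraMap k A).injective).nontrivial
  suffices NoZeroDivisors (A ⊗[k] B) from NoZeroDivisors.to_isDomain _
  refine noZeroDivisors_tensor_of_forall_fg fun A0 h0 => ⟨fun {x y} hxy => ?_⟩
  have : Algebra.FiniteType k A0 := A0.fg_iff_finiteType.mp h0
  have : IsJacobsonRing A0 := isJacobsonRing_of_finiteType (A := k)
  let b := Module.Free.chooseBasis k B
  let X := (Algebra.TensorProduct.basis A0 b).repr x
  let Y := (Algebra.TensorProduct.basis A0 b).repr y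
  have key : ∀ i j, X i * Y j = 0 := fun i j => by
    have hj : X i * Y j ∈ Ideal.jacobson (⊥ : Ideal A0) := by
      refine Submodule.mem_sInf.mpr fun m ⟨_, hm⟩ => ?_
      obtain ⟨φ, hφ⟩ := exists_algHom_ker_eq k A0 m
      have h2 : Algebra.TensorProduct.map φ (AlgHom.id k B) x *
          Algebra.TensorProduct.map φ (AlgHom.id k B) y = 0 := by rw [← map_mul, hxy, map_zero]
      have : IsDomain (k ⊗[k] B) :=
        (Algebra.TensorProduct.lid k B).toMulEquiv.isDomain
      rcases eq_zero_or_eq_zero_of_mul_eq_zero h2 with h3 | h3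
      · refine Ideal.mul_mem_right _ m ((hφ _).mp ?_)
        rw [← coord_map, h3, map_zero, Finsupp.zero_apply]
      · refine Ideal.mul_mem_left m _ ((hφ _).mp ?_)
        rw [← coord_map, h3, map_zero, Finsupp.zero_apply]
    rwa [IsJacobsonRing.out this (Ideal.isPrime_bot (α := A0)).isRadical, Ideal.mem_bot] at hj
  by_cases hX : X = 0
  · exact Or.inl ((Algebra.TensorProduct.basis A0 b).repr.map_eq_zero_iff.mp hX)
  · obtain ⟨i, hi⟩ := Finsupp.ne_iff.mp hX
    right
    refine (Algebra.TensorProduct.basis A0 b).repr.map_eq_zero_iff.mp (Finsupp.ext fun j => ?_)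
    exact (mul_eq_zero.mp (key i j)).resolve_left hi

theorem isReduced_tensor_of_isAlgClosed [IsReduced A] [IsReduced B] : IsReduced (A ⊗[k] B) := by
  refine isReduced_tensor_of_forall_prime fun p hp => ?_
  have : IsReduced (B ⊗[k] (A ⧸ p)) := isReduced_tensor_of_forall_prime fun q hq => by
    have := isDomain_tensor_of_isAlgClosed k (B ⧸ q) (A ⧸ p)
    infer_instance
  exact isReduced_tensor_comm

end AlgClosed

section GeomReduced

universe v w

variable (k : Type*) [Field k] (A : Type v) (B : Type w) [CommRing A] [CommRing B]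
  [Algebra k A] [Algebra k B]

/-- Over a perfect field every reduced algebra is geometrically reduced. -/
theorem isGeometricallyReduced_of_perfectField [PerfectField k] [IsReduced A] :
    Algebra.IsGeometricallyReduced k A := by
  rw [Algebra.isGeometricallyReduced_field_iff]
  suffices IsReduced (A ⊗[k] AlgebraicClosure k) from isReduced_tensor_comm
  refine isReduced_tensor_of_forall_prime fun p hp => ?_
  let F := FractionRing (A ⧸ p)
  have : IsReduced (F ⊗[k] AlgebraicClosure k) := by
    refine IsReduced.tensorProduct_of_flat_of_forall_fg fun S hS => ?_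
    have : Algebra.FiniteType k S := S.fg_iff_finiteType.mp hS
    have : Algebra.IsIntegral k S := ⟨fun x =>
      (isIntegral_algHom_iff S.val Subtype.val_injective).mp (Algebra.IsIntegral.isIntegral _)⟩
    let : Field S := (isField_of_isIntegral_of_isField' (Field.toIsField k)).toField
    have : Algebra.IsSeparable k S := Algebra.IsAlgebraic.isSeparable_of_perfectField
    have := Algebra.FormallyUnramified.of_isSeparable k S
    exact Algebra.FormallyUnramified.isReduced_of_field F (F ⊗[k] S)
  exact isReduced_of_injective (Algebra.TensorProduct.map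
    (IsScalarTower.toAlgHom k (A ⧸ p) F) (AlgHom.id k (AlgebraicClosure k)))
    (map_injective_left _ (IsFractionRing.injective (A ⧸ p) F))

/-- A geometrically reduced algebra stays reduced after tensoring with any reduced algebra. -/
theorem isReduced_tensor_of_geomReduced [Algebra.IsGeometricallyReduced k A] [IsReduced B] :
    IsReduced (B ⊗[k] A) := by
  refine isReduced_tensor_of_forall_prime fun p hp => ?_
  let E := AlgebraicClosure (FractionRing (B ⧸ p))
  let σ : AlgebraicClosure k →ₐ[k] E := IsAlgClosed.lift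
  let := σ.toRingHom.toAlgebra
  have : IsScalarTower k (AlgebraicClosure k) E := IsScalarTower.of_algHom σ
  have h0 := (Algebra.isGeometricallyReduced_field_iff k A).mp ‹_›
  have h1 : IsReduced (E ⊗[AlgebraicClosure k] (AlgebraicClosure k ⊗[k] A)) :=
    isReduced_tensor_of_isAlgClosed _ _ _
  have h2 : IsReduced (E ⊗[k] A) := isReduced_of_injective
    (Algebra.TensorProduct.cancelBaseChange k (AlgebraicClosure k) (AlgebraicClosure k) E A).symm
    (AlgEquiv.injective _)
  refine isReduced_of_injective (Algebra.TensorProduct.map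
    (IsScalarTower.toAlgHom k (B ⧸ p) E) (AlgHom.id k A)) (map_injective_left _ ?_)
  exact (FaithfulSMul.algebraMap_injective (FractionRing (B ⧸ p)) E).comp
    (IsFractionRing.injective (B ⧸ p) (FractionRing (B ⧸ p)))

theorem isReduced_tensor_of_perfectField [PerfectField k] [IsReduced A] [IsReduced B] :
    IsReduced (B ⊗[k] A) :=
  have := isGeometricallyReduced_of_perfectField k A
  isReduced_tensor_of_geomReduced k A B

end GeomReduced

end Groth.Agent.FBase64
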