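import Groth.Agent.Len90.Multiplicity
import Mathlib.RingTheory.Nakayama
import Mathlib.RingTheory.Filtration
import Mathlib.RingTheory.Length
import Mathlib.RingTheory.Localization.Submodule
import Mathlib.RingTheory.Localization.Finiteness

/-! Associated primes, localisation and modules with cyclic reduction modulo an element. -/

universe u

namespace Groth.Agent.FBase64.AssAlg

open Module

variable {A : Type u} [CommRing A] {M : Type u} [AddCommGroup M] [Module A M]

lemma mk_eq_zero_iff (S : Submonoid A) (x : M) :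
    LocalizedModule.mkLinearMap S M x = 0 ↔ ∃ s ∈ S, s • x = 0 := by
  rw [IsLocalizedModule.eq_zero_iff S]
  exact ⟨fun ⟨s, hs⟩ => ⟨s.1, s.2, hs⟩, fun ⟨s, hs, h⟩ => ⟨⟨s, hs⟩, h⟩⟩

/-- An element killed near every associated prime vanishes. -/
lemma eq_zero_of_forall_ass [IsNoetherianRing A] (x : M)
    (h : ∀ p ∈ associatedPrimes A M, ∃ s ∉ p, s • x = 0) : x = 0 := by
  by_contra hx
  obtain ⟨P, hP, hle⟩ := exists_le_isAssociatedPrime_of_isNoetherianRing A x hx
  obtain ⟨s, hs, hsx⟩ := h P hP
  exact hs (hle (by rwa [Submodule.mem_colon_singleton, Submodule.mem_bot]))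

lemma mem_span_smul_top (t : A) (x : M) :
    x ∈ Ideal.span {t} • (⊤ : Submodule A M) ↔ ∃ y : M, t • y = x := by
  rw [Submodule.ideal_span_singleton_smul]
  constructor
  · intro h
    obtain ⟨y, -, hy⟩ := (Submodule.mem_smul_pointwise_iff_exists x t ⊤).mp h
    exact ⟨y, hy⟩
  · rintro ⟨y, rfl⟩
    exact Submodule.smul_mem_pointwise_smul y t ⊤ trivial

/-- Localisation commutes with reduction modulo an element. -/
lemma locLen_quotient_smul (p : Ideal A) [p.IsPrime] (t : A) :
    Len90.locLen p (M ⧸ (Ideal.span {t} • (⊤ : Submodule A M))) =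
      Module.length (Localization.AtPrime p) (LocalizedModule p.primeCompl M ⧸
        (Ideal.span {algebraMap A (Localization.AtPrime p) t} •
          (⊤ : Submodule (Localization.AtPrime p) (LocalizedModule p.primeCompl M)))) := by
  let S := p.primeCompl
  let N := Ideal.span {t} • (⊤ : Submodule A M)
  let g := LocalizedModule.map S N.mkQ
  have hg : Function.Surjective g :=
    IsLocalizedModule.map_surjective S (LocalizedModule.mkLinearMap S M)
      (LocalizedModule.mkLinearMap S _) N.mkQ N.mkQ_surjective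
  have hk : LinearMap.ker g = Ideal.span {algebraMap A (Localization.AtPrime p) t} • ⊤ := by
    have hex : Function.Exact (LinearMap.lsmul A M t) N.mkQ := by
      intro x
      rw [Submodule.mkQ_apply, Submodule.Quotient.mk_eq_zero]
      exact (mem_span_smul_top t x).trans Iff.rfl
    have hex' : Function.Exact (LocalizedModule.map S (LinearMap.lsmul A M t)) g :=
      IsLocalizedModule.map_exact S (LocalizedModule.mkLinearMap S M)
        (LocalizedModule.mkLinearMap S M) (LocalizedModule.mkLinearMap S _) _ _ hex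
    have hmul : ∀ y, LocalizedModule.map S (LinearMap.lsmul A M t) y =
        algebraMap A (Localization.AtPrime p) t • y := by
      intro y
      induction y using LocalizedModule.induction_on with
      | h m s => rw [LocalizedModule.map_mk, algebraMap_smul, LocalizedModule.smul'_mk]; rfl
    ext x
    rw [LinearMap.mem_ker, hex' x, mem_span_smul_top]
    exact ⟨fun ⟨y, hy⟩ => ⟨y, (hmul y).symm.trans hy⟩, fun ⟨y, hy⟩ => ⟨y, (hmul y).trans hy⟩⟩
  exact ((Submodule.quotEquivOfEq _ _ hk.symm).trans (g.quotKerEquivOfSurjective hg)).length_eq.symm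

/-- A finite module over a Noetherian local ring whose reduction modulo a non-nilpotent element has
length one is cyclic with prime annihilator, and that element is regular on it. -/
lemma cyclic_of_length_one [IsNoetherianRing A] [IsLocalRing A] [Module.Finite A M] (t : A)
    (ht : t ∈ IsLocalRing.maximalIdeal A)
    (hlen : Module.length A (M ⧸ (Ideal.span {t} • (⊤ : Submodule A M))) = 1)
    (hnil : ∀ n : ℕ, ∃ m : M, t ^ n • m ≠ 0) :
    IsSMulRegular M t ∧
      ∃ v : M, (∀ m, ∃ a : A, a • v = m) ∧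
      Ideal.IsPrime (LinearMap.ker (LinearMap.toSpanSingleton A M v)) := by
  set m := IsLocalRing.maximalIdeal A with hm
  let N := Ideal.span {t} • (⊤ : Submodule A M)
  have hsimple : IsSimpleModule A (M ⧸ N) := Module.length_eq_one_iff.mp hlen
  have := IsSimpleModule.nontrivial A (M ⧸ N)
  obtain ⟨w, hw⟩ := exists_ne (0 : M ⧸ N)
  obtain ⟨v, rfl⟩ := Submodule.Quotient.mk_surjective N w
  have hgen : ∀ x : M, ∃ a : A, x - a • v ∈ N := by
    intro x
    obtain ⟨a, ha⟩ := IsSimpleModule.toSpanSingleton_surjective A hw (Submodule.Quotient.mk x)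
    refine ⟨a, (Submodule.Quotient.mk_eq_zero N).mp ?_⟩
    rw [Submodule.Quotient.mk_sub, Submodule.Quotient.mk_smul]
    rw [LinearMap.toSpanSingleton_apply] at ha
    rw [ha, sub_self]
  have hspan : Submodule.span A {v} = ⊤ := by
    refine top_le_iff.mp (Submodule.le_of_le_smul_of_le_jacobson_bot (I := Ideal.span {t})
      Module.Finite.fg_top ?_ ?_)
    · rw [IsLocalRing.jacobson_eq_maximalIdeal ⊥ bot_ne_top, Ideal.span_le]
      exact Set.singleton_subset_iff.mpr ht
    · intro x _
      obtain ⟨a, ha⟩ := hgen x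
      exact Submodule.mem_sup.mpr
        ⟨a • v, Submodule.mem_span_singleton.mpr ⟨a, rfl⟩, x - a • v, ha, by abel⟩
  have hv : ∀ x : M, ∃ a : A, a • v = x := fun x =>
    Submodule.mem_span_singleton.mp (hspan ▸ Submodule.mem_top)
  have hkill : ∀ a ∈ m, ∃ r : A, a • v = (t * r) • v := by
    intro a ha
    have hzero : Submodule.Quotient.mk (p := N) (a • v) = 0 := by
      by_contra hne
      obtain ⟨b, hb⟩ := IsSimpleModule.toSpanSingleton_surjective A hne (Submodule.Quotient.mk v)
      rw [LinearMap.toSpanSingleton_apply, Submodule.Quotient.mk_smul, smul_smul] at hb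
      have hu : IsUnit (1 - b * a) := by
        by_contra hc
        exact (IsLocalRing.maximalIdeal.isMaximal A).ne_top ((Ideal.eq_top_iff_one _).mpr
          (sub_add_cancel (1 : A) (b * a) ▸ m.add_mem hc (m.mul_mem_left b ha)))
      exact hw (hu.smul_left_cancel.mp (by rw [sub_smul, one_smul, hb, sub_self, smul_zero]))
    obtain ⟨y, hy⟩ := (mem_span_smul_top t _).mp ((Submodule.Quotient.mk_eq_zero N).mp hzero)
    obtain ⟨r, rfl⟩ := hv y
    exact ⟨r, by rw [← hy, smul_smul]⟩
  have hnilv : ∀ n : ℕ, t ^ n • v ≠ 0 := fun n h => by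
    obtain ⟨x, hx⟩ := hnil n
    obtain ⟨a, rfl⟩ := hv x
    exact hx (by rw [smul_comm, h, smul_zero])
  have hform : ∀ y : M, y ≠ 0 → ∃ n : ℕ, ∃ c : A, IsUnit c ∧ y = (c * t ^ n) • v := by
    intro y hy
    by_contra hcon
    push Not at hcon
    refine hy ?_
    have hall : ∀ n : ℕ, ∃ c : A, y = (c * t ^ n) • v := by
      intro n
      induction n with
      | zero => obtain ⟨a, rfl⟩ := hv y; exact ⟨a, by simp⟩
      | succ n ih =>
        obtain ⟨c, hc⟩ := ih
        have hcm : c ∈ m := by
          rw [hm, IsLocalRing.mem_maximalIdeal, mem_nonunits_iff]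
          exact fun hu => hcon n c hu hc
        obtain ⟨r, hr⟩ := hkill c hcm
        refine ⟨r, ?_⟩
        rw [hc, mul_comm c, mul_smul, hr, smul_smul]
        congr 1
        ring
    have hmem : y ∈ (⨅ i : ℕ, Ideal.span {t} ^ i • ⊤ : Submodule A M) := by
      refine (Submodule.mem_iInf _).mpr fun n => ?_
      obtain ⟨c, hc⟩ := hall n
      rw [hc, mul_comm, mul_smul]
      exact Submodule.smul_mem_smul (Ideal.pow_mem_pow (Ideal.mem_span_singleton_self t) n) trivial
    rwa [Ideal.iInf_pow_smul_eq_bot_of_isLocalRing _ (fun h => (IsLocalRing.maximalIdeal.isMaximal A).ne_top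
      (top_le_iff.mp (h ▸ (Ideal.span_singleton_le_iff_mem m).mpr ht))), Submodule.mem_bot] at hmem
  refine ⟨(isSMulRegular_iff_right_eq_zero_of_smul (M := M) (r := t)).mpr fun y hy => ?_, v, hv,
    ⟨?_, fun {a b} hab => ?_⟩⟩
  · by_contra hne
    obtain ⟨n, c, hc, rfl⟩ := hform y hne
    rw [smul_smul] at hy
    exact hnilv (n + 1) (hc.smul_left_cancel.mp
      (by rw [smul_smul, smul_zero, ← hy]; congr 1; ring))
  · rw [Ne, Ideal.eq_top_iff_one, LinearMap.mem_ker, LinearMap.toSpanSingleton_apply, one_smul]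
    exact fun h => hnilv 0 (by simp [h])
  · simp only [LinearMap.mem_ker, LinearMap.toSpanSingleton_apply] at hab ⊢
    by_contra hcon
    push Not at hcon
    obtain ⟨n, c, hc, he⟩ := hform _ hcon.1
    obtain ⟨k, d, hd, he'⟩ := hform _ hcon.2
    refine hnilv (n + k) ((hc.mul hd).smul_left_cancel.mp ?_)
    rw [smul_zero, smul_smul]
    calc (c * d * t ^ (n + k)) • v = (d * t ^ k) • ((c * t ^ n) • v) := by
          rw [smul_smul]; congr 1; ring
      _ = a • (b • v) := by rw [← he, smul_comm, ← he']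
      _ = 0 := by rw [smul_smul, hab]

/-- The same at a prime of an arbitrary Noetherian ring. -/
lemma cyclic_atPrime [IsNoetherianRing A] [Module.Finite A M] (t : A) (p : Ideal A) [p.IsPrime]
    (ht : t ∈ p)
    (hlen : Len90.locLen p (M ⧸ (Ideal.span {t} • (⊤ : Submodule A M))) = 1)
    (hnil : ∃ q ∈ (Module.annihilator A M).minimalPrimes, q ≤ p ∧ t ∉ q) :
    (∀ x : M, t • x = 0 → ∃ s ∉ p, s • x = 0) ∧
      ∃ (v : M) (q : Ideal A), q.IsPrime ∧ q ≤ p ∧
        (∀ x : M, ∃ s ∉ p, ∃ a : A, s • x = a • v) ∧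
        (∀ a : A, a ∈ q ↔ ∃ s ∉ p, s • a • v = 0) := by
  obtain ⟨q₀, hq₀, hle, htq⟩ := hnil
  let S := p.primeCompl
  let R := Localization.AtPrime p
  let N := LocalizedModule S M
  have : IsNoetherianRing R := IsLocalization.isNoetherianRing S R inferInstance
  let f := LocalizedModule.mkLinearMap S M
  rw [locLen_quotient_smul] at hlen
  have hnil' : ∀ n : ℕ, ∃ y : N, algebraMap A R t ^ n • y ≠ 0 := by
    intro n
    by_contra hcon
    push Not at hcon
    have : ∀ x : M, ∃ s ∉ p, s • t ^ n • x = 0 := fun x => by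
      have h := hcon (f x)
      rw [← map_pow, algebraMap_smul, ← map_smul] at h
      exact (mk_eq_zero_iff S _).mp h
    obtain ⟨T, hT⟩ := Module.Finite.fg_top (R := A) (M := M)
    choose s hs hsx using this
    have hu : (∏ x ∈ T, s x) • t ^ n ∈ Module.annihilator A M := by
      rw [Module.mem_annihilator]
      have : Submodule.span A (T : Set M) ≤
          LinearMap.ker (LinearMap.lsmul A M ((∏ x ∈ T, s x) • t ^ n)) := by
        rw [Submodule.span_le]
        intro x hx
        rw [SetLike.mem_coe, LinearMap.mem_ker, LinearMap.lsmul_apply]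
        obtain ⟨c, hc⟩ := Finset.dvd_prod_of_mem s hx
        rw [hc, smul_eq_mul, mul_comm (s x) c, mul_assoc, mul_smul, mul_smul, hsx, smul_zero]
      intro x
      exact this (hT ▸ Submodule.mem_top)
    have hprod : (∏ x ∈ T, s x) ∈ p.primeCompl := prod_mem fun x _ => hs x
    rcases hq₀.1.1.mem_or_mem (smul_eq_mul (α := A) _ _ ▸ hq₀.1.2 hu) with h | h
    · exact hprod (hle h)
    · exact htq (hq₀.1.1.mem_of_pow_mem n h)
  obtain ⟨hreg, v', hv', hprime⟩ := cyclic_of_length_one (A := R) (M := N) (algebraMap A R t)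
    ((IsLocalization.AtPrime.to_map_mem_maximal_iff R p t).mpr ht) hlen hnil'
  refine ⟨fun x hx => ?_, ?_⟩
  · refine (mk_eq_zero_iff S x).mp (hreg ?_)
    change algebraMap A R t • f x = algebraMap A R t • 0
    rw [algebraMap_smul, ← map_smul, hx, map_zero, smul_zero]
  obtain ⟨⟨v, s₀⟩, rfl⟩ := IsLocalizedModule.mk'_surjective S f v'
  simp only [Function.uncurry_apply_pair] at hv' hprime
  have hfv : algebraMap A R s₀.1 • IsLocalizedModule.mk' f v s₀ = f v := by
    rw [algebraMap_smul]; exact IsLocalizedModule.mk'_cancel' f v s₀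
  have hs₀ : IsUnit (algebraMap A R s₀.1) := IsLocalization.map_units R s₀
  have hgen : ∀ y : N, ∃ c : R, c • f v = y := fun y => by
    obtain ⟨c, hc⟩ := hv' y
    refine ⟨c * ↑hs₀.unit⁻¹, ?_⟩
    rw [← hfv, smul_smul, mul_assoc, IsUnit.val_inv_mul, mul_one, hc]
  have hker : ∀ c : R, c • f v = 0 ↔
      c ∈ LinearMap.ker (LinearMap.toSpanSingleton R N (IsLocalizedModule.mk' f v s₀)) := fun c => by
    rw [LinearMap.mem_ker, LinearMap.toSpanSingleton_apply, ← hfv, smul_comm]
    exact ⟨fun h => hs₀.smul_left_cancel.mp (by rw [h, smul_zero]), fun h => by rw [h, smul_zero]⟩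
  let q := Ideal.comap (algebraMap A R)
    (LinearMap.ker (LinearMap.toSpanSingleton R N (IsLocalizedModule.mk' f v s₀)))
  refine ⟨v, q, hprime.comap _, fun a ha => ?_, fun x => ?_, fun a => ?_⟩
  · exact (IsLocalization.AtPrime.to_map_mem_maximal_iff R p a).mp
      (IsLocalRing.le_maximalIdeal hprime.ne_top ha)
  · obtain ⟨c, hc⟩ := hgen (f x)
    obtain ⟨a, s, rfl⟩ := IsLocalization.exists_mk'_eq S c
    obtain ⟨u, hu, hux⟩ := (mk_eq_zero_iff S (s.1 • x - a • v)).mp (by
      rw [map_sub, map_smul, map_smul, ← hc, ← algebraMap_smul R s.1, smul_smul,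
        IsLocalization.mk'_spec', algebraMap_smul, sub_self])
    refine ⟨u * s.1, p.primeCompl.mul_mem hu s.2, u * a, ?_⟩
    rw [smul_sub, sub_eq_zero] at hux
    rw [mul_smul, mul_smul, hux]
  · rw [Ideal.mem_comap, ← hker, algebraMap_smul, ← map_smul]
    exact mk_eq_zero_iff S _

end Groth.Agent.FBase64.AssAlg
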