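import Groth.Agent.FBase64.AssSheaf2
import Groth.Agent.FBase64.AssAlg
import Groth.Agent.FlatMor68.FibreStalk
import Mathlib.AlgebraicGeometry.Morphisms.Flat
import Mathlib.AlgebraicGeometry.Morphisms.Integral
import Mathlib.RingTheory.Ideal.GoingUp

/-! The structure sheaf: associated points and reducedness. -/

set_option autoImplicit false
set_option linter.style.haveILetI false
set_option backward.isDefEq.respectTransparency.types false

noncomputable section

universe u

open CategoryTheory AlgebraicGeometry Opposite TopologicalSpace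

namespace Groth.Agent.FBase64.AssSheaf

open Div89

variable {X Y : Scheme.{u}}

lemma mem_ass_structure_iff (x : X) :
    x ∈ AssSch.Ass (Coh.structureModule X) ↔
      IsAssociatedPrime (IsLocalRing.maximalIdeal (X.presheaf.stalk x)) (X.presheaf.stalk x) :=
  (mem_ass_iff _ x).trans (isWeakAssPoint_structureModule_iff' x)

/-- Every point has an associated generisation. -/
lemma exists_ass_specializes_structure (x : X) :
    ∃ y ∈ AssSch.Ass (Coh.structureModule X), y ⤳ x := by
  refine exists_ass_specializes _ (isQCoh_structureModule X) x ?_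
  obtain ⟨U, hxU⟩ := exists_affine_mem x
  rw [← not_subsingleton_iff_nontrivial, mem_support_iff_exists _ (isQCoh_structureModule X) U x hxU]
  refine ⟨(1 : Γ(X, U.1)), fun t ht => ?_⟩
  have : t = 0 := by
    have h : t * (1 : Γ(X, U.1)) = 0 := ht
    rwa [mul_one] at h
  rw [this]
  exact Ideal.zero_mem _

/-- Reducedness can be checked at associated points. -/
lemma isReduced_of_ass [IsLocallyNoetherian X]
    (h : ∀ x ∈ AssSch.Ass (Coh.structureModule X), _root_.IsReduced (X.presheaf.stalk x)) :
    IsReduced X := by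
  have : ∀ x : X, _root_.IsReduced (X.presheaf.stalk x) := by
    intro x
    obtain ⟨U, hxU⟩ := exists_affine_mem x
    haveI : IsNoetherianRing Γ(X, U.1) := IsLocallyNoetherian.component_noetherian U
    haveI : _root_.IsReduced Γ(X, U.1) := by
      refine ⟨fun b hb => AssAlg.eq_zero_of_forall_ass (A := Γ(X, U.1)) b fun p hp => ?_⟩
      haveI : p.IsPrime := IsAssociatedPrime.isPrime hp
      obtain ⟨y, hy, rfl⟩ := exists_point U p
      have hy' : y ∈ AssSch.Ass (Coh.structureModule X) := by
        rw [mem_ass_iff_weakAss _ (isQCoh_structureModule X) U y hy, weakAss_eq_associatedPrimes]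
        exact hp
      haveI := h y hy'
      letI := stalkAlg U.1 y hy
      haveI := isLocalization_stalk U y hy
      obtain ⟨s, hs⟩ := (IsLocalization.map_eq_zero_iff (primeAt U y hy).primeCompl
        (X.presheaf.stalk y) b).mp (hb.map (algebraMap _ _)).eq_zero
      exact ⟨s.1, s.2, hs⟩
    letI := stalkAlg U.1 x hxU
    haveI := isLocalization_stalk U x hxU
    exact isReduced_localizationPreserves (primeAt U x hxU).primeCompl (X.presheaf.stalk x) ‹_›
  exact isReduced_of_isReduced_stalk X

/-- The local ring of a reduced scheme at an associated point is a field. -/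
lemma maximalIdeal_eq_bot_of_reduced {A : Type u} [CommRing A] [IsLocalRing A] [_root_.IsReduced A]
    (h : IsAssociatedPrime (IsLocalRing.maximalIdeal A) A) : IsLocalRing.maximalIdeal A = ⊥ := by
  obtain ⟨-, a, ha⟩ := h
  have ha0 : a ≠ 0 := by
    rintro rfl
    refine (IsLocalRing.maximalIdeal.isMaximal A).ne_top (ha.trans ?_)
    rw [Ideal.eq_top_iff_one, Ideal.mem_radical_iff]
    exact ⟨1, by rw [Submodule.mem_colon_singleton, smul_zero]; exact Submodule.zero_mem _⟩
  by_cases hu : IsUnit a
  · refine eq_bot_iff.mpr fun b hb => ?_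
    rw [ha, Ideal.mem_radical_iff] at hb
    obtain ⟨n, hn⟩ := hb
    rw [Submodule.mem_colon_singleton, Submodule.mem_bot, smul_eq_mul, hu.mul_left_eq_zero] at hn
    exact (Submodule.mem_bot A).mpr (eq_zero_of_pow_eq_zero hn)
  · have hmem : a ∈ IsLocalRing.maximalIdeal A := (IsLocalRing.mem_maximalIdeal a).mpr hu
    rw [ha, Ideal.mem_radical_iff] at hmem
    obtain ⟨n, hn⟩ := hmem
    rw [Submodule.mem_colon_singleton, Submodule.mem_bot, smul_eq_mul, ← pow_succ] at hn
    exact absurd (eq_zero_of_pow_eq_zero hn) ha0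

/-- Algebraic form of `mem_ass_base_of_flat`. -/
lemma isAssociatedPrime_comap_of_flat {A B : Type u} [CommRing A] [CommRing B] [IsLocalRing A]
    [IsLocalRing B] [IsNoetherianRing A] [Algebra A B] [IsLocalHom (algebraMap A B)] [Module.Flat A B]
    (h : IsAssociatedPrime (IsLocalRing.maximalIdeal B) B) :
    IsAssociatedPrime (IsLocalRing.maximalIdeal A) A := by
  classical
  by_contra hcon
  have hfin := associatedPrimes.finite A A
  have hnot : ¬ (IsLocalRing.maximalIdeal A : Set A) ⊆ ⋃ p ∈ associatedPrimes A A, (p : Set A) := by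
    intro h
    rw [show (⋃ p ∈ associatedPrimes A A, (p : Set A)) = ⋃ p ∈ (hfin.toFinset : Set (Ideal A)), ((id p : Ideal A) : Set A) by simp] at h
    obtain ⟨p, hp, hle⟩ := (Ideal.subset_union_prime ⊥ ⊥
      (fun p hp _ _ => IsAssociatedPrime.isPrime (hfin.mem_toFinset.mp hp))).mp h
    have hp' := hfin.mem_toFinset.mp hp
    exact hcon (((IsLocalRing.maximalIdeal.isMaximal A).eq_of_le (IsAssociatedPrime.isPrime hp').ne_top hle).symm ▸ hp')
  obtain ⟨t, htm, ht⟩ := Set.not_subset.mp hnot
  rw [biUnion_associatedPrimes_eq_compl_nonZeroDivisors, Set.mem_compl_iff, not_not] at ht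
  have hreg : IsSMulRegular B t := Module.Flat.isSMulRegular_of_nonZeroDivisors ht
  obtain ⟨-, s, hs⟩ := h
  have hts : algebraMap A B t ∈ IsLocalRing.maximalIdeal B := by
    rw [SetLike.mem_coe, IsLocalRing.mem_maximalIdeal, mem_nonunits_iff] at htm
    rw [IsLocalRing.mem_maximalIdeal, mem_nonunits_iff]
    exact fun h => htm (IsLocalHom.map_nonunit t h)
  rw [hs, Ideal.mem_radical_iff] at hts
  obtain ⟨n, hn⟩ := hts
  rw [Submodule.mem_colon_singleton, Submodule.mem_bot, ← map_pow, algebraMap_smul] at hn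
  have hs0 : s = 0 := (hreg.pow n).right_eq_zero_of_smul hn
  refine (IsLocalRing.maximalIdeal.isMaximal B).ne_top (hs.trans ?_)
  rw [hs0, Ideal.eq_top_iff_one, Ideal.mem_radical_iff]
  exact ⟨1, by rw [Submodule.mem_colon_singleton, smul_zero]; exact Submodule.zero_mem _⟩

/-- Fibres of integral morphisms have no specialisations. -/
lemma eq_of_specializes_of_isIntegralHom (f : X ⟶ Y) [IsIntegralHom f] {x x' : X} (h : x' ⤳ x)
    (he : f x' = f x) : x' = x := by
  obtain ⟨U, hU⟩ := exists_affine_mem (f x)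
  let V : X.affineOpens := ⟨f ⁻¹ᵁ U.1, IsAffineHom.isAffine_preimage U.1 U.2⟩
  have hxV : x ∈ V.1 := hU
  have hxV' : x' ∈ V.1 := h.mem_open V.1.isOpen hxV
  letI : Algebra Γ(Y, U.1) Γ(X, V.1) := (f.appLE U.1 V.1 le_rfl).hom.toAlgebra
  haveI : Algebra.IsIntegral Γ(Y, U.1) Γ(X, V.1) := ⟨fun b => by
    have := f.isIntegral_app U.1 U.2 b
    rwa [← Scheme.Hom.appLE_eq_app] at this⟩
  have hle := (specializes_iff_primeAt_le V hxV hxV').1 h
  rcases hle.eq_or_lt with heq | hlt
  · exact primeAt_inj V hxV' hxV heq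
  · exfalso
    obtain ⟨-, b, hb, hb'⟩ := Set.ssubset_iff_exists.mp (SetLike.coe_ssubset_coe.mpr hlt)
    haveI := Div89.primeAt_isPrime V x' hxV'
    have := Ideal.comap_lt_comap_of_integral_mem_sdiff (R := Γ(Y, U.1)) (I := primeAt V x' hxV') hle ⟨hb, hb'⟩
      (Algebra.IsIntegral.isIntegral b)
    refine this.ne ?_
    have e1 := comap_primeAt f U V le_rfl x' hxV'
    have e2 := comap_primeAt f U V le_rfl x hxV
    change (primeAt V x' hxV').comap (f.appLE U.1 V.1 le_rfl).hom = (primeAt V x hxV).comap (f.appLE U.1 V.1 le_rfl).hom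
    rw [e1, e2]
    congr 1

end Groth.Agent.FBase64.AssSheaf
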