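import Groth.Agent.FBase64.Geometric
import Mathlib.AlgebraicGeometry.Geometrically.Reduced
import Mathlib.RingTheory.Localization.BaseChange
import Mathlib.RingTheory.Localization.LocalizationLocalization
import Mathlib.RingTheory.LocalProperties.Reduced

/-!
Affine charts of base changes and their local rings.
-/

universe u

namespace Groth.Agent.FBase64

open CategoryTheory CategoryTheory.Limits AlgebraicGeometry TensorProduct

variable {k : Type u} [Field k] {X : Scheme.{u}} (f : X ⟶ Spec (CommRingCat.of k))

theorem exists_chart (x : X) : ∃ (A : Type u) (_ : CommRing A) (_ : Algebra k A)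
    (j : Spec (CommRingCat.of A) ⟶ X), IsOpenImmersion j ∧ x ∈ Set.range j ∧
      j ≫ f = Spec.map (CommRingCat.ofHom (algebraMap k A)) := by
  obtain ⟨⟨R⟩, j, hji, hx, -⟩ :=
    Scheme.exists_affine_mem_range_and_range_subset (U := (⊤ : X.Opens)) (Set.mem_univ x)
  obtain ⟨φ, hφ⟩ := Spec.map_surjective (j ≫ f)
  let := φ.hom.toAlgebra
  exact ⟨R, inferInstance, inferInstance, j, hji, hx, hφ.symm⟩

section

variable {A B : Type u} [CommRing A] [Algebra k A] [CommRing B] [Algebra k B]
  {Y : Scheme.{u}} (g : Y ⟶ Spec (CommRingCat.of k))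
  (j : Spec (CommRingCat.of A) ⟶ X) (j' : Spec (CommRingCat.of B) ⟶ Y)
  (hj : j ≫ f = Spec.map (CommRingCat.ofHom (algebraMap k A)))
  (hj' : j' ≫ g = Spec.map (CommRingCat.ofHom (algebraMap k B)))

/-- The chart `Spec (A ⊗ B)` of a product over a field. -/
noncomputable def prodChart : Spec (CommRingCat.of (A ⊗[k] B)) ⟶ pullback f g :=
  (pullbackSpecIso k A B).inv ≫
    pullback.map _ _ f g j j' (𝟙 _) (by simpa using hj.symm) (by simpa using hj'.symm)

instance [IsOpenImmersion j] [IsOpenImmersion j'] : IsOpenImmersion (prodChart f g j j' hj hj') := by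
  unfold prodChart; infer_instance

theorem range_prodChart :
    Set.range (prodChart f g j j' hj hj') =
      pullback.fst f g ⁻¹' Set.range j ∩ pullback.snd f g ⁻¹' Set.range j' := by
  unfold prodChart
  rw [Scheme.Hom.comp_base, TopCat.coe_comp, Set.range_comp,
    (pullbackSpecIso k A B).inv.surjective.range_eq, Set.image_univ, Scheme.Pullback.range_map]

theorem prodChart_fst : prodChart f g j j' hj hj' ≫ pullback.fst f g =
    Spec.map (CommRingCat.ofHom (algebraMap A (A ⊗[k] B))) ≫ j := by
  rw [prodChart, Category.assoc, pullback.lift_fst, pullbackSpecIso_inv_fst'_assoc]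

end

/-- The stalk at a point of an affine chart is a localisation. -/
theorem nonempty_stalkEquiv {R : Type u} [CommRing R] {Y : Scheme.{u}}
    (j : Spec (CommRingCat.of R) ⟶ Y) [hj : IsOpenImmersion j] (P : ↥(Spec (CommRingCat.of R))) :
    Nonempty (Y.presheaf.stalk (j P) ≃+* Localization.AtPrime (show PrimeSpectrum R from P).asIdeal) :=
  have : IsIso (j.stalkMap P) := inferInstance
  ⟨(@asIso _ _ _ _ (j.stalkMap P) this ≪≫ AlgebraicGeometry.Spec.stalkIso (CommRingCat.of R) P).commRingCatIsoToRingEquiv⟩

theorem isDomain_of_localization {C D : Type*} [CommRing C] [IsDomain C] [CommRing D] [Algebra C D]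
    [Nontrivial D] (M : Submonoid C) [IsLocalization M D] : IsDomain D := by
  refine IsLocalization.isDomain_of_le_nonZeroDivisors (M := M) (S := D) fun m hm => ?_
  refine mem_nonZeroDivisors_iff_ne_zero.mpr fun h => not_subsingleton D ?_
  exact (IsLocalization.uniqueOfZeroMem (M := M) (S := D) (h ▸ hm)).instSubsingleton

section

variable {B E : Type u} [CommRing B] [CommRing E] [Algebra k B] [Algebra k E]
  (Q : Ideal B) [Q.IsPrime] (R : Ideal (B ⊗[k] E)) [R.IsPrime]

theorem exists_localization_atPrime_tensor (hR : R.comap (algebraMap B (B ⊗[k] E)) = Q) :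
    ∃ (C : Type u) (_ : CommRing C) (_ : Algebra C (Localization.AtPrime R)) (M : Submonoid C),
      IsLocalization M (Localization.AtPrime R) ∧
        Nonempty (C ≃+* Localization.AtPrime Q ⊗[k] E) := by
  let S := B ⊗[k] E
  let C := S ⊗[B] Localization.AtPrime Q
  let M := Algebra.algebraMapSubmonoid S Q.primeCompl
  have hM : M ≤ R.primeCompl := by
    rintro _ ⟨b, hb, rfl⟩
    intro h
    exact hb (hR.le h)
  let := IsLocalization.localizationAlgebraOfSubmonoidLe C (Localization.AtPrime R) M R.primeCompl hM
  have := IsLocalization.localization_isScalarTower_of_submonoid_le C (Localization.AtPrime R)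
    M R.primeCompl hM
  refine ⟨C, inferInstance, inferInstance, R.primeCompl.map (algebraMap S C),
    IsLocalization.isLocalization_of_submonoid_le C (Localization.AtPrime R) M R.primeCompl hM,
    ⟨((Algebra.TensorProduct.comm B S (Localization.AtPrime Q)).toRingEquiv.trans
      (Algebra.TensorProduct.cancelBaseChange k B B (Localization.AtPrime Q) E).toRingEquiv)⟩⟩

theorem isReduced_atPrime_tensor (hR : R.comap (algebraMap B (B ⊗[k] E)) = Q)
    (h : IsReduced (Localization.AtPrime Q ⊗[k] E)) : IsReduced (Localization.AtPrime R) := by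
  obtain ⟨C, _, _, M, _, ⟨e⟩⟩ := exists_localization_atPrime_tensor Q R hR
  have : IsReduced C := isReduced_of_injective e e.injective
  exact isReduced_localizationPreserves M (Localization.AtPrime R) this

theorem isDomain_atPrime_tensor (hR : R.comap (algebraMap B (B ⊗[k] E)) = Q)
    (h : IsDomain (Localization.AtPrime Q ⊗[k] E)) : IsDomain (Localization.AtPrime R) := by
  obtain ⟨C, _, _, M, _, ⟨e⟩⟩ := exists_localization_atPrime_tensor Q R hR
  have : IsDomain C := e.toMulEquiv.isDomain
  exact isDomain_of_localization M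

end

/-- Local rings of a base change, in algebraic form. -/
theorem exists_chart_bc {K : Type u} [Field K] [Algebra k K]
    (x' : ↥(pullback f (Spec.map (CommRingCat.ofHom (algebraMap k K))))) :
    ∃ (A : Type u) (_ : CommRing A) (_ : Algebra k A) (R : PrimeSpectrum (A ⊗[k] K)),
      Nonempty ((pullback f (Spec.map (CommRingCat.ofHom (algebraMap k K)))).presheaf.stalk x' ≃+*
        Localization.AtPrime R.asIdeal) ∧
      Nonempty (X.presheaf.stalk (pullback.fst f (Spec.map (CommRingCat.ofHom (algebraMap k K))) x') ≃+*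
        Localization.AtPrime (R.asIdeal.comap (algebraMap A (A ⊗[k] K)))) := by
  let tK := Spec.map (CommRingCat.ofHom (algebraMap k K))
  obtain ⟨A, _, _, j, _, hx, hj⟩ := exists_chart f (pullback.fst f tK x')
  have hmem : x' ∈ Set.range (prodChart f tK j (𝟙 _) hj (Category.id_comp _)) := by
    rw [range_prodChart]
    exact ⟨hx, ⟨_, rfl⟩⟩
  obtain ⟨R, rfl⟩ := hmem
  refine ⟨A, inferInstance, inferInstance, R, nonempty_stalkEquiv _ R, ?_⟩
  rw [← Scheme.Hom.comp_apply, prodChart_fst, Scheme.Hom.comp_apply]
  exact nonempty_stalkEquiv j _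

/-- Reduced local rings ascend when tensoring with `K` preserves reducedness. -/
theorem isReduced_stalk_bc {K : Type u} [Field K] [Algebra k K]
    (hK : ∀ (R : Type u) [CommRing R] [Algebra k R], IsReduced R → IsReduced (R ⊗[k] K))
    (x' : ↥(pullback f (Spec.map (CommRingCat.ofHom (algebraMap k K)))))
    (h : IsReduced (X.presheaf.stalk (pullback.fst f (Spec.map (CommRingCat.ofHom (algebraMap k K))) x'))) :
    IsReduced ((pullback f (Spec.map (CommRingCat.ofHom (algebraMap k K)))).presheaf.stalk x') := by
  obtain ⟨A, _, _, R, ⟨e⟩, ⟨e'⟩⟩ := exists_chart_bc f x'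
  have := hK _ (isReduced_of_injective e'.symm e'.symm.injective)
  have := isReduced_atPrime_tensor _ R.asIdeal rfl this
  exact isReduced_of_injective e e.injective

/-- Integral local rings ascend when tensoring with `K` preserves domains. -/
theorem isDomain_stalk_bc {K : Type u} [Field K] [Algebra k K]
    (hK : ∀ (R : Type u) [CommRing R] [Algebra k R], IsDomain R → IsDomain (R ⊗[k] K))
    (x' : ↥(pullback f (Spec.map (CommRingCat.ofHom (algebraMap k K)))))
    (h : IsDomain (X.presheaf.stalk (pullback.fst f (Spec.map (CommRingCat.ofHom (algebraMap k K))) x'))) :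
    IsDomain ((pullback f (Spec.map (CommRingCat.ofHom (algebraMap k K)))).presheaf.stalk x') := by
  obtain ⟨A, _, _, R, ⟨e⟩, ⟨e'⟩⟩ := exists_chart_bc f x'
  have := hK _ (e'.symm.toMulEquiv.isDomain)
  have := isDomain_atPrime_tensor _ R.asIdeal rfl this
  exact e.toMulEquiv.isDomain

end Groth.Agent.FBase64
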