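import Mathlib.AlgebraicGeometry.Morphisms.UniversallyOpen
import Mathlib.AlgebraicGeometry.Morphisms.Flat
import Mathlib.AlgebraicGeometry.Fiber

/-!
Irreducible components of products of schemes over a field.
-/

universe u

namespace Groth.Agent.FBase64

open CategoryTheory CategoryTheory.Limits AlgebraicGeometry

/-- Lifting of generalizations inside the fibres of the second projection. -/
theorem exists_specializes_of_isPullback {k : Type u} [Field k] {X Y P : Scheme.{u}}
    {f : X ⟶ Spec (CommRingCat.of k)} {g : Y ⟶ Spec (CommRingCat.of k)} {p : P ⟶ X} {q : P ⟶ Y}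
    (h : IsPullback p q f g) (b : P) (x' : X) (hx : x' ⤳ p b) :
    ∃ a : P, a ⤳ b ∧ q a = q b ∧ p a = x' := by
  have h1 := (IsPullback.of_hasPullback q (Y.fromSpecResidueField (q b))).paste_horiz h
  have : Flat (q.fiberι (q b) ≫ p) :=
    MorphismProperty.of_isPullback h1.flip (inferInstance : Flat (Y.fromSpecResidueField (q b) ≫ g))
  obtain ⟨b', hb'⟩ : b ∈ Set.range (q.fiberι (q b)) := by
    rw [Scheme.Hom.range_fiberι]; rfl
  have hx' : x' ⤳ (q.fiberι (q b) ≫ p) b' := by rwa [Scheme.Hom.comp_apply, hb']
  obtain ⟨a', ha', hpa⟩ := Flat.generalizingMap (q.fiberι (q b) ≫ p) hx'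
  refine ⟨q.fiberι (q b) a', (ha'.map (q.fiberι (q b)).continuous).trans (specializes_of_eq hb'), ?_, ?_⟩
  · have : q.fiberι (q b) a' ∈ ⇑q ⁻¹' {q b} := by
      rw [← Scheme.Hom.range_fiberι]; exact ⟨a', rfl⟩
    exact this
  · rw [← hpa]; exact (Scheme.Hom.comp_apply _ _ _).symm

section

variable {T : Type*} [TopologicalSpace T] [QuasiSober T] [T0Space T]

/-- Irreducible components are the closures of maximal points. -/
theorem mem_irreducibleComponents_iff_exists_maximal {C : Set T} :
    C ∈ irreducibleComponents T ↔ ∃ c, (∀ a, a ⤳ c → a = c) ∧ C = closure {c} := by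
  constructor
  · intro hC
    have hg := hC.1.isGenericPoint_genericPoint (isClosed_of_mem_irreducibleComponents C hC)
    refine ⟨_, fun a ha => ?_, hg.def.symm⟩
    have hsub : C ⊆ closure {a} := fun z hz =>
      specializes_iff_mem_closure.mp (ha.trans (hg.specializes hz))
    have heq : closure {a} ⊆ C := hC.2 isIrreducible_singleton.closure hsub
    exact (ha.antisymm (hg.specializes (heq (subset_closure rfl)))).eq
  · rintro ⟨c, hc, rfl⟩
    refine ⟨isIrreducible_singleton.closure, fun V hV hsub => ?_⟩
    have hv := hV.closure.isGenericPoint_genericPoint isClosed_closure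
    have he := hc _ (hv.specializes (subset_closure (hsub (subset_closure rfl))))
    intro z hz
    rw [← he, hv.def]
    exact subset_closure hz

end

theorem mem_irreducibleComponents_pullback_iff {k : Type u} [Field k] {X Y P : Scheme.{u}}
    {f : X ⟶ Spec (CommRingCat.of k)} {g : Y ⟶ Spec (CommRingCat.of k)} {p : P ⟶ X} {q : P ⟶ Y}
    (h : IsPullback p q f g) (W : Set P) :
    W ∈ irreducibleComponents P ↔
      ∃ X' ∈ irreducibleComponents X, ∃ Y' ∈ irreducibleComponents Y,
        Maximal (fun V : Set P => IsIrreducible V ∧ V ⊆ ⇑p ⁻¹' X' ∩ ⇑q ⁻¹' Y') W := by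
  have : Flat p := MorphismProperty.of_isPullback h.flip (inferInstance : Flat g)
  have : Flat q := MorphismProperty.of_isPullback h (inferInstance : Flat f)
  constructor
  · intro hW
    obtain ⟨w, hw, rfl⟩ := mem_irreducibleComponents_iff_exists_maximal.mp hW
    refine ⟨closure {p w}, mem_irreducibleComponents_iff_exists_maximal.mpr ⟨_, ?_, rfl⟩,
      closure {q w}, mem_irreducibleComponents_iff_exists_maximal.mpr ⟨_, ?_, rfl⟩,
      ⟨hW.1, fun z hz => ?_⟩, fun V hV hsub => hW.2 hV.1 hsub⟩
    · intro x hx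
      obtain ⟨a, ha, rfl⟩ := Flat.generalizingMap p hx
      rw [hw a ha]
    · intro y hy
      obtain ⟨a, ha, rfl⟩ := Flat.generalizingMap q hy
      rw [hw a ha]
    · exact ⟨specializes_iff_mem_closure.mp ((specializes_iff_mem_closure.mpr hz).map p.continuous),
        specializes_iff_mem_closure.mp ((specializes_iff_mem_closure.mpr hz).map q.continuous)⟩
  · rintro ⟨X', hX', Y', hY', hW⟩
    obtain ⟨x', hx', rfl⟩ := mem_irreducibleComponents_iff_exists_maximal.mp hX'
    obtain ⟨y', hy', rfl⟩ := mem_irreducibleComponents_iff_exists_maximal.mp hY'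
    have hS : IsClosed (⇑p ⁻¹' closure {x'} ∩ ⇑q ⁻¹' closure {y'}) :=
      (isClosed_closure.preimage p.continuous).inter (isClosed_closure.preimage q.continuous)
    have hWc : closure W ⊆ W :=
      hW.2 ⟨hW.1.1.closure, closure_minimal hW.1.2 hS⟩ subset_closure
    have hg := hW.1.1.isGenericPoint_genericPoint (isClosed_of_closure_subset hWc)
    set w := hW.1.1.genericPoint
    have hw := hW.1.2 hg.mem
    have key : ∀ a : P, a ⤳ w → a ∈ ⇑p ⁻¹' closure {x'} ∩ ⇑q ⁻¹' closure {y'} → a = w := by
      intro a ha haS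
      have hsub : W ⊆ closure {a} := fun z hz =>
        specializes_iff_mem_closure.mp (ha.trans (hg.specializes hz))
      have := hW.2 ⟨isIrreducible_singleton.closure, closure_minimal
        (Set.singleton_subset_iff.mpr haS) hS⟩ hsub
      exact (ha.antisymm (hg.specializes (this (subset_closure rfl)))).eq
    have hpw : p w = x' := by
      obtain ⟨a, ha, hqa, hpa⟩ := exists_specializes_of_isPullback h w x'
        (specializes_iff_mem_closure.mpr hw.1)
      rw [← hpa, key a ha ⟨hpa ▸ subset_closure rfl, by rw [Set.mem_preimage, hqa]; exact hw.2⟩]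
    have hqw : q w = y' := by
      obtain ⟨a, ha, hqa, hpa⟩ := exists_specializes_of_isPullback h.flip w y'
        (specializes_iff_mem_closure.mpr hw.2)
      rw [← hpa, key a ha ⟨by rw [Set.mem_preimage, hqa]; exact hw.1, hpa ▸ subset_closure rfl⟩]
    obtain ⟨C, hC, hWC⟩ := exists_mem_irreducibleComponents_subset_of_isIrreducible W hW.1.1
    obtain ⟨c, hc, rfl⟩ := mem_irreducibleComponents_iff_exists_maximal.mp hC
    have hcw : c ⤳ w := specializes_iff_mem_closure.mpr (hWC hg.mem)
    have e1 : p c = x' := hx' _ (hpw ▸ hcw.map p.continuous)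
    have e2 : q c = y' := hy' _ (hqw ▸ hcw.map q.continuous)
    rw [mem_irreducibleComponents_iff_exists_maximal]
    refine ⟨w, fun a ha => ?_, hg.def.symm⟩
    have hcs := key c hcw ⟨e1 ▸ subset_closure rfl, e2 ▸ subset_closure rfl⟩
    exact hcs ▸ hc a (hcs.symm ▸ ha)

end Groth.Agent.FBase64
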