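import Groth.Agent.FBase64.Splitting

/-!
Components of `X_K` for `K` algebraically closed and points with purely inseparable residue field.
-/

universe u

namespace Groth.Agent.FBase64

open CategoryTheory CategoryTheory.Limits AlgebraicGeometry

section Topo

variable {A B : Type*} [TopologicalSpace A] [TopologicalSpace B] {q : A → B}
  (hq : Continuous q) (hs : Function.Surjective q)
  (hirr : ∀ s : Set B, IsIrreducible s → IsIrreducible (q ⁻¹' s))

include hq hs hirr

theorem component_eq_preimage_image {C : Set A} (hC : C ∈ irreducibleComponents A) :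
    q ⁻¹' (q '' C) = C ∧ q '' C ∈ irreducibleComponents B := by
  have h1 : IsIrreducible (closure (q '' C)) := (hC.1.image q hq.continuousOn).closure
  have h2 : q ⁻¹' closure (q '' C) ⊆ C :=
    hC.2 (hirr _ h1) ((Set.subset_preimage_image q C).trans (Set.preimage_mono subset_closure))
  have h3 : q ⁻¹' (q '' C) = C :=
    ((Set.preimage_mono subset_closure).trans h2).antisymm (Set.subset_preimage_image q C)
  refine ⟨h3, hC.1.image q hq.continuousOn, fun D hD hCD => ?_⟩
  have h4 : q ⁻¹' D ⊆ C :=
    hC.2 (hirr D hD) ((Set.subset_preimage_image q C).trans (Set.preimage_mono hCD))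
  rw [← Set.image_preimage_eq D hs]
  exact Set.image_mono h4

theorem preimage_mem_irreducibleComponents {D : Set B} (hD : D ∈ irreducibleComponents B) :
    q ⁻¹' D ∈ irreducibleComponents A := by
  refine ⟨hirr D hD.1, fun F hF hDF => ?_⟩
  have h1 : closure (q '' F) ⊆ D := hD.2 (hF.image q hq.continuousOn).closure
    (((Set.image_preimage_eq D hs).ge.trans (Set.image_mono hDF)).trans subset_closure)
  exact (Set.subset_preimage_image q F).trans (Set.preimage_mono (subset_closure.trans h1))

end Topo

variable {k : Type u} [Field k] {X : Scheme.{u}} (f : X ⟶ Spec (CommRingCat.of k))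

/-- Conjugate points of `X_E` for a normal algebraic `E`. -/
theorem exists_automorphism {E : Type u} [Field E] [Algebra k E] [IsAlgClosed E]
    [Algebra.IsAlgebraic k E] {z z' : ↥(FBase.bc f E)}
    (h : FBase.bcπ f E z = FBase.bcπ f E z') :
    ∃ g : FBase.bc f E ⟶ FBase.bc f E, IsIso g ∧ g ≫ FBase.bcπ f E = FBase.bcπ f E ∧ g z = z' := by
  let tE := Spec.map (CommRingCat.ofHom (algebraMap k E))
  have hF : ∀ z : ↥(FBase.bc f E), ∃ (F : Type u) (_ : Field F)
      (r : Spec (CommRingCat.of F) ⟶ pullback f tE), ∀ q, r q = z := fun z =>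
    ⟨↥((FBase.bc f E).residueField z), inferInstance, (FBase.bc f E).fromSpecResidueField z,
      fun q => Scheme.fromSpecResidueField_apply z q⟩
  obtain ⟨F, _, r, hr⟩ := hF z
  obtain ⟨F', _, r', hr'⟩ := hF z'
  obtain ⟨Ω, _, _, i, i', hii⟩ := exists_common_field (r ≫ pullback.fst f tE) (r' ≫ pullback.fst f tE)
    ⟨Classical.arbitrary _, Classical.arbitrary _, by
      rw [Scheme.Hom.comp_apply, Scheme.Hom.comp_apply, hr, hr']; exact h⟩
  obtain ⟨b, hb⟩ := Spec.map_surjective (Spec.map (CommRingCat.ofHom i) ≫ r ≫ pullback.snd f tE)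
  obtain ⟨b', hb'⟩ := Spec.map_surjective (Spec.map (CommRingCat.ofHom i') ≫ r' ≫ pullback.snd f tE)
  let := (b.hom.comp (algebraMap k E)).toAlgebra
  have hcomp : b.hom.comp (algebraMap k E) = b'.hom.comp (algebraMap k E) := by
    have h0 : Spec.map b ≫ tE = Spec.map b' ≫ tE := by
      rw [hb, hb']
      simp only [Category.assoc, ← pullback.condition]
      rw [reassoc_of% hii]
    simp only [tE, ← Spec.map_comp] at h0
    exact congrArg CommRingCat.Hom.hom (Spec.map_injective h0)
  let β : E →ₐ[k] Ω := { toRingHom := b.hom, commutes' := fun _ => rfl }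
  let β' : E →ₐ[k] Ω := { toRingHom := b'.hom, commutes' := fun r => (RingHom.congr_fun hcomp r).symm }
  have hmem : ∀ c, β' c ∈ β.fieldRange := by
    intro c
    have hint : IsIntegral k c := Algebra.IsIntegral.isIntegral c
    have h0 : Polynomial.aeval (β' c) (minpoly k c) = 0 := by
      rw [Polynomial.aeval_algHom_apply, minpoly.aeval, map_zero]
    have hsplit := IsAlgClosed.splits ((minpoly k c).map (algebraMap k E))
    rw [Polynomial.aeval_def, ← β.comp_algebraMap, ← Polynomial.eval₂_map] at h0
    exact hsplit.mem_range_of_isRoot ((Polynomial.monic_map_iff).mpr (minpoly.monic hint) |>.ne_zero)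
      (by rw [Polynomial.IsRoot, Polynomial.eval_map]; exact h0)
  let σ : E →ₐ[k] E :=
    (AlgEquiv.ofInjectiveField β).symm.toAlgHom.comp (β'.codRestrict β.fieldRange.toSubalgebra hmem)
  have hσ : ∀ c, b.hom (σ c) = b'.hom c := fun c =>
    congrArg Subtype.val ((AlgEquiv.ofInjectiveField β).apply_symm_apply
      (β'.codRestrict β.fieldRange.toSubalgebra hmem c))
  have hσb : Function.Bijective σ := Algebra.IsAlgebraic.algHom_bijective σ
  let t := Spec.map (CommRingCat.ofHom σ.toRingHom)
  have ht : IsIso t := by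
    have : IsIso (CommRingCat.ofHom σ.toRingHom) := by
      rw [ConcreteCategory.isIso_iff_bijective]; exact hσb
    infer_instance
  have htE : t ≫ tE = tE := by
    rw [← Spec.map_comp, ← CommRingCat.ofHom_comp]
    exact congrArg _ (congrArg _ σ.comp_algebraMap)
  let g : pullback f tE ⟶ pullback f tE :=
    pullback.map f tE f tE (𝟙 _) t (𝟙 _) (by simp) (by simp [htE])
  refine ⟨g, (inferInstance : IsIso g), (pullback.lift_fst _ _ _).trans (Category.comp_id _), ?_⟩
  have hbσ : Spec.map b ≫ t = Spec.map b' := by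
    rw [← Spec.map_comp]
    exact congrArg _ (CommRingCat.hom_ext (RingHom.ext hσ))
  have hgr : (Spec.map (CommRingCat.ofHom i) ≫ r) ≫ g = Spec.map (CommRingCat.ofHom i') ≫ r' := by
    apply pullback.hom_ext
    · rw [Category.assoc, pullback.lift_fst, Category.comp_id, Category.assoc, Category.assoc]
      exact hii
    · rw [Category.assoc, pullback.lift_snd, ← Category.assoc, Category.assoc
        (Spec.map (CommRingCat.ofHom i)), ← hb, hbσ, hb', Category.assoc]
  have := congrArg (fun q : Spec (CommRingCat.of Ω) ⟶ pullback f tE => q (Classical.arbitrary _)) hgr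
  simpa [Scheme.Hom.comp_apply, hr, hr'] using! this

theorem preimage_image_component_eq {K : Type u} [Field K] [Algebra k K] [IsAlgClosed K] (Z : Set X)
    (C' : Set ↥(FBase.bc f K)) (hC' : C' ∈ irreducibleComponents ↥(FBase.bc f K))
    (huniq : ∀ D ∈ irreducibleComponents ↥(FBase.bc f K), FBase.bcπ f K ⁻¹' Z ⊆ D ↔ D = C') :
    FBase.bcπ f K ⁻¹' (FBase.bcπ f K '' C') = C' ∧
      FBase.bcπ f K '' C' ∈ irreducibleComponents X ∧
      Z ⊆ FBase.bcπ f K '' C' ∧
      (∀ (L : Type u) [Field L] [Algebra k L],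
        IsIrreducible (FBase.bcπ f L ⁻¹' (FBase.bcπ f K '' C'))) ∧
      ((∀ D ∈ irreducibleComponents ↥(FBase.bc f K), (D ∩ FBase.bcπ f K ⁻¹' Z).Nonempty → D = C') →
        ∀ D ∈ irreducibleComponents X, (D ∩ Z).Nonempty → D = FBase.bcπ f K '' C') := by
  let E := AlgebraicClosure k
  let τ : E →ₐ[k] K := IsAlgClosed.lift
  let tE := Spec.map (CommRingCat.ofHom (algebraMap k E))
  let tK := Spec.map (CommRingCat.ofHom (algebraMap k K))
  let t := Spec.map (CommRingCat.ofHom τ.toRingHom)
  obtain ⟨q, hqf, hq1, -⟩ : ∃ q : FBase.bc f K ⟶ FBase.bc f E,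
      (Surjective q ∧ ∀ s, IsIrreducible s → IsIrreducible (q ⁻¹' s)) ∧
        q ≫ FBase.bcπ f E = FBase.bcπ f K ∧ True := by
    change ∃ q : pullback f tK ⟶ pullback f tE,
      (Surjective q ∧ ∀ s, IsIrreducible s → IsIrreducible (q ⁻¹' s)) ∧
        q ≫ pullback.fst f tE = pullback.fst f tK ∧ True
    have htt : t ≫ tE = tK := by
      rw [← Spec.map_comp, ← CommRingCat.ofHom_comp]
      exact congrArg _ (congrArg _ τ.comp_algebraMap)
    let e := pullbackLeftPullbackSndIso f tE t
    let e' : pullback (pullback.snd f tE) t ≅ pullback f tK := e ≪≫ pullback.congrHom rfl htt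
    refine ⟨e'.inv ≫ pullback.fst _ _, ⟨inferInstance, fun s hs => ?_⟩, ?_, trivial⟩
    · have := (isIrreducible_preimage_fst (pullback.snd f tE) τ.toRingHom hs).image e'.hom
        e'.hom.continuous.continuousOn
      convert this using 1
      ext x
      constructor
      · intro hx
        exact ⟨e'.inv x, hx, by rw [← Scheme.Hom.comp_apply, e'.inv_hom_id]; rfl⟩
      · rintro ⟨y, hy, rfl⟩
        show pullback.fst (pullback.snd f tE) t (e'.inv (e'.hom y)) ∈ s
        rw [← Scheme.Hom.comp_apply e'.hom e'.inv, e'.hom_inv_id]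
        exact hy
    · simp [e', e]
      erw [pullback.lift_fst]
      simp
  obtain ⟨hqs, hirr⟩ := hqf
  have hpq : ∀ x, FBase.bcπ f K x = FBase.bcπ f E (q x) := fun x =>
    ((Scheme.Hom.comp_apply q (FBase.bcπ f E) x).symm.trans
      (congrArg (fun m : FBase.bc f K ⟶ X => m x) hq1)).symm
  have hpre : ∀ S : Set X, FBase.bcπ f K ⁻¹' S = q ⁻¹' (FBase.bcπ f E ⁻¹' S) := fun S => by
    ext x
    show FBase.bcπ f K x ∈ S ↔ FBase.bcπ f E (q x) ∈ S
    rw [hpq]
  obtain ⟨hC1, hC2⟩ := component_eq_preimage_image q.continuous q.surjective hirr hC'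
  let C : Set ↥(FBase.bc f E) := q '' C'
  have himg : FBase.bcπ f K '' C' = FBase.bcπ f E '' C := by
    rw [Set.image_image]
    exact Set.image_congr fun x _ => hpq x
  have hu : ∀ D ∈ irreducibleComponents ↥(FBase.bc f E), FBase.bcπ f E ⁻¹' Z ⊆ D → D = C := by
    intro D hD hZD
    have := (huniq _ (preimage_mem_irreducibleComponents q.continuous q.surjective hirr hD)).mp
      (by rw [hpre]; exact Set.preimage_mono hZD)
    rw [← Set.image_preimage_eq D q.surjective, this]
  have hZC : FBase.bcπ f E ⁻¹' Z ⊆ C := by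
    have := (huniq C' hC').mpr rfl
    rw [hpre] at this
    rw [← Set.image_preimage_eq (FBase.bcπ f E ⁻¹' Z) q.surjective]
    exact Set.image_mono this
  have hsat : FBase.bcπ f E ⁻¹' (FBase.bcπ f E '' C) = C := by
    refine Set.Subset.antisymm ?_ (Set.subset_preimage_image _ _)
    rintro z' ⟨z, hz, hzz⟩
    obtain ⟨g, _, hg, hgz⟩ := exists_automorphism f hzz.symm
    have hgC : g ⁻¹' C = C := by
      refine hu _ ?_ ?_
      · exact preimage_mem_irreducibleComponents g.continuous g.surjective
          (fun s hs => by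
            have := hs.image (inv g) (inv g).continuous.continuousOn
            convert this using 1
            ext x
            constructor
            · intro hx
              exact ⟨g x, hx, by rw [← Scheme.Hom.comp_apply, IsIso.hom_inv_id]; rfl⟩
            · rintro ⟨y, hy, rfl⟩
              show g ((inv g) y) ∈ s
              rw [← Scheme.Hom.comp_apply, IsIso.inv_hom_id]
              exact hy) hC2
      · intro x hx
        refine hZC ?_
        show FBase.bcπ f E (g x) ∈ Z
        rw [← Scheme.Hom.comp_apply, hg]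
        exact hx
    have : z' ∈ g ⁻¹' C := by show g z' ∈ C; rw [hgz]; exact hz
    rwa [hgC] at this
  have sq : IsPullback (FBase.bcπ f E) (FBase.bcStr f E) f tE := IsPullback.of_hasPullback f tE
  have hmaxC : ∀ y, y ⤳ hC2.1.genericPoint → y = hC2.1.genericPoint := maximal_genericPoint hC2
  have hgenC := hC2.1.isGenericPoint_genericPoint (isClosed_of_mem_irreducibleComponents _ hC2)
  have hclosed : IsClosed (FBase.bcπ f E '' C) :=
    isClosedMap_of_isPullback sq _ (isClosed_of_mem_irreducibleComponents _ hC2)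
  have hcomp : FBase.bcπ f E '' C ∈ irreducibleComponents X := by
    refine ⟨hC2.1.image _ (FBase.bcπ f E).continuous.continuousOn, fun D hD hCD => ?_⟩
    have hgen := hD.closure.isGenericPoint_genericPoint isClosed_closure
    have hη : hD.closure.genericPoint ⤳ FBase.bcπ f E hC2.1.genericPoint :=
      hgen.specializes (subset_closure (hCD ⟨_, hgenC.mem, rfl⟩))
    have heq := eq_of_specializes_of_maximal_bc f hmaxC _ hη
    refine (subset_closure (s := D)).trans (hgen.def.ge.trans ?_)
    refine closure_minimal (Set.singleton_subset_iff.mpr ?_) hclosed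
    rw [heq]
    exact ⟨_, hgenC.mem, rfl⟩
  refine ⟨?_, himg ▸ hcomp, ?_, fun L _ _ => ?_, fun huniq' D hD hDZ => ?_⟩
  · rw [himg, hpre, hsat, hC1]
  · rw [himg]
    intro z hz
    obtain ⟨w, hw⟩ := surjective_of_isPullback sq z
    exact ⟨w, hZC (by show FBase.bcπ f E w ∈ Z; exact hw.symm ▸ hz), hw⟩
  · rw [himg]
    refine isIrreducible_preimage_of_sepClosed f (algebraMap k E) ?_ (algebraMap k L)
    exact hsat.symm ▸ hC2.1
  · rw [himg]
    have hgen := hD.1.isGenericPoint_genericPoint (isClosed_of_mem_irreducibleComponents _ hD)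
    obtain ⟨y, hy⟩ : ∃ y : ↥(FBase.bc f E), FBase.bcπ f E y = hD.1.genericPoint :=
      surjective_of_isPullback sq _
    have hymax : ∀ y', y' ⤳ y → y' = y :=
      (maximal_bc_iff f y).mpr (by rw [hy]; exact maximal_genericPoint hD)
    have hYc := (closure_singleton_mem_irreducibleComponents_iff y).mpr hymax
    have hDsub : D ⊆ FBase.bcπ f E '' closure {y} := by
      refine hgen.def.ge.trans ?_
      refine closure_minimal (Set.singleton_subset_iff.mpr ⟨y, subset_closure rfl, hy⟩) ?_
      exact isClosedMap_of_isPullback sq _ isClosed_closure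
    obtain ⟨z, hzD, hzZ⟩ := hDZ
    obtain ⟨w, hw, hwz⟩ := hDsub hzD
    obtain ⟨v, hv⟩ := q.surjective w
    have h1 := huniq' _ (preimage_mem_irreducibleComponents q.continuous q.surjective hirr hYc)
      ⟨v, by show q v ∈ closure {y}; rw [hv]; exact hw,
        by show FBase.bcπ f K v ∈ Z; rw [hpq, hv, hwz]; exact hzZ⟩
    have h2 : closure {y} = C := by
      rw [← Set.image_preimage_eq (closure {y}) q.surjective, h1]
    rw [h2] at hDsub
    exact hDsub.antisymm (hD.2 hcomp.1 hDsub)

theorem geometricallyIrreducible_of_separableClosure_eq_bot [IrreducibleSpace X] {κ : Type u}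
    [Field κ] [Algebra k κ] (j : Spec (CommRingCat.of κ) ⟶ X)
    (hj : j ≫ f = Spec.map (CommRingCat.ofHom (algebraMap k κ)))
    (hr : Set.range j = {genericPoint X}) (hbot : separableClosure k κ = ⊥) :
    GeometricallyIrreducible f := by
  let E := AlgebraicClosure k
  have sq : IsPullback (FBase.bcπ f E) (FBase.bcStr f E) f
      (Spec.map (CommRingCat.ofHom (algebraMap k E))) := IsPullback.of_hasPullback _ _
  have hmaxη : ∀ w : X, w ⤳ genericPoint X → w = genericPoint X := fun w hw =>
    (hw.antisymm (genericPoint_specializes w)).eq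
  have huniq : ∀ σ σ' : separableClosure k κ →ₐ[k] E, σ = σ' := by
    intro σ σ'
    ext c
    have hc : (c : κ) ∈ (⊥ : IntermediateField k κ) := hbot ▸ c.2
    obtain ⟨r, hr'⟩ := IntermediateField.mem_bot.mp hc
    have : c = algebraMap k _ r := Subtype.ext hr'.symm
    rw [this, σ.commutes, σ'.commutes]
  have hmax : ∀ y : ↥(FBase.bc f E), (∀ y', y' ⤳ y → y' = y) → FBase.bcπ f E y = genericPoint X :=
    fun y hy => (eq_of_specializes_of_maximal_bc f hy _ (genericPoint_specializes _)).symm
  have hsingle : ∀ y y' : ↥(FBase.bc f E), FBase.bcπ f E y = genericPoint X →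
      FBase.bcπ f E y' = genericPoint X → y = y' := by
    intro y y' hy hy'
    obtain ⟨σ, hσ⟩ := exists_isPointOf sq j hj (z := y) (by rw [hr]; exact hy)
    obtain ⟨σ', hσ'⟩ := exists_isPointOf sq j hj (z := y') (by rw [hr]; exact hy')
    exact IsPointOf.eq_of_maximal sq j hj hr hmaxη hσ (huniq σ' σ ▸ hσ')
  obtain ⟨y0, hy0⟩ := surjective_of_isPullback sq (genericPoint X)
  have : IrreducibleSpace ↥(FBase.bc f E) := by
    rw [irreducibleSpace_def]
    suffices h : (Set.univ : Set ↥(FBase.bc f E)) = closure {y0} by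
      change IsIrreducible (Set.univ : Set ↥(FBase.bc f E))
      rw [h]; exact isIrreducible_singleton.closure
    refine (Set.eq_univ_of_forall fun z => ?_).symm
    have hZ := irreducibleComponent_mem_irreducibleComponents z
    have hg := hZ.1.isGenericPoint_genericPoint isClosed_irreducibleComponent
    have : hZ.1.genericPoint = y0 := hsingle _ _ (hmax _ (maximal_genericPoint hZ)) hy0
    rw [← this, hg.def]
    exact mem_irreducibleComponent
  exact @geometricallyIrreducible_of_sepClosed _ _ _ _ E _ (algebraMap k E) _ this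

/-- Outside a nowhere dense closed set residue fields are not purely inseparable. -/
theorem exists_nowhereDense_containing_purelyInseparable [IrreducibleSpace X]
    (h : ¬ GeometricallyIrreducible f) :
    ∃ Y : Set X, IsClosed Y ∧ interior Y = ∅ ∧
      ∀ x : X, FBase.ResidueFieldProp f x (fun K _ _ => IsPurelyInseparable k K) → x ∈ Y := by
  obtain ⟨A, _, _, jA, _, ⟨P0, hP0⟩, hjA⟩ := exists_chart f (genericPoint X)
  let P := (show PrimeSpectrum A from P0).asIdeal
  let κ := FractionRing (A ⧸ P)
  let q : A →ₐ[k] κ := (IsScalarTower.toAlgHom k (A ⧸ P) κ).comp (Ideal.Quotient.mkₐ k P)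
  let j : Spec (CommRingCat.of κ) ⟶ X := Spec.map (CommRingCat.ofHom q.toRingHom) ≫ jA
  have hj : j ≫ f = Spec.map (CommRingCat.ofHom (algebraMap k κ)) := by
    rw [Category.assoc, hjA, ← Spec.map_comp, ← CommRingCat.ofHom_comp]
    exact congrArg _ (congrArg _ q.comp_algebraMap)
  have hr : Set.range j = {genericPoint X} := by
    have : ∀ pt, j pt = genericPoint X := fun pt => by
      rw [Scheme.Hom.comp_apply, ← hP0]
      congr 1
      have hpt : (show PrimeSpectrum κ from pt).asIdeal = ⊥ :=
        (Ideal.eq_bot_or_top _).resolve_right (show PrimeSpectrum κ from pt).2.ne_top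
      refine PrimeSpectrum.ext (Ideal.ext fun a => ?_)
      show q a ∈ (show PrimeSpectrum κ from pt).asIdeal ↔ a ∈ P
      rw [hpt, Ideal.mem_bot]
      show algebraMap (A ⧸ P) κ (Ideal.Quotient.mk P a) = 0 ↔ a ∈ P
      rw [FaithfulSMul.algebraMap_eq_zero_iff, Ideal.Quotient.eq_zero_iff_mem]
    exact Set.Subset.antisymm (Set.range_subset_iff.mpr this)
      (Set.singleton_subset_iff.mpr ⟨Classical.arbitrary _, this _⟩)
  have hne : separableClosure k κ ≠ ⊥ := fun hb =>
    h (geometricallyIrreducible_of_separableClosure_eq_bot f j hj hr hb)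
  obtain ⟨a, ha, hak⟩ := SetLike.exists_of_lt (bot_lt_iff_ne_bot.mpr hne)
  obtain ⟨num, den, hden, hdiv⟩ := IsFractionRing.div_surjective (A ⧸ P) a
  obtain ⟨s, rfl⟩ := Ideal.Quotient.mk_surjective den
  have hs : s ∉ P := fun hsP => (nonZeroDivisors.ne_zero hden) (Ideal.Quotient.eq_zero_iff_mem.mpr hsP)
  let D : Set ↥(Spec (CommRingCat.of A)) :=
    {Q | s ∉ (show PrimeSpectrum A from Q).asIdeal}
  have hDopen : IsOpen D := (PrimeSpectrum.basicOpen s).2
  refine ⟨(jA '' D)ᶜ, (jA.isOpenEmbedding.isOpenMap _ hDopen).isClosed_compl, ?_, fun x hx hxU => ?_⟩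
  · rw [interior_compl, Set.compl_empty_iff]
    refine (Set.eq_univ_of_forall fun x => ?_)
    have : genericPoint X ∈ jA '' D := ⟨P0, hs, hP0⟩
    exact (genericPoint_specializes x).mem_closed isClosed_closure (subset_closure this)
  obtain ⟨Q, hQ, rfl⟩ := hxU
  obtain ⟨φ, hφ, hpi⟩ := hx
  let := φ.toAlgebra
  let F := ↥(X.residueField (jA Q))
  have hrange : Set.range (X.fromSpecResidueField (jA Q)) ⊆ Set.range jA := by
    rw [Scheme.range_fromSpecResidueField]
    exact Set.singleton_subset_iff.mpr ⟨Q, rfl⟩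
  obtain ⟨ψ0, hψ0⟩ := Spec.map_surjective (IsOpenImmersion.lift jA _ hrange)
  have hlift : Spec.map ψ0 ≫ jA = X.fromSpecResidueField (jA Q) :=
    hψ0.symm ▸ IsOpenImmersion.lift_fac jA _ hrange
  have hk : ψ0.hom.comp (algebraMap k A) = φ := by
    have h0 : Spec.map ψ0 ≫ Spec.map (CommRingCat.ofHom (algebraMap k A)) =
        Spec.map (CommRingCat.ofHom φ) := by
      rw [hφ, ← hlift, Category.assoc, hjA]
    rw [← Spec.map_comp] at h0
    exact congrArg CommRingCat.Hom.hom (Spec.map_injective h0)
  have hker : (show PrimeSpectrum A from Q).asIdeal = RingHom.ker ψ0.hom := by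
    have hpt : Spec.map ψ0 (IsLocalRing.closedPoint F) = Q := by
      apply jA.isOpenEmbedding.injective
      refine ((Scheme.Hom.comp_apply (Spec.map ψ0) jA (IsLocalRing.closedPoint F)).symm.trans
        (congrArg (fun m : Spec (X.residueField (jA Q)) ⟶ X => m (IsLocalRing.closedPoint F)) hlift)).trans ?_
      exact Scheme.fromSpecResidueField_apply _ _
    rw [← congrArg (fun p : ↥(Spec (CommRingCat.of A)) => (show PrimeSpectrum A from p).asIdeal) hpt]
    show Ideal.comap ψ0.hom (IsLocalRing.maximalIdeal F) = _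
    rw [(IsLocalRing.isField_iff_maximalIdeal_eq).mp (Field.toIsField F)]
    rfl
  have hPQ : P ≤ RingHom.ker ψ0.hom := by
    rw [← hker]
    have hsp : P0 ⤳ Q := jA.isOpenEmbedding.isInducing.specializes_iff.mp
      (hP0.symm ▸ genericPoint_specializes (jA Q))
    exact (PrimeSpectrum.le_iff_specializes (show PrimeSpectrum A from P0)
      (show PrimeSpectrum A from Q)).mpr hsp
  let ψ : (A ⧸ P) →ₐ[k] F :=
    { toRingHom := Ideal.Quotient.lift P ψ0.hom fun a ha => hPQ ha
      commutes' := fun r => RingHom.congr_fun hk r }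
  have hsu : IsUnit (ψ (Ideal.Quotient.mk P s)) :=
    IsUnit.mk0 _ fun h0 => hQ (hker ▸ (RingHom.mem_ker.mpr h0))
  let R := Localization.Away (Ideal.Quotient.mk P s)
  let ψR : R →ₐ[k] F :=
    { toRingHom := IsLocalization.Away.lift (Ideal.Quotient.mk P s) (g := ψ.toRingHom) hsu
      commutes' := fun r => by
        rw [IsScalarTower.algebraMap_apply k (A ⧸ P) R]
        exact (IsLocalization.Away.lift_eq _ hsu _).trans (ψ.commutes r) }
  have hsκ : IsUnit (algebraMap (A ⧸ P) κ (Ideal.Quotient.mk P s)) :=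
    IsLocalization.map_units κ (⟨_, hden⟩ : nonZeroDivisors (A ⧸ P))
  let ι : R →ₐ[k] κ :=
    { toRingHom := IsLocalization.Away.lift (Ideal.Quotient.mk P s) (g := algebraMap (A ⧸ P) κ) hsκ
      commutes' := fun r => by
        rw [IsScalarTower.algebraMap_apply k (A ⧸ P) R]
        exact (IsLocalization.Away.lift_eq _ hsκ _).trans
          (IsScalarTower.algebraMap_apply k (A ⧸ P) κ r).symm }
  have hιinj : Function.Injective ι := by
    refine (injective_iff_map_eq_zero ι).mpr fun w hw => ?_
    obtain ⟨u, v, rfl⟩ := IsLocalization.exists_mk'_eq (Submonoid.powers (Ideal.Quotient.mk P s)) w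
    have h2 : ι (algebraMap (A ⧸ P) R u) = 0 := by
      rw [← IsLocalization.mk'_spec R u v, map_mul, hw, zero_mul]
    have h3 : algebraMap (A ⧸ P) κ u = 0 := (IsLocalization.Away.lift_eq _ hsκ u).symm.trans h2
    rw [FaithfulSMul.algebraMap_eq_zero_iff] at h3
    rw [h3, IsLocalization.mk'_zero]
  let w : R := IsLocalization.mk' R num (⟨_, 1, pow_one _⟩ : Submonoid.powers (Ideal.Quotient.mk P s))
  have hw : ι w = a := by
    have h2 : ι w * algebraMap (A ⧸ P) κ (Ideal.Quotient.mk P s) = algebraMap (A ⧸ P) κ num := by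
      have := congrArg ι (IsLocalization.mk'_spec R num
        (⟨_, 1, pow_one _⟩ : Submonoid.powers (Ideal.Quotient.mk P s)))
      rw [map_mul] at this
      exact ((congrArg (ι w * ·) (IsLocalization.Away.lift_eq _ hsκ _)).symm.trans this).trans
        (IsLocalization.Away.lift_eq _ hsκ _)
    rw [← hdiv, eq_div_iff hsκ.ne_zero]
    exact h2
  have hsep : IsSeparable k a := ha
  have hroot : Polynomial.aeval (ψR w) (minpoly k a) = 0 := by
    have : Polynomial.aeval w (minpoly k a) = 0 := hιinj (by
      rw [← Polynomial.aeval_algHom_apply, hw, minpoly.aeval, map_zero])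
    rw [Polynomial.aeval_algHom_apply, this, map_zero]
  have hmin : minpoly k (ψR w) = minpoly k a :=
    (minpoly.eq_of_irreducible_of_monic (minpoly.irreducible hsep.isIntegral) hroot
      (minpoly.monic hsep.isIntegral)).symm
  obtain ⟨c, hc⟩ := IsPurelyInseparable.inseparable' (F := k) (E := F) (ψR w)
    (by unfold IsSeparable; rw [hmin]; exact hsep)
  refine hak (IntermediateField.mem_bot.mpr ?_)
  have hdeg : (minpoly k a).degree = 1 := by
    rw [← hmin]; exact minpoly.degree_eq_one_iff.mpr ⟨c, hc⟩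
  exact minpoly.degree_eq_one_iff.mp hdeg

end Groth.Agent.FBase64
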