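import Groth.Agent.FBase64.TensorTrdeg
import Groth.Agent.FBase64.ProductComponents
import Groth.Agent.FBase64.Chart
import Groth.Agent.VarGal.LocalDim
import Groth.Agent.VarGal.AffineInter
import Groth.Prelude.Def_FDesc

/-!
Dimensions of products and base changes of schemes locally of finite type over a field.
-/

universe u

namespace Groth.Agent.FBase64

open CategoryTheory CategoryTheory.Limits AlgebraicGeometry TensorProduct

variable {k : Type u} [Field k] {X Y : Scheme.{u}} (f : X ⟶ Spec (CommRingCat.of k))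
  (g : Y ⟶ Spec (CommRingCat.of k))

theorem tdegN_comp_isOpenImmersion [LocallyOfFiniteType g] (i : X ⟶ Y) [IsOpenImmersion i]
    (h : i ≫ g = f) (x : X) : WC97.tdegN f x = WC97.tdegN g (i x) := by
  let := (WC97.kStr f x).toAlgebra
  let := (WC97.kStr g (i x)).toAlgebra
  let φ : Y.residueField (i x) →ₐ[k] X.residueField x :=
    { (i.residueFieldMap x).hom with
      commutes' := fun r => (RingHom.congr_fun (WC97.kStr_comp i f g h x) r).symm }
  have hb : Function.Bijective φ := ConcreteCategory.bijective_of_isIso (i.residueFieldMap x)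
  exact congrArg Cardinal.toNat (AlgEquiv.ofBijective φ hb).symm.trdeg_eq

theorem tdegN_chart {S : Type u} [CommRing S] [Algebra k S] [Algebra.FiniteType k S]
    [LocallyOfFiniteType f] (c : Spec (CommRingCat.of S) ⟶ X) [IsOpenImmersion c]
    (hc : c ≫ f = Spec.map (CommRingCat.ofHom (algebraMap k S))) (P : ↥(Spec (CommRingCat.of S))) :
    WC97.tdegN f (c P) = CAlgH2.trdegQuot k (show PrimeSpectrum S from P).asIdeal := by
  rw [← tdegN_comp_isOpenImmersion _ f c hc P]
  have : LocallyOfFiniteType (Spec.map (CommRingCat.ofHom (algebraMap k S))) := hc ▸ inferInstance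
  have h := (WC97.topologicalKrullDim_closure (Spec.map (CommRingCat.ofHom (algebraMap k S))) P).symm.trans
    (VarGal.dim_closure_eq_trdegQuot (k := k) (show PrimeSpectrum S from P))
  exact_mod_cast h

theorem exists_chart_finiteType [LocallyOfFiniteType f] (x : X) :
    ∃ (A : Type u) (_ : CommRing A) (_ : Algebra k A) (_ : Algebra.FiniteType k A)
      (j : Spec (CommRingCat.of A) ⟶ X), IsOpenImmersion j ∧ x ∈ Set.range j ∧
      j ≫ f = Spec.map (CommRingCat.ofHom (algebraMap k A)) := by
  obtain ⟨A, _, _, j, _, hx, hj⟩ := exists_chart f x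
  have : LocallyOfFiniteType (Spec.map (CommRingCat.ofHom (algebraMap k A))) := hj ▸ inferInstance
  exact ⟨A, _, _, RingHom.finiteType_algebraMap.mp
    ((HasRingHomProperty.Spec_iff (P := @LocallyOfFiniteType)).mp this), j, inferInstance, hx, hj⟩

section

variable {A B : Type u} [CommRing A] [Algebra k A] [CommRing B] [Algebra k B]
  (j : Spec (CommRingCat.of A) ⟶ X) (j' : Spec (CommRingCat.of B) ⟶ Y)
  (hj : j ≫ f = Spec.map (CommRingCat.ofHom (algebraMap k A)))
  (hj' : j' ≫ g = Spec.map (CommRingCat.ofHom (algebraMap k B)))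

theorem prodChart_snd : prodChart f g j j' hj hj' ≫ pullback.snd f g =
    Spec.map (CommRingCat.ofHom
      (Algebra.TensorProduct.includeRight : B →ₐ[k] A ⊗[k] B).toRingHom) ≫ j' := by
  rw [prodChart, Category.assoc, pullback.lift_snd, pullbackSpecIso_inv_snd_assoc]
  rfl

end

/-- The dimension formula at a point of the product minimal among those with the same images. -/
theorem tdegN_pullback_eq_add [LocallyOfFiniteType f] [LocallyOfFiniteType g]
    (w : ↥(pullback f g)) (hw : ∀ a, a ⤳ w → pullback.fst f g a = pullback.fst f g w →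
      pullback.snd f g a = pullback.snd f g w → a = w) :
    WC97.tdegN (pullback.fst f g ≫ f) w =
      WC97.tdegN f (pullback.fst f g w) + WC97.tdegN g (pullback.snd f g w) := by
  obtain ⟨A, _, _, _, j, _, hx, hj⟩ := exists_chart_finiteType f (pullback.fst f g w)
  obtain ⟨B, _, _, _, j', _, hy, hj'⟩ := exists_chart_finiteType g (pullback.snd f g w)
  let c := prodChart f g j j' hj hj'
  obtain ⟨Q, rfl⟩ : w ∈ Set.range c := by rw [range_prodChart]; exact ⟨hx, hy⟩
  have : Algebra.FiniteType k (A ⊗[k] B) :=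
    Algebra.FiniteType.trans (S := A) inferInstance inferInstance
  have hc : c ≫ pullback.fst f g ≫ f = Spec.map (CommRingCat.ofHom (algebraMap k (A ⊗[k] B))) := by
    rw [← Category.assoc, prodChart_fst, Category.assoc, hj, ← Spec.map_comp, ← CommRingCat.ofHom_comp,
      ← IsScalarTower.algebraMap_eq]
  have e1 : ∀ R, pullback.fst f g (c R) =
      j (Spec.map (CommRingCat.ofHom (algebraMap A (A ⊗[k] B))) R) := fun R => by
    rw [← Scheme.Hom.comp_apply, prodChart_fst, Scheme.Hom.comp_apply]
  have e2 : ∀ R, pullback.snd f g (c R) = j' (Spec.map (CommRingCat.ofHom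
      (Algebra.TensorProduct.includeRight : B →ₐ[k] A ⊗[k] B).toRingHom) R) := fun R => by
    rw [← Scheme.Hom.comp_apply, prodChart_snd, Scheme.Hom.comp_apply]
  rw [tdegN_chart _ c hc Q, e1, e2, tdegN_chart f j hj, tdegN_chart g j' hj']
  refine trdegQuot_eq_of_minimal_pair _ fun Q' hQ' hle h1 h2 => ?_
  let R : ↥(Spec (CommRingCat.of (A ⊗[k] B))) := ⟨Q', hQ'⟩
  have hs : R ⤳ Q := (PrimeSpectrum.le_iff_specializes ⟨Q', hQ'⟩ _).mp hle
  have := c.isOpenEmbedding.injective (hw (c R) (hs.map c.continuous)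
    (by rw [e1, e1]; exact congrArg j (PrimeSpectrum.ext h1))
    (by rw [e2, e2]; exact congrArg j' (PrimeSpectrum.ext h2)))
  exact congrArg PrimeSpectrum.asIdeal this

theorem tdegN_bc_eq_aux [LocallyOfFiniteType f] {K : Type u} [Field K] [Algebra k K]
    (w : ↥(pullback f (Spec.map (CommRingCat.ofHom (algebraMap k K)))))
    (hw : ∀ a, a ⤳ w → pullback.fst f (Spec.map (CommRingCat.ofHom (algebraMap k K))) a =
      pullback.fst f (Spec.map (CommRingCat.ofHom (algebraMap k K))) w → a = w) :
    WC97.tdegN (pullback.snd f (Spec.map (CommRingCat.ofHom (algebraMap k K)))) w =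
      WC97.tdegN f (pullback.fst f (Spec.map (CommRingCat.ofHom (algebraMap k K))) w) := by
  obtain ⟨A, _, _, _, j, _, hx, hj⟩ :=
    exists_chart_finiteType f (pullback.fst f (Spec.map (CommRingCat.ofHom (algebraMap k K))) w)
  let tK := Spec.map (CommRingCat.ofHom (algebraMap k K))
  let c : Spec (CommRingCat.of (K ⊗[k] A)) ⟶ pullback f tK :=
    prodChart tK f (𝟙 _) j (Category.id_comp _) hj ≫ (pullbackSymmetry tK f).hom
  have hc1 : c ≫ pullback.fst f tK = Spec.map (CommRingCat.ofHom
      (Algebra.TensorProduct.includeRight : A →ₐ[k] K ⊗[k] A).toRingHom) ≫ j := by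
    simp only [c]
    rw [Category.assoc, pullbackSymmetry_hom_comp_fst, prodChart_snd]
  have hc2 : c ≫ pullback.snd f tK = Spec.map (CommRingCat.ofHom (algebraMap K (K ⊗[k] A))) := by
    simp only [c]
    rw [Category.assoc, pullbackSymmetry_hom_comp_snd, prodChart_fst, Category.comp_id]
  obtain ⟨Q, rfl⟩ : w ∈ Set.range c := by
    obtain ⟨Q, hQ⟩ : (pullbackSymmetry tK f).inv w ∈
        Set.range (prodChart tK f (𝟙 _) j (Category.id_comp _) hj) := by
      rw [range_prodChart]
      refine ⟨⟨_, rfl⟩, ?_⟩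
      rw [Set.mem_preimage, ← Scheme.Hom.comp_apply, pullbackSymmetry_inv_comp_snd]
      exact hx
    refine ⟨Q, ?_⟩
    rw [Scheme.Hom.comp_apply, hQ, ← Scheme.Hom.comp_apply, Iso.inv_hom_id]
    rfl
  have e1 : ∀ R, pullback.fst f tK (c R) = j (Spec.map (CommRingCat.ofHom
      (Algebra.TensorProduct.includeRight : A →ₐ[k] K ⊗[k] A).toRingHom) R) := fun R => by
    rw [← Scheme.Hom.comp_apply, hc1, Scheme.Hom.comp_apply]
  rw [tdegN_chart _ c hc2 Q, e1, tdegN_chart f j hj]
  refine trdegQuot_eq_of_minimal_baseChange K _ fun Q' hQ' hle h1 => ?_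
  let R : ↥(Spec (CommRingCat.of (K ⊗[k] A))) := ⟨Q', hQ'⟩
  have hs : R ⤳ Q := (PrimeSpectrum.le_iff_specializes ⟨Q', hQ'⟩ _).mp hle
  have := c.isOpenEmbedding.injective (hw (c R) (hs.map c.continuous)
    (by rw [e1, e1]; exact congrArg j (PrimeSpectrum.ext h1)))
  exact congrArg PrimeSpectrum.asIdeal this

/-- The dimension formula at a point of a base change minimal in its fibre. -/
theorem tdegN_bc_eq [LocallyOfFiniteType f] {K : Type u} [Field K] [Algebra k K]
    (w : ↥(FBase.bc f K))
    (hw : ∀ a, a ⤳ w → FBase.bcπ f K a = FBase.bcπ f K w → a = w) :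
    WC97.tdegN (FBase.bcStr f K) w = WC97.tdegN f (FBase.bcπ f K w) :=
  tdegN_bc_eq_aux f w hw

theorem exists_maximal_specializes {T : Type*} [TopologicalSpace T] [QuasiSober T] [T0Space T] (x : T) :
    ∃ c, (∀ a, a ⤳ c → a = c) ∧ c ⤳ x := by
  obtain ⟨C, hC, hxC⟩ := exists_mem_irreducibleComponents_subset_of_isIrreducible {x} isIrreducible_singleton
  obtain ⟨c, hc, rfl⟩ := mem_irreducibleComponents_iff_exists_maximal.mp hC
  exact ⟨c, hc, specializes_iff_mem_closure.mpr (hxC rfl)⟩

theorem tdegN_mono [LocallyOfFiniteType f] {x y : X} (h : x ⤳ y) :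
    WC97.tdegN f y ≤ WC97.tdegN f x := by
  have := TopDim50.dim_mono (specializes_iff_closure_subset.mp h)
  rw [WC97.topologicalKrullDim_closure f, WC97.topologicalKrullDim_closure f] at this
  exact_mod_cast this

/-- The dimension as a supremum of transcendence degrees. -/
theorem topologicalKrullDim_eq_iSup_tdegN [LocallyOfFiniteType f] :
    topologicalKrullDim X = ⨆ x : X, ((WC97.tdegN f x : ℕ∞) : WithBot ℕ∞) := by
  refine le_antisymm ?_ (iSup_le fun x => ?_)
  · rw [TopDim50.dim_eq_iSup_irreducibleComponents]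
    refine iSup₂_le fun C hC => ?_
    obtain ⟨c, -, rfl⟩ := mem_irreducibleComponents_iff_exists_maximal.mp hC
    rw [WC97.topologicalKrullDim_closure f]
    exact le_iSup (fun x : X => ((WC97.tdegN f x : ℕ∞) : WithBot ℕ∞)) c
  · exact le_of_eq_of_le (WC97.topologicalKrullDim_closure f x).symm (topologicalKrullDim_subspace_le X _)

theorem maximal_fst_snd (w : ↥(pullback f g)) (hw : ∀ a, a ⤳ w → a = w) :
    (∀ x, x ⤳ pullback.fst f g w → x = pullback.fst f g w) ∧
      (∀ y, y ⤳ pullback.snd f g w → y = pullback.snd f g w) := by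
  constructor
  · intro x hx
    obtain ⟨a, ha, -, rfl⟩ := exists_specializes_of_isPullback (IsPullback.of_hasPullback f g) w x hx
    rw [hw a ha]
  · intro y hy
    obtain ⟨a, ha, -, rfl⟩ := exists_specializes_of_isPullback (IsPullback.of_hasPullback f g).flip w y hy
    rw [hw a ha]

theorem topologicalKrullDim_pullback [LocallyOfFiniteType f] [LocallyOfFiniteType g] :
    topologicalKrullDim ↥(pullback f g) = topologicalKrullDim X + topologicalKrullDim Y := by
  have hz : ∀ x y, ∃ z, pullback.fst f g z = x ∧ pullback.snd f g z = y := fun x y =>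
    Scheme.Pullback.exists_preimage_pullback x y (Subsingleton.elim _ _)
  rw [topologicalKrullDim_eq_iSup_tdegN (pullback.fst f g ≫ f), topologicalKrullDim_eq_iSup_tdegN f,
    topologicalKrullDim_eq_iSup_tdegN g]
  rcases isEmpty_or_nonempty X with hX | hX
  · have : IsEmpty ↥(pullback f g) := ⟨fun z => hX.false (pullback.fst f g z)⟩
    simp only [iSup_of_empty]
    rw [WithBot.bot_add]
  rcases isEmpty_or_nonempty Y with hY | hY
  · have : IsEmpty ↥(pullback f g) := ⟨fun z => hY.false (pullback.snd f g z)⟩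
    simp only [iSup_of_empty]
    rw [WithBot.add_bot]
  have : Nonempty ↥(pullback f g) := by
    obtain ⟨z, -⟩ := hz hX.some hY.some
    exact ⟨z⟩
  rw [← WithBot.coe_iSup (OrderTop.bddAbove _), ← WithBot.coe_iSup (OrderTop.bddAbove _),
    ← WithBot.coe_iSup (OrderTop.bddAbove _), ← WithBot.coe_add, WithBot.coe_inj]
  refine le_antisymm (iSup_le fun z => ?_) (ENat.iSup_add_iSup_le fun x y => ?_)
  · obtain ⟨w, hw, hwz⟩ := exists_maximal_specializes z
    refine (Nat.cast_le.mpr (tdegN_mono _ hwz)).trans ?_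
    rw [tdegN_pullback_eq_add f g w fun a ha _ _ => hw a ha, Nat.cast_add]
    exact add_le_add (le_iSup (fun x => (WC97.tdegN f x : ℕ∞)) _)
      (le_iSup (fun y => (WC97.tdegN g y : ℕ∞)) _)
  · obtain ⟨x', hx', hxx⟩ := exists_maximal_specializes x
    obtain ⟨y', hy', hyy⟩ := exists_maximal_specializes y
    obtain ⟨z, hz1, hz2⟩ := hz x' y'
    obtain ⟨w, hw, hwz⟩ := exists_maximal_specializes z
    have e1 := hx' _ (hz1 ▸ hwz.map (pullback.fst f g).continuous)
    have e2 := hy' _ (hz2 ▸ hwz.map (pullback.snd f g).continuous)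
    refine le_trans ?_ (le_iSup (fun z => (WC97.tdegN (pullback.fst f g ≫ f) z : ℕ∞)) w)
    rw [tdegN_pullback_eq_add f g w fun a ha _ _ => hw a ha, e1, e2, Nat.cast_add]
    exact add_le_add (Nat.cast_le.mpr (tdegN_mono f hxx)) (Nat.cast_le.mpr (tdegN_mono g hyy))

theorem topologicalKrullDim_component_pullback [IrreducibleSpace X] [IrreducibleSpace Y]
    [LocallyOfFiniteType f] [LocallyOfFiniteType g] (Z : Set ↥(pullback f g))
    (hZ : Z ∈ irreducibleComponents ↥(pullback f g)) :
    topologicalKrullDim ↥Z = topologicalKrullDim X + topologicalKrullDim Y := by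
  obtain ⟨w, hw, rfl⟩ := mem_irreducibleComponents_iff_exists_maximal.mp hZ
  obtain ⟨h1, h2⟩ := maximal_fst_snd f g w hw
  rw [WC97.topologicalKrullDim_closure (pullback.fst f g ≫ f), (WC97.dim_eq f).1, (WC97.dim_eq g).1,
    tdegN_pullback_eq_add f g w fun a ha _ _ => hw a ha, ← h1 _ (genericPoint_specializes _),
    ← h2 _ (genericPoint_specializes _)]
  push_cast
  rfl

variable (K : Type u) [Field K] [Algebra k K]

theorem locallyOfFiniteType_bcStr [LocallyOfFiniteType f] : LocallyOfFiniteType (FBase.bcStr f K) :=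
  (inferInstance : LocallyOfFiniteType (pullback.snd f (Spec.map (CommRingCat.ofHom (algebraMap k K)))))

theorem generalizingMap_bcπ : GeneralizingMap (FBase.bcπ f K) :=
  have : Flat (FBase.bcπ f K) := (inferInstance : Flat (pullback.fst f (Spec.map (CommRingCat.ofHom (algebraMap k K)))))
  Flat.generalizingMap _

theorem exists_bcπ_eq (x : X) : ∃ w, FBase.bcπ f K w = x :=
  (inferInstance : Surjective (pullback.fst f (Spec.map (CommRingCat.ofHom (algebraMap k K))))).surj x

theorem topologicalKrullDim_bc [LocallyOfFiniteType f] :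
    topologicalKrullDim ↥(FBase.bc f K) = topologicalKrullDim X := by
  have := locallyOfFiniteType_bcStr f K
  rw [topologicalKrullDim_eq_iSup_tdegN f, topologicalKrullDim_eq_iSup_tdegN (FBase.bcStr f K)]
  refine le_antisymm (iSup_le fun z => ?_) (iSup_le fun x => ?_)
  · obtain ⟨w, hw, hwz⟩ := exists_maximal_specializes z
    refine le_trans ?_ (le_iSup _ (FBase.bcπ f K w))
    rw [← tdegN_bc_eq f w fun a ha _ => hw a ha]
    exact_mod_cast tdegN_mono _ hwz
  · obtain ⟨x', hx', hxx⟩ := exists_maximal_specializes x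
    obtain ⟨z, rfl⟩ := exists_bcπ_eq f K x'
    obtain ⟨w, hw, hwz⟩ := exists_maximal_specializes z
    refine le_trans ?_ (le_iSup _ w)
    rw [tdegN_bc_eq f w fun a ha _ => hw a ha, hx' _ (hwz.map (FBase.bcπ f K).continuous)]
    exact_mod_cast tdegN_mono f hxx

theorem topologicalKrullDim_component_bc [LocallyOfFiniteType f]
    (Z : Set X) (hZc : IsClosed Z) (hZi : IsIrreducible Z)
    (W : Set ↥(⇑(FBase.bcπ f K) ⁻¹' Z)) (hW : W ∈ irreducibleComponents ↥(⇑(FBase.bcπ f K) ⁻¹' Z)) :
    topologicalKrullDim ↥W = topologicalKrullDim ↥Z := by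
  have := locallyOfFiniteType_bcStr f K
  obtain ⟨η, hη, hmax, hdim, -⟩ :=
    VarGal.exists_maximal_of_component (hZc.preimage (FBase.bcπ f K).continuous) W hW
  have hz := hZi.isGenericPoint_genericPoint hZc
  obtain ⟨a, ha, hπ⟩ := generalizingMap_bcπ f K (hz.specializes hη)
  have hae : a = η := hmax a (by rw [Set.mem_preimage, hπ]; exact hz.mem) ha
  subst hae
  rw [hdim, WC97.topologicalKrullDim_closure (FBase.bcStr f K), ← hz.def,
    WC97.topologicalKrullDim_closure f, ← hπ,
    tdegN_bc_eq f a fun b hb e => hmax b (by rw [Set.mem_preimage, e]; exact hη) hb]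

theorem image_topologicalKrullDim_components_bc [LocallyOfFiniteType f] :
    (fun Z : Set ↥(FBase.bc f K) => topologicalKrullDim ↥Z) '' irreducibleComponents ↥(FBase.bc f K) =
      (fun Z : Set X => topologicalKrullDim ↥Z) '' irreducibleComponents X := by
  have := locallyOfFiniteType_bcStr f K
  ext d
  constructor
  · rintro ⟨C, hC, rfl⟩
    obtain ⟨w, hw, rfl⟩ := mem_irreducibleComponents_iff_exists_maximal.mp hC
    refine ⟨closure {FBase.bcπ f K w},
      mem_irreducibleComponents_iff_exists_maximal.mpr ⟨_, fun x hx => ?_, rfl⟩, ?_⟩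
    · obtain ⟨a, ha, rfl⟩ := generalizingMap_bcπ f K hx
      rw [hw a ha]
    · simp only [WC97.topologicalKrullDim_closure f, WC97.topologicalKrullDim_closure (FBase.bcStr f K),
        tdegN_bc_eq f w fun a ha _ => hw a ha]
  · rintro ⟨C, hC, rfl⟩
    obtain ⟨x, hx, rfl⟩ := mem_irreducibleComponents_iff_exists_maximal.mp hC
    obtain ⟨z, rfl⟩ := exists_bcπ_eq f K x
    obtain ⟨w, hw, hwz⟩ := exists_maximal_specializes z
    refine ⟨closure {w}, mem_irreducibleComponents_iff_exists_maximal.mpr ⟨_, hw, rfl⟩, ?_⟩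
    simp only [WC97.topologicalKrullDim_closure f, WC97.topologicalKrullDim_closure (FBase.bcStr f K),
      tdegN_bc_eq f w fun a ha _ => hw a ha, hx _ (hwz.map (FBase.bcπ f K).continuous)]

end Groth.Agent.FBase64
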