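import Mathlib.AlgebraicGeometry.Morphisms.SmoothFiber
import Mathlib.AlgebraicGeometry.Morphisms.Proper
import Mathlib.RingTheory.Smooth.Fiber
import Mathlib.AlgebraicGeometry.Morphisms.Flat
import Mathlib.AlgebraicGeometry.Morphisms.IsIso

/-! Smoothness along a smooth fibre of a flat morphism. -/

set_option autoImplicit false
set_option linter.style.haveILetI false
universe u

open CategoryTheory CategoryTheory.Limits AlgebraicGeometry

namespace Groth.Agent.FBase64

variable {X Y : Scheme.{u}} (f : X ⟶ Y)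

set_option backward.isDefEq.respectTransparency false in
theorem mem_smoothLocus_of_smooth_fiber [LocallyOfFinitePresentation f] [Flat f] (x : X)
    (h : Smooth (f.fiberToSpecResidueField (f x))) : x ∈ f.smoothLocus := by
  obtain ⟨_, ⟨U, hU, rfl⟩, hxU, -⟩ :=
    Y.isBasis_affineOpens.exists_subset_of_mem_open (Set.mem_univ (f x)) isOpen_univ
  obtain ⟨_, ⟨V, hV, rfl⟩, hxV, hVU⟩ :=
    X.isBasis_affineOpens.exists_subset_of_mem_open hxU (U.2.preimage f.continuous)
  rw [Scheme.Hom.mem_smoothLocus, formallySmooth_stalkMap_iff U hU V hV hVU hxV]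
  have hfp := f.finitePresentation_appLE hU hV hVU
  have hfl := f.flat_appLE hU hV hVU
  algebraize [(f.appLE U V hVU).hom]
  set q := hV.primeIdealOf ⟨x, hxV⟩
  set p := hU.primeIdealOf ⟨f x, hVU hxV⟩
  haveI : q.asIdeal.LiesOver p.asIdeal :=
    ⟨congr($(IsAffineOpen.comap_primeIdealOf_appLE U hU V hV hVU hxV).1).symm⟩
  haveI hsm : Algebra.FormallySmooth p.asIdeal.ResidueField (p.asIdeal.Fiber Γ(X, V)) := by
    rw [← RingHom.formallySmooth_algebraMap]
    refine RingHom.Smooth.formallySmooth ?_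
    rw [← CommRingCat.hom_ofHom (algebraMap p.asIdeal.ResidueField (p.asIdeal.Fiber Γ(X, V))),
      ← HasRingHomProperty.Spec_iff (P := @Smooth), ← MorphismProperty.arrow_mk_iso_iff (P := @Smooth)
      (Spec.fiberToSpecResidueFieldIso Γ(Y, U) Γ(X, V) p)]
    let j : Spec Γ(X, V) ⟶ pullback f hU.fromSpec :=
      pullback.lift hV.fromSpec (Spec.map (f.appLE U V hVU)) (IsAffineOpen.SpecMap_appLE_fromSpec f hU hV hVU).symm
    haveI : IsOpenImmersion j := by
      haveI : IsOpenImmersion (j ≫ pullback.fst f hU.fromSpec) := by rw [pullback.lift_fst]; infer_instance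
      exact IsOpenImmersion.of_comp j (pullback.fst f hU.fromSpec)
    have hfx : hU.fromSpec p = f x := hU.fromSpec_primeIdealOf ⟨f x, hVU hxV⟩
    haveI : Smooth ((pullback.snd f hU.fromSpec).fiberToSpecResidueField p) := by
      refine MorphismProperty.of_isPullback
        (isPullback_fiberToSpecResidueField_of_isPullback (IsPullback.of_hasPullback f hU.fromSpec) p) ?_
      exact hfx ▸ h
    haveI : Smooth (pullback.snd (pullback.snd f hU.fromSpec) ((Spec Γ(Y, U)).fromSpecResidueField p)) :=
      inferInstanceAs (Smooth ((pullback.snd f hU.fromSpec).fiberToSpecResidueField p))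
    have hφ : Spec.map (CommRingCat.ofHom (algebraMap Γ(Y, U) Γ(X, V))) = j ≫ pullback.snd f hU.fromSpec :=
      (pullback.lift_snd _ _ _).symm
    show Smooth ((Spec.map (CommRingCat.ofHom (algebraMap Γ(Y, U) Γ(X, V)))).fiberToSpecResidueField p)
    rw [hφ, Scheme.Hom.fiberToSpecResidueField, ← pullbackRightPullbackFstIso_inv_snd_snd]
    infer_instance
  exact Algebra.IsSmoothAt.of_formallySmooth_fiber p.asIdeal q.asIdeal

theorem isOpen_setOf_smooth_fiber [IsProper f] [Flat f] [LocallyOfFinitePresentation f] :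
    IsOpen {y : Y | Smooth (f.fiberToSpecResidueField y)} := by
  have hopen : IsOpen (f '' ((f.smoothLocus : Set X)ᶜ))ᶜ :=
    (f.isClosedMap _ f.smoothLocus.2.isClosed_compl).isOpen_compl
  convert hopen using 1
  ext y
  refine ⟨fun hy ⟨x, hx, hxy⟩ => hx (mem_smoothLocus_of_smooth_fiber f x (by rw [hxy]; exact hy)), fun hy => ?_⟩
  haveI : Smooth (f.smoothLocus.ι ≫ f) := by
    rw [← Scheme.Hom.smoothLocus_eq_top_iff, ← Scheme.Hom.preimage_smoothLocus_eq]
    exact Scheme.Opens.ι_preimage_self _
  have hall : f.fiberι y ⁻¹ᵁ f.smoothLocus = ⊤ := top_le_iff.mp fun z _ => by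
    by_contra hz
    refine hy ⟨f.fiberι y z, hz, ?_⟩
    have := (f.range_fiberι y).subset ⟨z, rfl⟩
    exact this
  haveI : IsIso (pullback.snd f.smoothLocus.ι (f.fiberι y)) := by
    haveI : Surjective (pullback.snd f.smoothLocus.ι (f.fiberι y)) := ⟨fun z => by
      obtain ⟨w, -, hw⟩ := Scheme.Pullback.exists_preimage_pullback (f := f.smoothLocus.ι) (g := f.fiberι y)
        ⟨f.fiberι y z, hall.ge (Set.mem_univ z)⟩ z rfl
      exact ⟨w, hw⟩⟩
    exact (isIso_iff_isOpenImmersion_and_surjective _).mpr ⟨inferInstance, inferInstance⟩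
  show Smooth (f.fiberToSpecResidueField y)
  have hsq : IsPullback (inv (pullback.snd f.smoothLocus.ι (f.fiberι y)) ≫ pullback.fst f.smoothLocus.ι (f.fiberι y))
      (f.fiberToSpecResidueField y) (f.smoothLocus.ι ≫ f) (Y.fromSpecResidueField y) := by
    refine ((IsPullback.of_hasPullback f.smoothLocus.ι (f.fiberι y)).paste_vert
      (IsPullback.of_hasPullback f (Y.fromSpecResidueField y))).of_iso
      (asIso (pullback.snd f.smoothLocus.ι (f.fiberι y))) (Iso.refl _) (Iso.refl _) (Iso.refl _) ?_ ?_ ?_ ?_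
    all_goals simp [Scheme.Hom.fiberToSpecResidueField]
  exact MorphismProperty.of_isPullback hsq inferInstance

end Groth.Agent.FBase64
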