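import Groth.Agent.FDesc60.QF
import Mathlib.AlgebraicGeometry.Morphisms.UniversallyOpen
import Mathlib.RingTheory.TensorProduct.Maps
import Mathlib.RingTheory.Flat.Localization
import Mathlib.RingTheory.Support

/-! Quasi-flat morphisms are universally generalizing. -/

set_option autoImplicit false
set_option linter.style.haveILetI false

universe u

open CategoryTheory CategoryTheory.Limits AlgebraicGeometry TensorProduct

namespace Groth.Agent.FBase64.QuasiFlatOpen

/-- Localising a module flat over a subring keeps it flat. -/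
lemma flat_localizedModule {A T : Type u} [CommRing A] [CommRing T] [Algebra A T] (S : Submonoid T)
    (N : Type u) [AddCommGroup N] [Module A N] [Module T N] [IsScalarTower A T N] [Module.Flat A N] :
    Module.Flat A (LocalizedModule S N) := by
  rw [Module.Flat.iff_lTensor_injectiveₛ]
  intro P _ _ K
  rw [← TensorProduct.AlgebraTensorModule.coe_lTensor (A := T)]
  have hN : Function.Injective (LinearMap.lTensor N K.subtype) :=
    Module.Flat.iff_lTensor_injectiveₛ.mp inferInstance K
  rw [← TensorProduct.AlgebraTensorModule.coe_lTensor (A := T)] at hN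
  have h := IsLocalizedModule.map_injective S
    (TensorProduct.AlgebraTensorModule.rTensor A K (LocalizedModule.mkLinearMap S N))
    (TensorProduct.AlgebraTensorModule.rTensor A P (LocalizedModule.mkLinearMap S N))
    (TensorProduct.AlgebraTensorModule.lTensor T N K.subtype) hN
  rwa [IsLocalizedModule.map_lTensor] at h

/-- Going down below a point of the support of a finite module flat over the base. -/
lemma exists_le_comap_eq {A T : Type u} [CommRing A] [IsLocalRing A] [CommRing T] [Algebra A T]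
    (N : Type u) [AddCommGroup N] [Module A N] [Module T N] [IsScalarTower A T N] [Module.Finite T N]
    [Module.Flat A N] (P : PrimeSpectrum T) (hP : P ∈ Module.support T N)
    (hmax : P.asIdeal.comap (algebraMap A T) = IsLocalRing.maximalIdeal A) (q : PrimeSpectrum A) :
    ∃ Q : PrimeSpectrum T, Q ≤ P ∧ PrimeSpectrum.comap (algebraMap A T) Q = q := by
  let B := Localization.AtPrime P.asIdeal
  have : IsLocalHom (algebraMap A B) := ⟨fun a ha => by
    by_contra hu
    have : a ∈ IsLocalRing.maximalIdeal A := (IsLocalRing.mem_maximalIdeal a).mpr hu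
    rw [← hmax, Ideal.mem_comap] at this
    rw [IsScalarTower.algebraMap_apply A T B, IsLocalization.AtPrime.isUnit_to_map_iff B P.asIdeal] at ha
    exact ha this⟩
  let NP := LocalizedModule P.asIdeal.primeCompl N
  have : Nontrivial NP := Module.mem_support_iff.mp hP
  have : Module.Flat A NP := flat_localizedModule P.asIdeal.primeCompl N
  have : IsScalarTower A B NP := IsScalarTower.of_algebraMap_smul fun a y => by
    rw [IsScalarTower.algebraMap_apply A T B, algebraMap_smul, algebraMap_smul]
  obtain ⟨Q, hQ⟩ := FDesc60.comap_surjective_of_finite_flat (A := A) (B := B) NP q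
  refine ⟨PrimeSpectrum.comap (algebraMap T B) Q, ?_, ?_⟩
  · intro x hx
    exact (IsLocalization.AtPrime.to_map_mem_maximal_iff B P.asIdeal x).mp
      (IsLocalRing.le_maximalIdeal Q.2.ne_top hx)
  · rw [← hQ, IsScalarTower.algebraMap_eq A T B, PrimeSpectrum.comap_comp]
    rfl

/-- The point of the spectrum of a tensor product given by two compatible points with values in a
field lies in the support of the base change of a finite module. -/
lemma exists_le_of_field {A B A' K : Type u} [CommRing A] [CommRing B] [CommRing A'] [Field K]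
    [IsLocalRing B] [IsLocalRing A'] [Algebra A B] [Algebra A A'] [Algebra A K]
    (N : Type u) [AddCommGroup N] [Module B N] [Module A N] [IsScalarTower A B N] [Module.Finite B N]
    [Nontrivial N] [Module.Flat A N] (ι : B →ₐ[A] K) [IsLocalHom ι.toRingHom]
    (κ : A' →ₐ[A] K) [IsLocalHom κ.toRingHom] (q : PrimeSpectrum A') :
    ∃ Q : PrimeSpectrum (A' ⊗[A] B),
      Q.asIdeal ≤ RingHom.ker (Algebra.TensorProduct.lift κ ι fun _ _ => mul_comm _ _) ∧
      Q.asIdeal.comap (algebraMap A' (A' ⊗[A] B)) = q.asIdeal := by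
  let T := A' ⊗[A] B
  let φ : T →ₐ[A'] Module.End A' (A' ⊗[A] N) :=
    Algebra.TensorProduct.lift (Algebra.ofId A' _)
      ((Module.End.baseChangeHom A A' N).comp (Algebra.lsmul A A N : B →ₐ[A] Module.End A N))
      fun a b => Algebra.commutes a _
  letI : Module T (A' ⊗[A] N) := Module.compHom _ φ.toRingHom
  have hsm : ∀ (a : A') (b : B) (a₁ : A') (n : N),
      (a ⊗ₜ[A] b : T) • (a₁ ⊗ₜ[A] n : A' ⊗[A] N) = (a * a₁) ⊗ₜ[A] (b • n) := fun a b a₁ n => by
    change φ (a ⊗ₜ b) (a₁ ⊗ₜ n) = _
    refine (DFunLike.congr_fun (Algebra.TensorProduct.lift_tmul (Algebra.ofId A' _)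
      ((Module.End.baseChangeHom A A' N).comp (Algebra.lsmul A A N : B →ₐ[A] Module.End A N))
      (fun a b => Algebra.commutes a _) a b) (a₁ ⊗ₜ n)).trans ?_
    change a • LinearMap.baseChange A' (Algebra.lsmul A A N b) (a₁ ⊗ₜ n) = _
    rw [LinearMap.baseChange_tmul, Algebra.lsmul_coe, TensorProduct.smul_tmul', smul_eq_mul]
  haveI : IsScalarTower A' T (A' ⊗[A] N) := IsScalarTower.of_algebraMap_smul fun a z => by
    change φ (algebraMap A' T a) z = a • z
    rw [AlgHom.commutes, Module.algebraMap_end_apply]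
  obtain ⟨S, hS⟩ := Module.Finite.fg_top (R := B) (M := N)
  classical
  haveI : Module.Finite T (A' ⊗[A] N) := by
    refine ⟨⟨S.image fun n => (1 : A') ⊗ₜ[A] n, Submodule.eq_top_iff'.mpr fun z => ?_⟩⟩
    induction z using TensorProduct.induction_on with
    | zero => exact zero_mem _
    | add a b hza hzb => exact add_mem hza hzb
    | tmul a n =>
      have hn : n ∈ Submodule.span B (S : Set N) := hS ▸ Submodule.mem_top
      induction hn using Submodule.span_induction with
      | zero => rw [TensorProduct.tmul_zero]; exact zero_mem _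
      | add n m _ _ hn hm => rw [TensorProduct.tmul_add]; exact add_mem hn hm
      | mem n hn =>
        have := Submodule.smul_mem (Submodule.span T (↑(S.image fun n => (1 : A') ⊗ₜ[A] n) : Set (A' ⊗[A] N)))
          (a ⊗ₜ[A] (1 : B) : T) (Submodule.subset_span (by simpa using ⟨n, hn, rfl⟩))
        rwa [hsm, mul_one, one_smul] at this
      | smul b n _ hn =>
        have := Submodule.smul_mem (Submodule.span T (↑(S.image fun n => (1 : A') ⊗ₜ[A] n) : Set (A' ⊗[A] N)))
          ((1 : A') ⊗ₜ[A] b : T) hn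
        rwa [hsm, one_mul] at this
  let ψ : T →ₐ[A] K := Algebra.TensorProduct.lift κ ι fun _ _ => mul_comm _ _
  let P : PrimeSpectrum T := ⟨RingHom.ker ψ, RingHom.ker_isPrime _⟩
  -- a functional on the closed fibre of `N`
  let m := IsLocalRing.maximalIdeal B
  let N0 := N ⧸ (m • ⊤ : Submodule B N)
  have hN0 : (m • ⊤ : Submodule B N) ≠ ⊤ :=
    (Submodule.top_ne_ideal_smul_of_le_jacobson_annihilator (IsLocalRing.maximalIdeal_le_jacobson _)).symm
  letI : Field (B ⧸ m) := Ideal.Quotient.field m
  obtain ⟨n₀, hn₀⟩ : ∃ n₀ : N, n₀ ∉ (m • ⊤ : Submodule B N) := by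
    by_contra h
    push Not at h
    exact hN0 (top_le_iff.mp fun n _ => h n)
  have hne : (Submodule.Quotient.mk n₀ : N0) ≠ 0 := fun h => hn₀ ((Submodule.Quotient.mk_eq_zero _).mp h)
  obtain ⟨lam, -, hlam⟩ := LinearMap.exists_extend_of_notMem (K := B ⧸ m) (p := (⊥ : Submodule (B ⧸ m) N0))
    0 (v := (Submodule.Quotient.mk n₀ : N0)) (fun h => hne ((Submodule.mem_bot _).mp h)) (1 : B ⧸ m)
  let χ : (B ⧸ m) →+* K := Ideal.Quotient.lift m ι.toRingHom fun b hb => by
    by_contra hne
    exact (IsLocalRing.mem_maximalIdeal b).mp hb (IsLocalHom.map_nonunit (f := ι.toRingHom) b (isUnit_iff_ne_zero.mpr hne))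
  let g : N →+ K := (χ.toAddMonoidHom.comp lam.toAddMonoidHom).comp (Submodule.mkQ _).toAddMonoidHom
  have hg : ∀ (b : B) (n : N), g (b • n) = ι b * g n := fun b n => by
    change χ (lam (Submodule.Quotient.mk (b • n))) = ι b * χ (lam (Submodule.Quotient.mk n))
    have hb : (b • Submodule.Quotient.mk n : N0) = Ideal.Quotient.mk m b • (Submodule.Quotient.mk n : N0) := rfl
    rw [Submodule.Quotient.mk_smul, hb, map_smul, smul_eq_mul, map_mul]
    rfl
  have hgA : ∀ (c : A) (n : N), g (c • n) = algebraMap A K c * g n := fun c n => by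
    rw [← algebraMap_smul B c n, hg, AlgHom.commutes]
  let gl : N →ₗ[A] K :=
    { toFun := g, map_add' := g.map_add, map_smul' := fun c n => by
        rw [hgA, RingHom.id_apply, Algebra.smul_def] }
  let Λ : A' ⊗[A] N →ₗ[A] K := (LinearMap.mul' A K).comp (TensorProduct.map κ.toLinearMap gl)
  have hΛ : ∀ (t : T) (z : A' ⊗[A] N), Λ (t • z) = ψ t * Λ z := by
    intro t z
    induction t using TensorProduct.induction_on with
    | zero => rw [zero_smul, map_zero, map_zero, zero_mul]
    | add a b ha hb => rw [add_smul, map_add, map_add, ha, hb, add_mul]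
    | tmul a b =>
      induction z using TensorProduct.induction_on with
      | zero => rw [smul_zero, map_zero, mul_zero]
      | add y w hy hw => rw [smul_add, map_add, map_add, hy, hw, mul_add]
      | tmul a₁ n =>
        rw [hsm]
        simp only [Λ, ψ, gl, LinearMap.comp_apply, TensorProduct.map_tmul, LinearMap.mul'_apply,
          AlgHom.toLinearMap_apply, LinearMap.coe_mk, AddHom.coe_mk, Algebra.TensorProduct.lift_tmul,
          map_mul, hg]
        rw [show (Algebra.TensorProduct.lift κ ι fun _ _ => mul_comm _ _) (a ⊗ₜ[A] b) = κ a * ι b from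
          Algebra.TensorProduct.lift_tmul κ ι (fun _ _ => mul_comm _ _) a b]
        ring
  have hP : P ∈ Module.support T (A' ⊗[A] N) := by
    rw [Module.mem_support_iff_of_finite]
    intro t ht
    have h1 := hΛ t ((1 : A') ⊗ₜ[A] n₀)
    rw [Module.mem_annihilator.mp ht, map_zero] at h1
    have h2 : Λ ((1 : A') ⊗ₜ[A] n₀) = 1 := by
      simp only [Λ, gl, LinearMap.comp_apply, TensorProduct.map_tmul, LinearMap.mul'_apply,
        AlgHom.toLinearMap_apply, LinearMap.coe_mk, AddHom.coe_mk, map_one, one_mul]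
      change χ (lam (Submodule.Quotient.mk n₀)) = 1
      rw [hlam, map_one]
    rw [h2, mul_one] at h1
    exact h1.symm
  have hmax : P.asIdeal.comap (algebraMap A' T) = IsLocalRing.maximalIdeal A' := by
    ext a
    change ψ (a ⊗ₜ[A] (1 : B)) = 0 ↔ _
    rw [show ψ (a ⊗ₜ[A] (1 : B)) = κ a * ι 1 from
      Algebra.TensorProduct.lift_tmul κ ι (fun _ _ => mul_comm _ _) a 1,
      map_one, mul_one, IsLocalRing.mem_maximalIdeal, mem_nonunits_iff]
    exact ⟨fun h hu => (hu.map κ.toRingHom).ne_zero h,
      fun h => by_contra fun hne => h (IsLocalHom.map_nonunit (f := κ.toRingHom) a (isUnit_iff_ne_zero.mpr hne))⟩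
  obtain ⟨Q, hQP, hQ⟩ := exists_le_comap_eq (A := A') (T := T) (A' ⊗[A] N) P hP hmax q
  exact ⟨Q, hQP, congrArg PrimeSpectrum.asIdeal hQ⟩

theorem generalizingMap_of_isPullback {X Y X' Y' : Scheme.{u}} {f : X ⟶ Y} {g : Y' ⟶ Y}
    {fst : X' ⟶ X} {snd : X' ⟶ Y'} (h : IsPullback fst snd f g) (hf : FDesc.IsQuasiFlat f) :
    GeneralizingMap snd.base := by
  obtain ⟨M, hM, hfl, hnt⟩ := hf
  intro x' z hz
  set x := fst x' with hx
  set y' := snd x' with hy'
  have hc : f x = g y' := by
    rw [hx, hy', ← Scheme.Hom.comp_apply, ← Scheme.Hom.comp_apply, h.w]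
  obtain ⟨q, hq⟩ : z ∈ Set.range (Y'.fromSpecStalk y') :=
    (Set.ext_iff.mp Scheme.range_fromSpecStalk _).mpr hz
  let N := M.presheaf.stalk x
  let a : Y.presheaf.stalk (f x) ⟶ Y'.presheaf.stalk y' :=
    Y.presheaf.stalkSpecializes (specializes_of_eq hc.symm) ≫ g.stalkMap y'
  have ha : Spec.map a ≫ Y.fromSpecStalk (f x) = Y'.fromSpecStalk y' ≫ g := by
    rw [Spec.map_comp, Category.assoc, Scheme.SpecMap_stalkSpecializes_fromSpecStalk,
      Scheme.SpecMap_stalkMap_fromSpecStalk]
  let ι0 : X.presheaf.stalk x ⟶ X'.residueField x' := fst.stalkMap x' ≫ X'.residue x'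
  let κ0 : Y'.presheaf.stalk y' ⟶ X'.residueField x' := snd.stalkMap x' ≫ X'.residue x'
  have hι : Spec.map ι0 ≫ X.fromSpecStalk x = X'.fromSpecResidueField x' ≫ fst := by
    rw [Spec.map_comp, Category.assoc, Scheme.SpecMap_stalkMap_fromSpecStalk, Scheme.fromSpecResidueField,
      Category.assoc]
  have hκ : Spec.map κ0 ≫ Y'.fromSpecStalk y' = X'.fromSpecResidueField x' ≫ snd := by
    rw [Spec.map_comp, Category.assoc, Scheme.SpecMap_stalkMap_fromSpecStalk, Scheme.fromSpecResidueField,
      Category.assoc]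
  have hcompat : f.stalkMap x ≫ ι0 = a ≫ κ0 := by
    apply Spec.map_injective
    rw [← cancel_mono (Y.fromSpecStalk (f x)), Spec.map_comp, Spec.map_comp a κ0, Category.assoc,
      Category.assoc, ha, Scheme.SpecMap_stalkMap_fromSpecStalk, reassoc_of% hι, reassoc_of% hκ, h.w]
  letI := FlatMod.moduleStalkOver f M x
  letI : Algebra (Y.presheaf.stalk (f x)) (X.presheaf.stalk x) := (f.stalkMap x).hom.toAlgebra
  letI : Algebra (Y.presheaf.stalk (f x)) (Y'.presheaf.stalk y') := a.hom.toAlgebra
  letI : Algebra (Y.presheaf.stalk (f x)) (X'.residueField x') := (a ≫ κ0).hom.toAlgebra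
  haveI : IsScalarTower (Y.presheaf.stalk (f x)) (X.presheaf.stalk x) N :=
    ⟨fun r b n ↦ by rw [Algebra.smul_def]; exact mul_smul ((f.stalkMap x).hom r) b n⟩
  haveI : Module.Flat (Y.presheaf.stalk (f x)) N := hfl x
  haveI := hnt x
  haveI := FDesc60.finite_stalk_of_isCoh M hM x
  let ι : X.presheaf.stalk x →ₐ[Y.presheaf.stalk (f x)] X'.residueField x' :=
    { ι0.hom with commutes' := fun r => congr($(hcompat) r) }
  let κ : Y'.presheaf.stalk y' →ₐ[Y.presheaf.stalk (f x)] X'.residueField x' :=
    { κ0.hom with commutes' := fun _ => rfl }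
  haveI : IsLocalHom ι.toRingHom := by
    haveI : IsLocalHom (X'.residue x').hom := inferInstanceAs (IsLocalHom (IsLocalRing.residue _))
    exact RingHom.isLocalHom_comp (X'.residue x').hom (fst.stalkMap x').hom
  haveI : IsLocalHom κ.toRingHom := by
    haveI : IsLocalHom (X'.residue x').hom := inferInstanceAs (IsLocalHom (IsLocalRing.residue _))
    exact RingHom.isLocalHom_comp (X'.residue x').hom (snd.stalkMap x').hom
  obtain ⟨Q, hQle, hQ⟩ := exists_le_of_field N ι κ q
  let T := CommRingCat.of (Y'.presheaf.stalk y' ⊗[Y.presheaf.stalk (f x)] X.presheaf.stalk x)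
  let iL : Y'.presheaf.stalk y' ⟶ T := CommRingCat.ofHom (Algebra.TensorProduct.includeLeftRingHom (R := Y.presheaf.stalk (f x)) (A := Y'.presheaf.stalk y') (B := X.presheaf.stalk x))
  let iR : X.presheaf.stalk x ⟶ T := CommRingCat.ofHom (Algebra.TensorProduct.includeRight (R := Y.presheaf.stalk (f x)) (A := Y'.presheaf.stalk y') (B := X.presheaf.stalk x)).toRingHom
  have hT : f.stalkMap x ≫ iR = a ≫ iL := by
    ext r
    change (1 : Y'.presheaf.stalk y') ⊗ₜ (f.stalkMap x r) = (a r) ⊗ₜ (1 : X.presheaf.stalk x)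
    rw [← mul_one (f.stalkMap x r)]
    exact (TensorProduct.smul_tmul r (1 : Y'.presheaf.stalk y') (1 : X.presheaf.stalk x)).symm.trans
      (by rw [Algebra.smul_def, mul_one]; rfl)
  let τ : Spec T ⟶ X' := h.lift (Spec.map iR ≫ X.fromSpecStalk x) (Spec.map iL ≫ Y'.fromSpecStalk y') (by
    rw [Category.assoc, Category.assoc, ← ha, ← Scheme.SpecMap_stalkMap_fromSpecStalk,
      ← Spec.map_comp_assoc, ← Spec.map_comp_assoc, hT])
  let ψ : T ⟶ X'.residueField x' :=
    CommRingCat.ofHom (Algebra.TensorProduct.lift κ ι fun _ _ => mul_comm _ _).toRingHom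
  have hψ : Spec.map ψ ≫ τ = X'.fromSpecResidueField x' := by
    apply h.hom_ext
    · have : iR ≫ ψ = ι0 := by
        ext b
        change Algebra.TensorProduct.lift κ ι (fun _ _ => mul_comm _ _) ((1 : Y'.presheaf.stalk y') ⊗ₜ b) = ι0 b
        refine (Algebra.TensorProduct.lift_tmul κ ι (fun _ _ => mul_comm _ _) 1 b).trans ?_
        rw [map_one, one_mul]
        rfl
      rw [Category.assoc, h.lift_fst, ← Spec.map_comp_assoc, this, hι]
    · have : iL ≫ ψ = κ0 := by
        ext b
        change Algebra.TensorProduct.lift κ ι (fun _ _ => mul_comm _ _) (b ⊗ₜ (1 : X.presheaf.stalk x)) = κ0 b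
        refine (Algebra.TensorProduct.lift_tmul κ ι (fun _ _ => mul_comm _ _) b 1).trans ?_
        rw [map_one, mul_one]
        rfl
      rw [Category.assoc, h.lift_snd, ← Spec.map_comp_assoc, this, hκ]
  refine ⟨τ ⟨Q.asIdeal, Q.2⟩, ?_, ?_⟩
  · have hx' : τ (Spec.map ψ (IsLocalRing.closedPoint (X'.residueField x'))) = x' := by
      refine (Scheme.Hom.comp_apply (Spec.map ψ) τ _).symm.trans ?_
      rw [hψ]
      exact Scheme.fromSpecResidueField_apply _ _
    rw [← hx']
    refine Specializes.map ?_ τ.continuous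
    refine (PrimeSpectrum.le_iff_specializes ⟨Q.asIdeal, Q.2⟩ _).mp ?_
    refine hQle.trans fun t ht => ?_
    change ψ t ∈ IsLocalRing.maximalIdeal (X'.residueField x')
    rw [show ψ t = 0 from ht]
    exact Ideal.zero_mem _
  · refine (Scheme.Hom.comp_apply τ snd _).symm.trans ?_
    rw [show τ ≫ snd = Spec.map iL ≫ Y'.fromSpecStalk y' from h.lift_snd _ _ _]
    refine (Scheme.Hom.comp_apply (Spec.map iL) _ _).trans ?_
    rw [← hq]
    congr 1
    exact PrimeSpectrum.ext hQ

end Groth.Agent.FBase64.QuasiFlatOpen
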