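import Groth.Agent.FBase64.AssTensor.PullLength
import Groth.Agent.FBase64.PointCmp
import Groth.Agent.QC70.UnitSub
import Groth.Agent.QC70.FiniteType
import Groth.Prelude.Def_FDesc

/-! Reduced modules under extensions of the base field. -/

set_option autoImplicit false
set_option linter.style.haveILetI false
set_option backward.isDefEq.respectTransparency.types false
set_option maxHeartbeats 1000000
universe u

open CategoryTheory CategoryTheory.Limits AlgebraicGeometry TopologicalSpace TensorProduct

namespace Groth.Agent.FBase64.RedField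

open AssSheaf AssTensor

theorem isCoh_structure (X : Scheme.{u}) : Coh.IsCoh (Coh.structureModule X) :=
  ⟨QC70.isQuasicoherent_unit (X := X), by
    refine QC70.isFiniteType_of_locGenBy _ (fun _ : X => (⊤ : X.Opens))
      (eq_top_iff.2 fun x _ => Opens.mem_iSup.2 ⟨x, trivial⟩)
      (fun _ => ⟨PUnit.{u+1}, inferInstance, fun _ => QC70.toUnit (1 : Γ(X, ⊤)), ?_⟩)
    intro W hW y p hp
    refine ⟨W, le_rfl, le_top, fun _ => (show Γ(X, W) from y), hp, ?_⟩
    rw [QC70.res_self, Fintype.sum_unique, QC70.res_unit, QC70.smul_unit]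
    exact (congrArg QC70.toUnit ((congrArg (_ * ·) (map_one (X.presheaf.map _).hom)).trans (mul_one _))).symm⟩

theorem isFlatOver_structure {X Y : Scheme.{u}} (π : X ⟶ Y) [Flat π] :
    FlatMod.IsFlatOver π (Coh.structureModule X) := by
  intro x
  unfold FlatMod.IsFlatOverAt
  letI := FlatMod.moduleStalkOver π (Coh.structureModule X) x
  letI : Algebra (Y.presheaf.stalk (π x)) (X.presheaf.stalk x) := (π.stalkMap x).hom.toAlgebra
  haveI : Module.Flat (Y.presheaf.stalk (π x)) (X.presheaf.stalk x) := Flat.stalkMap π x
  haveI : IsScalarTower (Y.presheaf.stalk (π x)) (X.presheaf.stalk x)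
      ((Coh.structureModule X).presheaf.stalk x) :=
    ⟨fun a b n => by rw [Algebra.smul_def]; exact mul_smul ((π.stalkMap x).hom a) b n⟩
  exact Module.Flat.of_linearEquiv ((QC70.unitStalkEquiv x).symm.restrictScalars (Y.presheaf.stalk (π x)))

theorem length_structure {X : Scheme.{u}} (x : X) :
    Module.length (X.presheaf.stalk x) ((Coh.structureModule X).presheaf.stalk x) =
      Module.length (X.presheaf.stalk x) (X.presheaf.stalk x) :=
  (QC70.unitStalkEquiv x).length_eq.symm

theorem isReducedMod_structure_of_isReduced (Z : Scheme.{u}) [IsReduced Z] :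
    AssSch.IsReducedMod (Coh.structureModule Z) := by
  have hbot : ∀ z ∈ AssSch.Ass (Coh.structureModule Z), IsLocalRing.maximalIdeal (Z.presheaf.stalk z) = ⊥ :=
    fun z hz => maximalIdeal_eq_bot_of_reduced ((mem_ass_structure_iff z).mp hz)
  refine ⟨fun z hz w _ hsp => ?_, fun z hz => ?_⟩
  · letI := (IsLocalRing.isField_iff_maximalIdeal_eq.mpr (hbot z hz)).toField
    obtain ⟨q, hq⟩ : w ∈ Set.range (Z.fromSpecStalk z) :=
      (Set.ext_iff.mp Scheme.range_fromSpecStalk _).mpr hsp
    exact (Scheme.fromSpecStalk_closedPoint (X := Z) (x := z)).symm.trans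
      ((congrArg _ (Subsingleton.elim (α := PrimeSpectrum (Z.presheaf.stalk z)) _ q)).trans hq)
  · letI := (IsLocalRing.isField_iff_maximalIdeal_eq.mpr (hbot z hz)).toField
    rw [length_structure]
    exact Module.length_eq_one_iff.mpr inferInstance

theorem isReduced_of_isReducedMod (Z : Scheme.{u}) [IsLocallyNoetherian Z]
    (h : AssSch.IsReducedMod (Coh.structureModule Z)) : IsReduced Z := by
  refine isReduced_of_ass fun z hz => ?_
  have h1 := h.2 z hz
  rw [length_structure, Module.length_eq_one_iff] at h1
  have h2 : IsLocalRing.maximalIdeal (Z.presheaf.stalk z) = ⊥ :=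
    (h1.toIsSimpleOrder.eq_bot_or_eq_top _).resolve_right (IsLocalRing.maximalIdeal.isMaximal _).ne_top
  letI := (IsLocalRing.isField_iff_maximalIdeal_eq.mpr h2).toField
  infer_instance

theorem isReducedMod_congr {Z : Scheme.{u}} {F G : Z.Modules} (e : F ≅ G) :
    AssSch.IsReducedMod F ↔ AssSch.IsReducedMod G := by
  have hlen : ∀ z : Z, Module.length (Z.presheaf.stalk z) (F.presheaf.stalk z) =
      Module.length (Z.presheaf.stalk z) (G.presheaf.stalk z) := fun z =>
    (LinearEquiv.ofBijective (QC70.stalkLinear e.hom z)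
      ⟨QC70.injective_stalkMapM_of_mono e.hom z, QC70.surjective_stalkMapM_of_epi e.hom z⟩).length_eq
  rw [AssSch.IsReducedMod, AssSch.IsReducedMod, noEmbedded_congr e, ass_iso e]
  simp_rw [hlen]

theorem isReducedMod_pullback_iso {Z' Z : Scheme.{u}} (e : Z' ⟶ Z) [IsIso e] (M : Z.Modules) :
    AssSch.IsReducedMod ((Scheme.Modules.pullback e).obj M) ↔ AssSch.IsReducedMod M := by
  constructor
  · intro h
    refine ⟨fun a ha b hb hsp => ?_, fun a ha => ?_⟩
    · obtain ⟨a, rfl⟩ := e.surjective a
      obtain ⟨b, rfl⟩ := e.surjective b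
      exact congrArg e (h.1 a ((mem_ass_pullback_iff e M a).mpr ha) b ((mem_ass_pullback_iff e M b).mpr hb)
        (e.isEmbedding.isInducing.specializes_iff.mp hsp))
    · obtain ⟨a, rfl⟩ := e.surjective a
      rw [← length_stalk_pullback e M a]
      exact h.2 a ((mem_ass_pullback_iff e M a).mpr ha)
  · intro h
    refine ⟨fun a ha b hb hsp => e.isEmbedding.injective ?_, fun a ha => ?_⟩
    · exact h.1 _ ((mem_ass_pullback_iff e M a).mp ha) _ ((mem_ass_pullback_iff e M b).mp hb)
        (hsp.map e.continuous)
    · rw [length_stalk_pullback e M a]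
      exact h.2 _ ((mem_ass_pullback_iff e M a).mp ha)

/-- The base change of `F` along a flat surjection is reduced iff `F` is and the fibres over `Ass F` are reduced. -/
theorem isReducedMod_pullback_iff {X' X : Scheme.{u}} (π : X' ⟶ X) [Flat π] [Surjective π]
    [IsLocallyNoetherian X'] [IsLocallyNoetherian X] (F : X.Modules) (hF : Coh.IsQCoh F) :
    AssSch.IsReducedMod ((Scheme.Modules.pullback π).obj F) ↔
      AssSch.IsReducedMod F ∧ ∀ x ∈ AssSch.Ass F, AssSch.IsReducedMod (Coh.structureModule (π.fiber x)) := by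
  rw [← isReducedMod_congr (EGA73.tensUnitRight ((Scheme.Modules.pullback π).obj F)),
    isReducedMod_pullTensor_iff π F hF (Coh.structureModule X') (isCoh_structure X') (isFlatOver_structure π)]
  have hsupp : ∀ x : X', x ∈ CohB1.support (Coh.structureModule X') := fun x h =>
    not_subsingleton (X'.presheaf.stalk x) ((QC70.unitStalkEquiv x).toEquiv.subsingleton_congr.mpr h)
  have hfib : ∀ x : X, AssSch.IsReducedMod ((Scheme.Modules.pullback (π.fiberι x)).obj (Coh.structureModule X')) ↔
      AssSch.IsReducedMod (Coh.structureModule (π.fiber x)) := fun x =>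
    isReducedMod_congr (PicLoc.pullbackStructureIso (π.fiberι x))
  have hmem : ∀ x ∈ AssSch.Ass F, x ∈ AssSch.Ass F ∩ π.base '' CohB1.support (Coh.structureModule X') :=
    fun x hx => ⟨hx, (π.surjective x).imp fun y hy => ⟨hsupp y, hy⟩⟩
  constructor
  · intro h
    refine ⟨⟨fun x hx y hy hsp => ((h x (hmem x hx)).1 y hy hsp).symm, fun x hx => (h x (hmem x hx)).2.1⟩,
      fun x hx => (hfib x).mp (h x (hmem x hx)).2.2⟩
  · rintro ⟨h1, h2⟩ x ⟨hx, -⟩
    exact ⟨fun y hy hsp => (h1.1 x hx y hy hsp).symm, h1.2 x hx, (hfib x).mpr (h2 x hx)⟩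

/-- Reduced after every finite purely inseparable extension implies geometrically reduced. -/
theorem geometricallyReduced_of_purelyInseparable {k κ : Type u} [Field k] [Field κ] [Algebra k κ]
    (h : ∀ (k' : Type u) [Field k'] [Algebra k k'] [FiniteDimensional k k'] [IsPurelyInseparable k k'],
      _root_.IsReduced (κ ⊗[k] k')) :
    GeometricallyReduced (Spec.map (CommRingCat.ofHom (algebraMap k κ))) := by
  let Ω : IntermediateField k (AlgebraicClosure k) := perfectClosure k (AlgebraicClosure k)
  haveI : _root_.IsReduced (κ ⊗[k] Ω) := by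
    refine IsReduced.tensorProduct_of_flat_of_forall_fg fun B hB => ?_
    have hBf : IsField B := Subalgebra.isField_of_algebraic B
    letI := hBf.toField
    haveI : Algebra.FiniteType k B := ⟨(Subalgebra.fg_top B).mpr hB⟩
    haveI : Algebra.IsAlgebraic k B := Algebra.IsAlgebraic.of_injective B.val Subtype.val_injective
    haveI : Algebra.IsIntegral k B := Algebra.IsAlgebraic.isIntegral
    haveI : FiniteDimensional k B := Algebra.IsIntegral.finite
    haveI : IsPurelyInseparable k B := IsPurelyInseparable.tower_bot k B Ω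
    exact h B
  haveI : AlgebraicGeometry.IsReduced (Spec (CommRingCat.of (κ ⊗[k] Ω))) := inferInstance
  haveI : AlgebraicGeometry.IsReduced (FBase.bc (Spec.map (CommRingCat.ofHom (algebraMap k κ))) Ω) :=
    isReduced_of_isOpenImmersion (pullbackSpecIso k κ Ω).hom
  exact geometricallyReduced_of_isReduced_perfect _ Ω

variable {k : Type u} [Field k] {X : Scheme.{u}} (f : X ⟶ Spec (CommRingCat.of k))

/-- The fibre of a base change of fields is the base change of the residue field. -/
noncomputable def bcFiberIso (K : Type u) [Field K] [Algebra k K] (x : X) :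
    (pullback.fst f (Spec.map (CommRingCat.ofHom (algebraMap k K)))).fiber x ≅
      pullback (X.fromSpecResidueField x ≫ f) (Spec.map (CommRingCat.ofHom (algebraMap k K))) :=
  pullbackSymmetry _ _ ≪≫ pullbackRightPullbackFstIso _ _ _

instance flat_specMap_field (K : Type u) [Field K] [Algebra k K] :
    Flat (Spec.map (CommRingCat.ofHom (algebraMap k K))) := by
  rw [HasRingHomProperty.Spec_iff (P := @Flat)]
  exact RingHom.flat_algebraMap_iff.mpr inferInstance

theorem geometricallyReduced_residue [IsLocallyNoetherian X] (F : X.Modules) (hF : Coh.IsQCoh F)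
    (h : ∀ (k' : Type u) [Field k'] [Algebra k k'] [FiniteDimensional k k'] [IsPurelyInseparable k k'],
        AssSch.IsReducedMod ((Scheme.Modules.pullback (FBase.bcπ f k')).obj F))
    (x : X) (hx : x ∈ AssSch.Ass F) :
    GeometricallyReduced (X.fromSpecResidueField x ≫ f) := by
  obtain ⟨φ, hφ⟩ : ∃ φ : CommRingCat.of k ⟶ X.residueField x, X.fromSpecResidueField x ≫ f = Spec.map φ :=
    ⟨Spec.preimage _, (Spec.map_preimage _).symm⟩
  rw [hφ]
  letI : Algebra k (X.residueField x) := φ.hom.toAlgebra
  refine geometricallyReduced_of_purelyInseparable (κ := X.residueField x) fun k' _ _ _ _ => ?_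
  let g := Spec.map (CommRingCat.ofHom (algebraMap k k'))
  haveI : LocallyOfFiniteType g := by
    rw [HasRingHomProperty.Spec_iff (P := @LocallyOfFiniteType)]
    exact RingHom.finiteType_algebraMap.mpr inferInstance
  haveI : IsLocallyNoetherian (pullback f g) := LocallyOfFiniteType.isLocallyNoetherian (pullback.fst f g)
  haveI : Surjective g := ⟨Function.surjective_to_subsingleton _⟩
  have h2 := ((isReducedMod_pullback_iff (pullback.fst f g) F hF).mp (h k')).2 x hx
  let e : (pullback.fst f g).fiber x ≅ Spec (CommRingCat.of (X.residueField x ⊗[k] k')) :=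
    bcFiberIso f k' x ≪≫ pullback.congrHom hφ rfl ≪≫ pullbackSpecIso k (X.residueField x) k'
  haveI : IsNoetherianRing (X.residueField x ⊗[k] k') :=
    IsNoetherianRing.of_finite (X.residueField x) _
  haveI : IsLocallyNoetherian ((pullback.fst f g).fiber x) := isLocallyNoetherian_of_isOpenImmersion e.hom
  haveI := isReduced_of_isReducedMod _ h2
  haveI : AlgebraicGeometry.IsReduced (Spec (CommRingCat.of (X.residueField x ⊗[k] k'))) :=
    isReduced_of_isOpenImmersion e.inv
  exact (affine_isReduced_iff _).mp this

theorem isReducedMod_of_forall [IsLocallyNoetherian X] (F : X.Modules) (hF : Coh.IsQCoh F)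
    (h : ∀ (k' : Type u) [Field k'] [Algebra k k'] [FiniteDimensional k k'] [IsPurelyInseparable k k'],
        AssSch.IsReducedMod ((Scheme.Modules.pullback (FBase.bcπ f k')).obj F)) :
    AssSch.IsReducedMod F := by
  let g := Spec.map (CommRingCat.ofHom (algebraMap k k))
  haveI : IsIso g := by
    rw [show g = 𝟙 _ from (congrArg Spec.map CommRingCat.ofHom_id).trans (Spec.map_id _)]
    infer_instance
  exact (isReducedMod_pullback_iso (pullback.fst f g) F).mp (h k)

theorem isReducedMod_bc [IsLocallyNoetherian X] (F : X.Modules) (hF : Coh.IsQCoh F)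
    (h : ∀ (k' : Type u) [Field k'] [Algebra k k'] [FiniteDimensional k k'] [IsPurelyInseparable k k'],
        AssSch.IsReducedMod ((Scheme.Modules.pullback (FBase.bcπ f k')).obj F))
    (K : Type u) [Field K] [Algebra k K] [IsLocallyNoetherian (FBase.bc f K)] :
    AssSch.IsReducedMod ((Scheme.Modules.pullback (FBase.bcπ f K)).obj F) := by
  let g := Spec.map (CommRingCat.ofHom (algebraMap k K))
  haveI : IsLocallyNoetherian (pullback f g) := ‹IsLocallyNoetherian (FBase.bc f K)›
  haveI : Surjective g := ⟨Function.surjective_to_subsingleton _⟩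
  refine (isReducedMod_pullback_iff (pullback.fst f g) F hF).mpr
    ⟨isReducedMod_of_forall f F hF h, fun x hx => ?_⟩
  haveI := geometricallyReduced_residue f F hF h x hx
  haveI : AlgebraicGeometry.IsReduced (pullback (X.fromSpecResidueField x ≫ f) g) :=
    GeometricallyReduced.geometrically_isReduced g (pullback.fst _ _) (pullback.snd _ _)
      (IsPullback.of_hasPullback _ _)
  haveI := isReduced_of_isOpenImmersion (bcFiberIso f K x).hom
  exact isReducedMod_structure_of_isReduced _

end Groth.Agent.FBase64.RedField
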