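import Groth.Agent.FBase64.AssQuot
import Mathlib.RingTheory.Regular.RegularSequence
import Mathlib.RingTheory.KrullDimension.Regular
import Mathlib.RingTheory.Ideal.AssociatedPrime.Localization
import Mathlib.RingTheory.Ideal.KrullsHeightTheorem

/-! Modules with reduced or integral reduction modulo an element. -/

universe u

namespace Groth.Agent.FBase64.AssReduced

open Module
open scoped Pointwise

variable {A : Type u} [CommRing A] [IsNoetherianRing A]

lemma mem_of_ass_quotient (M : Type u) [AddCommGroup M] [Module A M] (I : Ideal A) {p : Ideal A}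
    (hp : p ∈ associatedPrimes A (M ⧸ (I • (⊤ : Submodule A M)))) :
    I ≤ p ∧ Module.annihilator A M ≤ p := by
  have h := IsAssociatedPrime.annihilator_le hp
  rw [Submodule.annihilator_top] at h
  refine ⟨fun a ha => h ?_, fun a ha => h ?_⟩
  · rw [Module.mem_annihilator]
    intro x
    obtain ⟨y, rfl⟩ := Submodule.Quotient.mk_surjective _ x
    rw [← Submodule.Quotient.mk_smul, Submodule.Quotient.mk_eq_zero]
    exact Submodule.smul_mem_smul ha trivial
  · rw [Module.mem_annihilator]
    intro x
    obtain ⟨y, rfl⟩ := Submodule.Quotient.mk_surjective _ x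
    rw [← Submodule.Quotient.mk_smul, Module.mem_annihilator.mp ha y, Submodule.Quotient.mk_zero]

/-- If `M/tM` is reduced at each associated prime and `t` avoids the minimal primes of the support,
then `t` is regular. -/
theorem isSMulRegular_of_reduced (M : Type u) [AddCommGroup M] [Module A M] [Module.Finite A M] (t : A)
    (ht : ∀ p ∈ associatedPrimes A (M ⧸ (Ideal.span {t} • (⊤ : Submodule A M))),
      ∃ q ∈ (Module.annihilator A M).minimalPrimes, q ≤ p ∧ t ∉ q)
    (hjac : ∀ x : M, t • x = 0 →
      ∀ r : A, r - 1 ∈ Ideal.span {t} → r • x = 0 → x = 0 := by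
        intro x hx r hr h
        obtain ⟨c, hc⟩ := Ideal.mem_span_singleton'.mp hr
        rw [show r = c * t + 1 by rw [hc, sub_add_cancel], add_smul, mul_smul, hx, smul_zero,
          zero_add, one_smul] at h
        exact h)
    (hlen : ∀ p : associatedPrimes A (M ⧸ (Ideal.span {t} • (⊤ : Submodule A M))),
      haveI : p.1.IsPrime := IsAssociatedPrime.isPrime p.2
      Module.length (Localization.AtPrime p.1)
        (LocalizedModule p.1.primeCompl (M ⧸ (Ideal.span {t} • (⊤ : Submodule A M)))) = 1) :
    IsSMulRegular M t := by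
  let P := associatedPrimes A (M ⧸ (Ideal.span {t} • (⊤ : Submodule A M)))
  have hcyc : ∀ p ∈ P, ∀ x : M, t • x = 0 → ∃ s ∉ p, s • x = 0 := fun p hp => by
    have : p.IsPrime := IsAssociatedPrime.isPrime hp
    exact (AssAlg.cyclic_atPrime t p
      ((Ideal.span_singleton_le_iff_mem p).mp (mem_of_ass_quotient M _ hp).1) (hlen ⟨p, hp⟩) (ht p hp)).1
  let N : Submodule A M :=
    { carrier := {x | ∀ p ∈ P, ∃ s ∉ p, s • x = 0}
      add_mem' := fun {x y} hx hy p hp => by
        obtain ⟨s, hs, hsx⟩ := hx p hp
        obtain ⟨r, hr, hry⟩ := hy p hp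
        refine ⟨s * r, fun h => ((IsAssociatedPrime.isPrime hp).mem_or_mem h).elim hs hr, ?_⟩
        rw [smul_add, mul_smul, mul_smul, hry, smul_zero, add_zero, smul_comm, hsx, smul_zero]
      zero_mem' := fun p hp => ⟨1, fun h => (IsAssociatedPrime.isPrime hp).ne_top
        ((Ideal.eq_top_iff_one p).mpr h), smul_zero _⟩
      smul_mem' := fun c x hx p hp => by
        obtain ⟨s, hs, hsx⟩ := hx p hp
        exact ⟨s, hs, by rw [smul_comm, hsx, smul_zero]⟩ }
  have hN : N ≤ Ideal.span {t} • N := by
    intro x hx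
    obtain ⟨y, rfl⟩ := (AssAlg.mem_span_smul_top t x).mp ((Submodule.Quotient.mk_eq_zero _).mp
      (AssAlg.eq_zero_of_forall_ass (A := A)
        (Submodule.Quotient.mk x : M ⧸ (Ideal.span {t} • (⊤ : Submodule A M))) fun p hp => by
        obtain ⟨s, hs, hsx⟩ := hx p hp
        exact ⟨s, hs, by rw [← Submodule.Quotient.mk_smul, hsx, Submodule.Quotient.mk_zero]⟩))
    refine Submodule.smul_mem_smul (Ideal.mem_span_singleton_self t) fun p hp => ?_
    obtain ⟨s, hs, hsy⟩ := hx p hp
    rw [smul_comm] at hsy
    obtain ⟨r, hr, hry⟩ := hcyc p hp _ hsy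
    exact ⟨r * s, fun h => ((IsAssociatedPrime.isPrime hp).mem_or_mem h).elim hr hs,
      by rw [mul_smul, hry]⟩
  obtain ⟨r, hr, hr0⟩ := Submodule.exists_sub_one_mem_and_smul_eq_zero_of_fg_of_le_smul _ N
    (IsNoetherian.noetherian N) hN
  exact isSMulRegular_iff_right_eq_zero_of_smul.mpr fun x hx =>
    hjac x hx r hr (hr0 x fun p hp => hcyc p hp x hx)

variable [IsLocalRing A]

/-- One step: an integral reduction modulo a parameter forces integrality and regularity. -/
theorem integral_step (M : Type u) [AddCommGroup M] [Module A M] [Module.Finite A M] [Nontrivial M]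
    (t : A) (ht : t ∈ IsLocalRing.maximalIdeal A)
    (hdim : Module.supportDim A (M ⧸ (Ideal.span {t} • (⊤ : Submodule A M))) + 1 = Module.supportDim A M)
    (h₁ : ∃ p, associatedPrimes A (M ⧸ (Ideal.span {t} • (⊤ : Submodule A M))) = {p})
    (h₂ : ∀ p : associatedPrimes A (M ⧸ (Ideal.span {t} • (⊤ : Submodule A M))),
      haveI : p.1.IsPrime := IsAssociatedPrime.isPrime p.2
      Module.length (Localization.AtPrime p.1)
        (LocalizedModule p.1.primeCompl (M ⧸ (Ideal.span {t} • (⊤ : Submodule A M)))) = 1) :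
    (∃ p, associatedPrimes A M = {p}) ∧
      (∀ p : associatedPrimes A M,
        haveI : p.1.IsPrime := IsAssociatedPrime.isPrime p.2
        Module.length (Localization.AtPrime p.1) (LocalizedModule p.1.primeCompl M) = 1) ∧
      IsSMulRegular M t := by
  obtain ⟨p, hP⟩ := h₁
  set M1 := M ⧸ (Ideal.span {t} • (⊤ : Submodule A M))
  have hp : p ∈ associatedPrimes A M1 := by rw [hP]; rfl
  have hpp : p.IsPrime := IsAssociatedPrime.isPrime hp
  obtain ⟨htp, hann⟩ := mem_of_ass_quotient M _ hp
  have htp' : t ∈ p := (Ideal.span_singleton_le_iff_mem p).mp htp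
  obtain ⟨q₀, hq₀, hq₀p⟩ := Ideal.exists_minimalPrimes_le hann
  have hsub : ∀ r ∈ Module.support A M, t ∈ r.asIdeal → p ≤ r.asIdeal := by
    intro r hr htr
    have hr1 : r ∈ Module.support A M1 := by
      rw [Module.support_quotient]
      refine ⟨hr, ?_⟩
      rw [PrimeSpectrum.mem_zeroLocus, SetLike.coe_subset_coe, Ideal.span_singleton_le_iff_mem]
      exact htr
    rw [Module.mem_support_iff_of_finite] at hr1
    obtain ⟨m, hm, hmr⟩ := Ideal.exists_minimalPrimes_le hr1
    have := Module.associatedPrimes.minimalPrimes_annihilator_subset_associatedPrimes A M1 hm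
    rw [hP, Set.mem_singleton_iff] at this
    exact this ▸ hmr
  -- `t` lies in no minimal prime of the support below `p`
  have hmin : ∃ q ∈ (Module.annihilator A M).minimalPrimes, q ≤ p ∧ t ∉ q := by
    refine ⟨q₀, hq₀, hq₀p, fun htq => ?_⟩
    have := hq₀.1.1
    have hpq : p ≤ q₀ := hsub ⟨q₀, this⟩ (Module.mem_support_iff_of_finite.mpr hq₀.1.2) htq
    have hqe : q₀ = p := le_antisymm hq₀p hpq
    -- every prime in the support containing `t` lies in `V(p)`; a longest chain gives a contradiction
    have hne : Module.supportDim A M ≠ ⊥ := (Module.supportDim_ne_bot_iff_nontrivial A M).mpr inferInstance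
    have hfin : Module.supportDim A M < ⊤ := lt_of_le_of_lt (Module.supportDim_le_ringKrullDim A M)
      (lt_of_le_of_ne le_top ringKrullDim_ne_top)
    have : Nonempty (Module.support A M) := (Module.nonempty_support_of_nontrivial (R := A) (M := M)).to_subtype
    have : FiniteDimensionalOrder (Module.support A M) :=
      Order.finiteDimensionalOrder_iff_krullDim_ne_bot_and_top.mpr ⟨hne, hfin.ne⟩
    let c := LTSeries.longestOf (Module.support A M)
    have hc : Module.supportDim A M = (c.length : WithBot ℕ∞) := Order.krullDim_eq_length_of_finiteDimensionalOrder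
    -- the chain starts at a minimal prime, and lives over it
    have hlast : (c.last : PrimeSpectrum A).asIdeal = IsLocalRing.maximalIdeal A := by
      by_contra hne'
      have hlt : (c.last : PrimeSpectrum A) < ⟨IsLocalRing.maximalIdeal A, inferInstance⟩ :=
        PrimeSpectrum.asIdeal_lt_asIdeal _ _ |>.mp
          (lt_of_le_of_ne (IsLocalRing.le_maximalIdeal c.last.1.2.ne_top) hne')
      have hmem : (⟨IsLocalRing.maximalIdeal A, inferInstance⟩ : PrimeSpectrum A) ∈ Module.support A M :=
        Module.mem_support_mono hlt.le c.last.2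
      have h' : (((c.snoc ⟨_, hmem⟩ hlt).length : ℕ) : WithBot ℕ∞) ≤ (c.length : WithBot ℕ∞) :=
        hc ▸ Order.LTSeries.length_le_krullDim (c.snoc ⟨_, hmem⟩ hlt)
      have h'' : (c.snoc ⟨_, hmem⟩ hlt).length ≤ c.length := by exact_mod_cast h'
      rw [RelSeries.snoc_length] at h''
      omega
    have hM1 : ∀ r ∈ Module.support A M, t ∈ r.asIdeal → r ∈ Module.support A M1 := by
      intro r hr htr
      rw [Module.support_quotient]
      refine ⟨hr, ?_⟩
      rw [PrimeSpectrum.mem_zeroLocus, SetLike.coe_subset_coe, Ideal.span_singleton_le_iff_mem]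
      exact htr
    have hd1 : ∀ e : LTSeries (PrimeSpectrum A), (∀ i, e i ∈ Module.support A M) → t ∈ (e 0).asIdeal →
        e.length < c.length := by
      intro e he hte
      let e' : LTSeries (Module.support A M1) :=
        { length := e.length
          toFun := fun i => ⟨e i, hM1 _ (he i) (e.monotone (Fin.zero_le i) hte)⟩
          step := fun i => e.step i }
      have h' : ((e'.length + 1 : ℕ) : WithBot ℕ∞) ≤ (c.length : WithBot ℕ∞) := by
        push_cast
        rw [← hc, ← hdim]
        exact add_le_add (Order.LTSeries.length_le_krullDim e') le_rfl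
      exact_mod_cast h'
    let c' : LTSeries (PrimeSpectrum A) := c.map Subtype.val fun _ _ h => h
    obtain ⟨d, hd1x, hdlen, hd0, hdl⟩ := PrimeSpectrum.exist_ltSeries_mem_one_of_mem_last c'
      (x := t) (show t ∈ (c.last : PrimeSpectrum A).asIdeal from hlast ▸ ht)
    have hmemd : ∀ i, d i ∈ Module.support A M := fun i =>
      Module.mem_support_mono (d.monotone (Fin.zero_le i))
        (by rw [show d 0 = c'.head from hd0.symm]; exact c.head.2)
    have hlen' : c.length = d.length := hdlen
    by_cases htd : t ∈ (d 0).asIdeal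
    · exact absurd (hd1 d hmemd htd) (by omega)
    have hpos : d.length ≠ 0 := fun h0 => by
      have h10 : (1 : Fin (d.length + 1)) = 0 := by
        rw [Fin.ext_iff]; have := (1 : Fin (d.length + 1)).isLt; simp; omega
      exact htd (h10 ▸ hd1x)
    have hone : (1 : Fin (d.length + 1)).val = 1 := by
      rw [Fin.val_one', Nat.mod_eq_of_lt (by omega)]
    have hp1 : p ≤ (d 1).asIdeal := hsub _ (hmemd 1) hd1x
    rcases hp1.eq_or_lt with heq | hlt
    · have h01 : d 0 < d 1 := d.strictMono (by
        rw [Fin.lt_def, hone]; simp)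
      refine (PrimeSpectrum.asIdeal_lt_asIdeal _ _).mpr h01 |>.not_ge ?_
      rw [← heq]
      rw [← hqe]
      exact hq₀.2 ⟨(d 0).2, Module.mem_support_iff_of_finite.mp (hmemd 0)⟩
        (hqe ▸ heq ▸ ((PrimeSpectrum.asIdeal_lt_asIdeal _ _).mpr h01).le)
    · let pp : PrimeSpectrum A := ⟨p, hpp⟩
      let e : LTSeries (PrimeSpectrum A) :=
        { length := d.length
          toFun := Fin.cons pp (fun i => d i.succ)
          step := fun i => by
            obtain ⟨i, hi⟩ := i
            rcases i with - | i
            · change Fin.cons (α := fun _ => PrimeSpectrum A) pp (fun i => d i.succ) 0 <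
                Fin.cons (α := fun _ => PrimeSpectrum A) pp (fun i => d i.succ) (Fin.succ ⟨0, hi⟩)
              rw [Fin.cons_zero, Fin.cons_succ]
              have : (Fin.succ ⟨0, hi⟩ : Fin (d.length + 1)) = 1 := Fin.ext (hone.symm ▸ rfl)
              rw [this]
              exact (PrimeSpectrum.asIdeal_lt_asIdeal _ _).mp hlt
            · change Fin.cons (α := fun _ => PrimeSpectrum A) pp (fun i => d i.succ)
                  (Fin.succ ⟨i, by omega⟩) <
                Fin.cons (α := fun _ => PrimeSpectrum A) pp (fun i => d i.succ) (Fin.succ ⟨i + 1, hi⟩)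
              rw [Fin.cons_succ, Fin.cons_succ]
              exact d.strictMono (by simp) }
      refine absurd (hd1 e (fun i => ?_) (by simp [e, pp, htp'])) (by simp [e]; omega)
      refine Module.mem_support_mono (e.monotone (Fin.zero_le i)) ?_
      simp only [e, Fin.cons_zero]
      exact Module.mem_support_iff_of_finite.mpr hann
  obtain ⟨hnz, v, q, hq, hqp, hgen, hker⟩ := AssAlg.cyclic_atPrime t p htp' (h₂ ⟨p, hp⟩) hmin
  have hreg : IsSMulRegular M t := isSMulRegular_of_reduced M t (fun r hr => by
    rw [hP, Set.mem_singleton_iff] at hr; exact hr ▸ hmin) (hlen := h₂)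
  -- the localisation map at `p` is injective
  have hinj : ∀ x : M, ∀ s ∉ p, s • x = 0 → x = 0 := by
    let N : Submodule A M := LinearMap.ker (LocalizedModule.mkLinearMap p.primeCompl M)
    have hmem : ∀ x, x ∈ N ↔ ∃ s ∉ p, s • x = 0 := fun x => AssAlg.mk_eq_zero_iff p.primeCompl x
    have hN : N ≤ Ideal.span {t} • N := by
      intro x hx
      obtain ⟨s, hs, hsx⟩ := (hmem x).mp hx
      obtain ⟨y, rfl⟩ := (AssAlg.mem_span_smul_top t x).mp ((Submodule.Quotient.mk_eq_zero _).mp
        (AssAlg.eq_zero_of_forall_ass (A := A) (Submodule.Quotient.mk x : M1) fun r hr => by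
          rw [hP, Set.mem_singleton_iff] at hr
          subst hr
          exact ⟨s, hs, by rw [← Submodule.Quotient.mk_smul, hsx, Submodule.Quotient.mk_zero]⟩))
      refine Submodule.smul_mem_smul (Ideal.mem_span_singleton_self t) ((hmem y).mpr ⟨s, hs, ?_⟩)
      rw [smul_comm] at hsx
      exact hreg.right_eq_zero_of_smul hsx
    have hbot : N = ⊥ := Submodule.eq_bot_of_le_smul_of_le_jacobson_bot _ N (IsNoetherian.noetherian N) hN
      (by rw [IsLocalRing.jacobson_eq_maximalIdeal ⊥ bot_ne_top, Ideal.span_singleton_le_iff_mem]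
          exact ht)
    intro x s hs hsx
    exact (Submodule.mem_bot A).mp (hbot ▸ (hmem x).mpr ⟨s, hs, hsx⟩)
  have hav : ∀ a : A, a • v = 0 ↔ a ∈ q := fun a => by
    rw [hker]
    exact ⟨fun h => ⟨1, fun h1 => hpp.ne_top ((Ideal.eq_top_iff_one p).mpr h1), by rw [h, smul_zero]⟩,
      fun ⟨s, hs, h⟩ => hinj _ s hs h⟩
  have hass : associatedPrimes A M = {q} := by
    refine Set.eq_singleton_iff_unique_mem.mpr ⟨?_, fun r hr => ?_⟩
    · exact isAssociatedPrime_iff.mpr ⟨hq, v, by
        ext a; rw [Submodule.mem_colon_singleton, Submodule.mem_bot, hav]⟩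
    · obtain ⟨hrp, x, hx⟩ := isAssociatedPrime_iff.mp hr
      obtain ⟨s, hs, a, hsa⟩ := hgen x
      have haq : a ∉ q := fun haq => by
        rw [(hav a).mpr haq] at hsa
        exact hrp.ne_top (by rw [hx, hinj x s hs hsa]; simp)
      ext b
      rw [hx, Submodule.mem_colon_singleton, Submodule.mem_bot]
      constructor
      · intro hb
        have : (b * a) • v = 0 := by rw [mul_smul, ← hsa, smul_comm, hb, smul_zero]
        exact (hq.mem_or_mem ((hav _).mp this)).resolve_right haq
      · intro hb
        refine hinj _ s hs ?_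
        rw [smul_comm, hsa, ← mul_smul]
        exact (hav _).mpr (q.mul_mem_right a hb)
  refine ⟨⟨q, hass⟩, fun r => ?_, hreg⟩
  obtain ⟨r, hr⟩ := r
  obtain rfl : r = q := by rw [hass, Set.mem_singleton_iff] at hr; exact hr
  change Len90.locLen r M = 1
  let j : (A ⧸ r) →ₗ[A] M := Submodule.liftQ r (LinearMap.toSpanSingleton A M v) fun a ha =>
    (hav a).mpr ha
  have hj : Function.Injective j := by
    rw [← LinearMap.ker_eq_bot]
    exact Submodule.ker_liftQ_eq_bot _ _ _ fun a ha => (hav a).mp ha
  rw [Len90.locLen_exact r j (LinearMap.range j).mkQ hj (Submodule.mkQ_surjective _)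
    (LinearMap.exact_iff.mpr (Submodule.ker_mkQ _)), Len90.locLen_quot_self]
  have hsub0 : Subsingleton (LocalizedModule r.primeCompl (M ⧸ LinearMap.range j)) := by
    refine subsingleton_of_forall_eq 0 fun z => ?_
    induction z using LocalizedModule.induction_on with
    | h m s =>
      obtain ⟨x, rfl⟩ := Submodule.Quotient.mk_surjective _ m
      obtain ⟨u, hu, a, hua⟩ := hgen x
      rw [← LocalizedModule.zero_mk s, LocalizedModule.mk_eq]
      refine ⟨⟨u, fun h => hu (hqp h)⟩, ?_⟩
      simp only [smul_zero, Submonoid.smul_def]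
      rw [smul_comm, ← Submodule.Quotient.mk_smul _ u, hua]
      rw [show (Submodule.Quotient.mk (a • v) : M ⧸ LinearMap.range j) = 0 from
        (Submodule.Quotient.mk_eq_zero _).mpr ⟨Submodule.Quotient.mk a, rfl⟩, smul_zero]
  rw [Len90.locLen, Module.length_eq_zero, add_zero]

end Groth.Agent.FBase64.AssReduced
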