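import Groth.Agent.Div89.WeakAss
import Groth.Agent.QCqs72.Basic
import Groth.Agent.FDesc60.QF
import Groth.Agent.S2507
import Groth.Prelude.Def_FDesc

/-! Associated points of quasi-coherent modules in affine charts. -/

set_option autoImplicit false
set_option linter.style.haveILetI false
set_option backward.isDefEq.respectTransparency.types false

noncomputable section

universe u

open CategoryTheory AlgebraicGeometry Opposite TopologicalSpace

namespace Groth.Agent.FBase64.AssSheaf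

open Div89

variable {X : Scheme.{u}}

lemma mem_ass_iff (F : X.Modules) (x : X) :
    x ∈ AssSch.Ass F ↔ Curv2.IsWeakAssPoint F x := isAssPoint_iff_isWeakAssPoint F x

lemma mem_ass_iff_weakAss (F : X.Modules) (hF : Coh.IsQCoh F) (U : X.affineOpens) (x : X) (hx : x ∈ U.1) :
    x ∈ AssSch.Ass F ↔ primeAt U x hx ∈ FlatCA.weakAss Γ(X, U.1) Γ(F, U.1) :=
  (mem_ass_iff F x).trans (isWeakAssPoint_iff F hF U x hx)

lemma weakAss_eq_associatedPrimes (R : Type u) [CommRing R] [IsNoetherianRing R] (M : Type u)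
    [AddCommGroup M] [Module R M] : FlatCA.weakAss R M = associatedPrimes R M := by
  have hcolon : ∀ m : M, (⊥ : Submodule R M).colon {m} = (Submodule.span R {m}).annihilator := by
    intro m
    ext r
    rw [Submodule.mem_colon_singleton, Submodule.mem_bot, CAlg5.mem_ann]
  ext p
  constructor
  · rintro ⟨m, hm⟩
    rw [← hcolon] at hm
    obtain ⟨y, hy⟩ := Submodule.exists_eq_colon_of_mem_minimalPrimes (N := (⊥ : Submodule R M)) (x := m) hm
    exact isAssociatedPrime_iff.mpr ⟨hm.1.1, y, hy⟩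
  · intro hp
    obtain ⟨hpp, y, hy⟩ := isAssociatedPrime_iff.mp hp
    refine ⟨y, ⟨hpp, ?_⟩, fun q hq _ => ?_⟩
    · rw [← hcolon, ← hy]
    · rw [hy, hcolon]
      exact hq.2

lemma mem_ass_iff_associated [IsLocallyNoetherian X] (F : X.Modules) (hF : Coh.IsQCoh F)
    (U : X.affineOpens) (x : X) (hx : x ∈ U.1) :
    x ∈ AssSch.Ass F ↔ primeAt U x hx ∈ associatedPrimes Γ(X, U.1) Γ(F, U.1) := by
  have : IsNoetherianRing Γ(X, U.1) := IsLocallyNoetherian.component_noetherian U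
  rw [mem_ass_iff_weakAss F hF U x hx, weakAss_eq_associatedPrimes]

/-- Every point of the support has an associated generisation. -/
lemma exists_ass_specializes (F : X.Modules) (hF : Coh.IsQCoh F) (x : X)
    (hx : Nontrivial (F.presheaf.stalk x)) : ∃ y ∈ AssSch.Ass F, y ⤳ x := by
  obtain ⟨U, hxU⟩ := exists_affine_mem x
  obtain ⟨m, hm⟩ := (mem_support_iff_exists F hF U x hxU).1 (not_subsingleton_iff_nontrivial.mpr hx)
  obtain ⟨q, hq, hqle⟩ := Ideal.exists_minimalPrimes_le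
    (show (Submodule.span Γ(X, U.1) {m}).annihilator ≤ primeAt U x hxU from
      fun r hr => hm r (CAlg5.mem_ann.1 hr))
  haveI : q.IsPrime := hq.1.1
  obtain ⟨y, hy, rfl⟩ := exists_point U q
  exact ⟨y, (mem_ass_iff_weakAss F hF U y hy).2 ⟨m, hq⟩, (specializes_iff_primeAt_le U hxU hy).2 hqle⟩

lemma nontrivial_stalk_of_mem_ass (F : X.Modules) (x : X) (hx : x ∈ AssSch.Ass F) :
    Nontrivial (F.presheaf.stalk x) := by
  rw [← not_subsingleton_iff_nontrivial]
  intro h
  exact not_isAssociatedPrime_of_subsingleton hx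

/-- A section vanishes if its germs at the associated points vanish. -/
lemma section_eq_zero (F : X.Modules) (hF : Coh.IsQCoh F) {V : X.Opens} (m : Γ(F, V))
    (h : ∀ (x : X) (hx : x ∈ V), x ∈ AssSch.Ass F → F.presheaf.germ V x hx m = 0) : m = 0 :=
  section_eq_zero_of_germ_weakAss F hF m fun x hx hw => h x hx ((mem_ass_iff F x).2 hw)

/-- Primes at points and maps on sections. -/
lemma comap_primeAt {Y : Scheme.{u}} (f : X ⟶ Y) (U : Y.affineOpens) (V : X.affineOpens)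
    (e : V.1 ≤ f ⁻¹ᵁ U.1) (x : X) (hx : x ∈ V.1) :
    (primeAt V x hx).comap (f.appLE U.1 V.1 e).hom = primeAt U (f x) (e hx) := by
  ext r
  rw [Ideal.mem_comap, mem_primeAt_iff, mem_primeAt_iff]
  simp only [Scheme.Hom.appLE, CommRingCat.hom_comp, RingHom.comp_apply,
    Scheme.basicOpen_res, ← Scheme.preimage_basicOpen]
  exact ⟨fun h h' => h ⟨hx, h'⟩, fun h h' => h h'.2⟩

/-- An affine open inside the preimage of an affine open: associated primes push forward. -/
lemma ass_sections_comap {Y : Scheme.{u}} [IsLocallyNoetherian X] (f : X ⟶ Y) (M : X.Modules)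
    (U : Y.affineOpens) (V : X.affineOpens) (e : V.1 ≤ f ⁻¹ᵁ U.1) :
    letI : Algebra Γ(Y, U.1) Γ(X, V.1) := (f.appLE U.1 V.1 e).hom.toAlgebra
    letI : Module Γ(Y, U.1) Γ(M, V.1) := Module.compHom _ (f.appLE U.1 V.1 e).hom
    associatedPrimes Γ(Y, U.1) Γ(M, V.1) =
      Ideal.comap (f.appLE U.1 V.1 e).hom '' associatedPrimes Γ(X, V.1) Γ(M, V.1) := by
  letI : Algebra Γ(Y, U.1) Γ(X, V.1) := (f.appLE U.1 V.1 e).hom.toAlgebra
  letI : Module Γ(Y, U.1) Γ(M, V.1) := Module.compHom _ (f.appLE U.1 V.1 e).hom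
  haveI : IsScalarTower Γ(Y, U.1) Γ(X, V.1) Γ(M, V.1) := IsScalarTower.of_algebraMap_smul fun r s => rfl
  haveI : IsNoetherianRing Γ(X, V.1) := IsLocallyNoetherian.component_noetherian V
  exact Groth.Agent.S2507.result (A := Γ(Y, U.1)) (B := Γ(X, V.1)) Γ(M, V.1)

/-- The restriction from a direct image to an affine piece. -/
def resPush {Y : Scheme.{u}} (f : X ⟶ Y) (M : X.Modules)
    (U : Y.Opens) (V : X.Opens) (e : V ≤ f ⁻¹ᵁ U) :
    letI : Module Γ(Y, U) Γ(M, V) := Module.compHom _ (f.appLE U V e).hom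
    Γ((Coh.push f).obj M, U) →ₗ[Γ(Y, U)] Γ(M, V) :=
  letI : Module Γ(Y, U) Γ(M, V) := Module.compHom _ (f.appLE U V e).hom
  { toFun := fun m => QC70.res M e (show Γ(M, f ⁻¹ᵁ U) from m)
    map_add' := fun a b => map_add (M.presheaf.map (homOfLE e).op).hom _ _
    map_smul' := fun r m => QC70.res_smul (M := M) e (f.app U r) (show Γ(M, f ⁻¹ᵁ U) from m) }

/-- Associated points of a direct image come from associated points. -/
lemma exists_of_mem_ass_push {Y : Scheme.{u}} [IsLocallyNoetherian X] [IsLocallyNoetherian Y]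
    (f : X ⟶ Y) [QuasiCompact f] [QuasiSeparated f] (M : X.Modules) (hM : Coh.IsQCoh M)
    {y : Y} (hy : y ∈ AssSch.Ass ((Coh.push f).obj M)) : ∃ x ∈ AssSch.Ass M, f x = y := by
  classical
  haveI : M.IsQuasicoherent := hM
  have hP : Coh.IsQCoh ((Coh.push f).obj M) := QCqs72.isQuasicoherent_pushforward M f
  obtain ⟨U, hyU⟩ := exists_affine_mem y
  have : IsNoetherianRing Γ(Y, U.1) := IsLocallyNoetherian.component_noetherian U
  obtain ⟨hp, m, hm⟩ := isAssociatedPrime_iff.mp ((mem_ass_iff_associated _ hP U y hyU).1 hy)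
  have hW : IsCompact ((f ⁻¹ᵁ U.1 : X.Opens) : Set X) := f.isCompact_preimage U.2.isCompact
  let ι := {V : X.affineOpens // V.1 ≤ f ⁻¹ᵁ U.1}
  obtain ⟨T, hT⟩ := hW.elim_finite_subcover (fun V : ι => ((V.1.1 : X.Opens) : Set X))
    (fun V => V.1.1.isOpen) (fun x hx => by
      obtain ⟨V, hV, hxV, hVW⟩ := exists_isAffineOpen_mem_and_subset (X := X) (x := x) (U := f ⁻¹ᵁ U.1) hx
      exact Set.mem_iUnion.mpr ⟨⟨⟨V, hV⟩, hVW⟩, hxV⟩)
  let J : ι → Ideal Γ(Y, U.1) := fun V =>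
    letI : Module Γ(Y, U.1) Γ(M, V.1.1) := Module.compHom _ (f.appLE U.1 V.1.1 V.2).hom
    (⊥ : Submodule Γ(Y, U.1) Γ(M, V.1.1)).colon {resPush f M U.1 V.1.1 V.2 m}
  have hle : T.inf J ≤ primeAt U y hyU := by
    intro r hr
    rw [hm, Submodule.mem_colon_singleton, Submodule.mem_bot]
    refine QC70.section_ext M (U := f ⁻¹ᵁ U.1) (show Γ(M, f ⁻¹ᵁ U.1) from r • m) 0 fun x hx => ?_
    obtain ⟨V, hVT, hxV⟩ := Set.mem_iUnion₂.mp (hT hx)
    refine ⟨V.1.1, V.2, hxV, ?_⟩
    rw [QC70.res_zero]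
    letI : Module Γ(Y, U.1) Γ(M, V.1.1) := Module.compHom _ (f.appLE U.1 V.1.1 V.2).hom
    have h0 : r • resPush f M U.1 V.1.1 V.2 m = 0 := by
      simpa [J, Submodule.mem_colon_singleton] using Submodule.mem_finsetInf.mp hr V hVT
    exact (show QC70.res M V.2 (show Γ(M, f ⁻¹ᵁ U.1) from r • m) = r • resPush f M U.1 V.1.1 V.2 m from
      (resPush f M U.1 V.1.1 V.2).map_smul r m).trans h0
  obtain ⟨V, -, hVle⟩ := (Ideal.IsPrime.inf_le' inferInstance).mp hle
  letI : Module Γ(Y, U.1) Γ(M, V.1.1) := Module.compHom _ (f.appLE U.1 V.1.1 V.2).hom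
  have hge : primeAt U y hyU ≤ J V := by
    intro r hr
    rw [hm, Submodule.mem_colon_singleton, Submodule.mem_bot] at hr
    simp only [J, Submodule.mem_colon_singleton, Submodule.mem_bot]
    exact ((resPush f M U.1 V.1.1 V.2).map_smul r m).symm.trans (by rw [hr, map_zero])
  have hass : primeAt U y hyU ∈ associatedPrimes Γ(Y, U.1) Γ(M, V.1.1) :=
    isAssociatedPrime_iff.mpr ⟨inferInstance, _, le_antisymm hge hVle⟩
  rw [ass_sections_comap f M U V.1 V.2] at hass
  obtain ⟨Q, hQ, hQy⟩ := hass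
  haveI : Q.IsPrime := IsAssociatedPrime.isPrime hQ
  obtain ⟨x, hx, rfl⟩ := exists_point V.1 Q
  refine ⟨x, (mem_ass_iff_associated M hM V.1 x hx).2 hQ, primeAt_inj U (V.2 hx) hyU ?_⟩
  rw [← comap_primeAt f U V.1 V.2 x hx, hQy]

/-- Associated points push forward along affine morphisms. -/
lemma mem_ass_push_of_isAffineHom {Y : Scheme.{u}} [IsLocallyNoetherian X] [IsLocallyNoetherian Y]
    (f : X ⟶ Y) [QuasiCompact f] [QuasiSeparated f] (M : X.Modules) (hM : Coh.IsQCoh M)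
    {x : X} (hx : x ∈ AssSch.Ass M) (U : Y.affineOpens) (hxU : f x ∈ U.1)
    (hV : IsAffineOpen (f ⁻¹ᵁ U.1)) : f x ∈ AssSch.Ass ((Coh.push f).obj M) := by
  haveI : M.IsQuasicoherent := hM
  have hP : Coh.IsQCoh ((Coh.push f).obj M) := QCqs72.isQuasicoherent_pushforward M f
  rw [mem_ass_iff_associated _ hP U (f x) hxU]
  letI : Module Γ(Y, U.1) Γ(M, f ⁻¹ᵁ U.1) := Module.compHom _ (f.appLE U.1 _ le_rfl).hom
  have hA : primeAt U (f x) hxU ∈ associatedPrimes Γ(Y, U.1) Γ(M, f ⁻¹ᵁ U.1) := by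
    rw [ass_sections_comap f M U ⟨_, hV⟩ le_rfl]
    exact ⟨_, (mem_ass_iff_associated M hM ⟨_, hV⟩ x hxU).1 hx, comap_primeAt f U ⟨_, hV⟩ le_rfl x hxU⟩
  let g : Γ(M, f ⁻¹ᵁ U.1) →ₗ[Γ(Y, U.1)] Γ((Coh.push f).obj M, U.1) :=
    { toFun := fun m => m
      map_add' := fun _ _ => rfl
      map_smul' := fun r m => by
        change (f.appLE U.1 (f ⁻¹ᵁ U.1) le_rfl r) • m = f.app U.1 r • m
        rw [Scheme.Hom.appLE_eq_app] }
  exact associatedPrimes.subset_of_injective (f := g) (fun a b h => h) hA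

end Groth.Agent.FBase64.AssSheaf
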