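import Groth.Agent.FBase64.ProductDim

/-!
Nowhere dense subsets of equidimensional schemes.
-/

universe u

namespace Groth.Agent.FBase64

open CategoryTheory AlgebraicGeometry TopologicalSpace

variable {k : Type u} [Field k] {X : Scheme.{u}} (f : X ⟶ Spec (CommRingCat.of k))

theorem tdegN_lt [LocallyOfFiniteType f] {x y : X} (h : x ⤳ y) (hne : x ≠ y) :
    WC97.tdegN f y < WC97.tdegN f x := by
  have : IrreducibleSpace (closure ({x} : Set X)) :=
    Subtype.irreducibleSpace isIrreducible_singleton.closure
  have hdim : topologicalKrullDim ↥(closure ({x} : Set X)) = (WC97.tdegN f x : ℕ) :=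
    WC97.topologicalKrullDim_closure f x
  have hlt := TopDim50.dim_lt_of_ssubset (X := ↥(closure ({x} : Set X))) (by rw [hdim]; exact fun h => ENat.coe_ne_top _ (WithBot.coe_inj.mp h))
    (Y := Subtype.val ⁻¹' closure ({y} : Set X)) (isClosed_closure.preimage continuous_subtype_val)
    (by
      intro h'
      refine hne (((specializes_iff_mem_closure.mpr ?_).antisymm h).eq).symm
      exact (Set.eq_univ_iff_forall.mp h' ⟨x, subset_closure rfl⟩ : _))
  rw [hdim] at hlt
  have hh : topologicalKrullDim ↥((Subtype.val : closure ({x} : Set X) → X) ⁻¹' closure {y}) =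
      topologicalKrullDim ↥(closure ({y} : Set X)) := by
    rw [(Topology.IsEmbedding.subtypeVal.homeomorphImage
      ((Subtype.val : closure ({x} : Set X) → X) ⁻¹' closure {y})).isHomeomorph.topologicalKrullDim_eq _,
      Subtype.image_preimage_coe,
      Set.inter_eq_right.mpr (specializes_iff_closure_subset.mp h)]
  rw [hh, WC97.topologicalKrullDim_closure f] at hlt
  exact_mod_cast hlt

theorem exists_maximal_mem_open {U : Set X} (hU : IsOpen U) (hne : U.Nonempty) :
    ∃ c ∈ U, ∀ a, a ⤳ c → a = c := by
  obtain ⟨u, hu⟩ := hne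
  obtain ⟨c, hc, hcu⟩ := exists_maximal_specializes u
  exact ⟨c, hcu.mem_open hU hu, hc⟩

/-- Near a maximal point only its component is visible. -/
theorem exists_open_subset_closure [LocallyOfFiniteType f] {c : X} (hc : ∀ a, a ⤳ c → a = c) :
    ∃ V : Set X, IsOpen V ∧ V.Nonempty ∧ V ⊆ closure {c} := by
  obtain ⟨A, _, _, _, j, _, hx, -⟩ := exists_chart_finiteType f c
  have : IsNoetherianRing A := Algebra.FiniteType.isNoetherianRing k A
  obtain ⟨P, rfl⟩ := hx
  have hP : ∀ a, a ⤳ P → a = P := fun a ha =>
    j.isOpenEmbedding.injective (hc _ (ha.map j.continuous))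
  have : NoetherianSpace ↥(Spec (CommRingCat.of A)) :=
    inferInstanceAs (NoetherianSpace (PrimeSpectrum A))
  obtain ⟨o, ho, hne, hoc⟩ := NoetherianSpace.exists_isOpen_nonempty_subset_irreducibleComponent
    (closure {P}) (mem_irreducibleComponents_iff_exists_maximal.mpr ⟨P, hP, rfl⟩)
  refine ⟨j '' o, j.isOpenEmbedding.isOpenMap o ho, hne.image _, ?_⟩
  exact (Set.image_mono hoc).trans ((image_closure_subset_closure_image j.continuous).trans
    (by rw [Set.image_singleton]))

theorem isNowhereDense_iff_dim_lt [LocallyOfFiniteType f] [Nonempty X]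
    (heq : ∀ T ∈ irreducibleComponents X, topologicalKrullDim T = topologicalKrullDim X)
    (Z : Set X) (hZ : IsLocallyClosed Z) :
    IsNowhereDense Z ↔ topologicalKrullDim Z < topologicalKrullDim X := by
  obtain ⟨c0, hc0, -⟩ := exists_maximal_specializes (Classical.arbitrary X)
  set n := WC97.tdegN f c0
  have hmax : ∀ c : X, (∀ a, a ⤳ c → a = c) → topologicalKrullDim X = (WC97.tdegN f c : ℕ) := by
    intro c hc
    rw [← heq _ (mem_irreducibleComponents_iff_exists_maximal.mpr ⟨c, hc, rfl⟩),
      WC97.topologicalKrullDim_closure f]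
  have hn : topologicalKrullDim X = (n : ℕ) := hmax c0 hc0
  constructor
  · intro h
    have hlt : ∀ z ∈ closure Z, WC97.tdegN f z < n := by
      intro z hz
      obtain ⟨c, hc, hcz⟩ := exists_maximal_specializes z
      have e : WC97.tdegN f c = n := by exact_mod_cast (hmax c hc).symm.trans hn
      rw [← e]
      refine tdegN_lt f hcz fun hcz' => ?_
      subst hcz'
      obtain ⟨V, hV, hne, hVc⟩ := exists_open_subset_closure f hc
      refine hne.ne_empty (Set.eq_empty_of_subset_empty ?_)
      rw [← h]
      exact interior_maximal (hVc.trans (closure_minimal (Set.singleton_subset_iff.mpr hz) isClosed_closure)) hV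
    rw [hn]
    refine lt_of_le_of_lt (TopDim50.dim_mono subset_closure) ?_
    rw [TopDim50.dim_eq_iSup_irreducibleComponents]
    rcases Nat.eq_zero_or_pos n with h0 | h0
    · have he : closure Z = ∅ :=
        Set.eq_empty_of_forall_notMem fun z hz => absurd (hlt z hz) (by omega)
      have : IsEmpty ↥(closure Z) := Set.isEmpty_coe_sort.mpr he
      refine lt_of_le_of_lt (iSup₂_le fun C hC => ?_) (WithBot.bot_lt_coe _)
      exact absurd hC.1.nonempty (by rw [Set.not_nonempty_iff_eq_empty]; exact Set.eq_empty_of_isEmpty C)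
    · refine lt_of_le_of_lt (b := ((n - 1 : ℕ) : WithBot ℕ∞)) (iSup₂_le fun C hC => ?_)
        (by exact_mod_cast Nat.sub_lt h0 Nat.one_pos)
      obtain ⟨η, hη, -, hd, -⟩ := VarGal.exists_maximal_of_component isClosed_closure C hC
      rw [hd, WC97.topologicalKrullDim_closure f]
      exact_mod_cast Nat.le_sub_one_of_lt (hlt η hη)
  · intro h
    rw [IsNowhereDense, ← Set.not_nonempty_iff_eq_empty]
    intro hne
    obtain ⟨O, hO, hZO⟩ := isLocallyClosed_iff_isOpen_coborder.mp hZ |> fun hc =>
      (⟨coborder Z, hc, coborder_inter_closure.symm⟩ : ∃ O, IsOpen O ∧ Z = O ∩ closure Z)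
    have hV : (interior (closure Z) ∩ O).Nonempty := by
      obtain ⟨v, hv⟩ := hne
      obtain ⟨z, hz1, hz2⟩ := mem_closure_iff.mp (interior_subset hv) _ isOpen_interior hv
      exact ⟨z, hz1, (hZO ▸ hz2 : z ∈ O ∩ closure Z).1⟩
    obtain ⟨c, hc, hcmax⟩ := exists_maximal_mem_open (isOpen_interior.inter hO) hV
    have hsub : interior (closure Z) ∩ O ⊆ Z := fun z hz => by
      rw [hZO]; exact ⟨hz.2, interior_subset hz.1⟩
    refine h.not_ge (le_trans ?_ ((TopDim50.localDim_le (X := X) ⟨_, isOpen_interior.inter hO⟩ hc).trans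
      (TopDim50.dim_mono hsub)))
    rw [hmax c hcmax, VarGal.localDim_eq_tdegN_add f c]
    exact le_add_of_nonneg_right ringKrullDim_nonneg_of_nontrivial

end Groth.Agent.FBase64
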