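import Groth.Agent.FBase64.Splitting

/-!
Introduction rule for properties of residue fields.
-/

universe u

namespace Groth.Agent.FBase64

open CategoryTheory AlgebraicGeometry

theorem residueFieldProp_intro {k : Type u} [Field k] {X : Scheme.{u}}
    (f : X ⟶ Spec (CommRingCat.of k)) (x : X)
    {P : ∀ (K : Type u) [Field K] [Algebra k K], Prop}
    (h : ∀ (κ : Type u) [Field κ] [Algebra k κ] (j : Spec (CommRingCat.of κ) ⟶ X), Mono j →
      Set.range j = {x} → j ≫ f = Spec.map (CommRingCat.ofHom (algebraMap k κ)) → P κ) :
    FBase.ResidueFieldProp f x P := by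
  refine ⟨(Spec.preimage (X.fromSpecResidueField x ≫ f)).hom, Spec.map_preimage _, ?_⟩
  let := (Spec.preimage (X.fromSpecResidueField x ≫ f)).hom.toAlgebra
  exact h ↥(X.residueField x) (X.fromSpecResidueField x)
    (inferInstance : Mono (X.fromSpecResidueField x)) (Scheme.range_fromSpecResidueField x)
    (Spec.map_preimage _).symm

end Groth.Agent.FBase64
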