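import Groth.Agent.FBase64.AssSheaf3
import Groth.Agent.QC70.Stalk

/-! Stalks of restrictions to open subschemes are semilinearly isomorphic. -/

set_option autoImplicit false
set_option linter.style.haveILetI false
universe u

open CategoryTheory AlgebraicGeometry TopologicalSpace

namespace Groth.Agent.FBase64.AssSheaf

variable {U X : Scheme.{u}} (j : U ⟶ X) [IsOpenImmersion j]

set_option backward.isDefEq.respectTransparency false in
lemma restrictStalk_smul (F : X.Modules) (u : U) (a : X.presheaf.stalk (j u))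
    (m : (F.restrict j).presheaf.stalk u) :
    (Scheme.Modules.restrictStalkNatIso j u).hom.app F (j.stalkMap u a • m) =
      (show F.presheaf.stalk (j u) from a • (show F.presheaf.stalk (j u) from
        (Scheme.Modules.restrictStalkNatIso j u).hom.app F m)) := by
  obtain ⟨W₁, hu₁, m₁, rfl⟩ := TopCat.Presheaf.exists_germ_eq _ m
  obtain ⟨W₂, hu₂, a₂, rfl⟩ := TopCat.Presheaf.exists_germ_eq _ a
  let W : U.Opens := W₁ ⊓ j ⁻¹ᵁ W₂
  have huW : u ∈ W := ⟨hu₁, hu₂⟩
  have hle : j ''ᵁ W ≤ W₂ := by rintro _ ⟨z, hz, rfl⟩; exact hz.2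
  let m' := (F.restrict j).presheaf.map (homOfLE (inf_le_left : W ≤ W₁)).op m₁
  let a' := X.presheaf.map (homOfLE hle).op a₂
  have hju : j u ∈ j ''ᵁ W := ⟨u, huW, rfl⟩
  have hm : (F.restrict j).presheaf.germ W₁ u hu₁ m₁ = (F.restrict j).presheaf.germ W u huW m' :=
    (TopCat.Presheaf.germ_res_apply (F.restrict j).presheaf _ u huW m₁).symm
  have ha : X.presheaf.germ W₂ (j u) hu₂ a₂ = X.presheaf.germ (j ''ᵁ W) (j u) hju a' :=
    (TopCat.Presheaf.germ_res_apply X.presheaf _ (j u) hju a₂).symm
  have hsm : j.stalkMap u (X.presheaf.germ (j ''ᵁ W) (j u) hju a') =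
      U.presheaf.germ W u huW ((j.appIso W).hom a') := by
    rw [Scheme.Hom.germ_stalkMap_apply, Scheme.Hom.appIso_hom', Scheme.Hom.appLE]
    exact (TopCat.Presheaf.germ_res_apply U.presheaf _ u huW _).symm
  have hh : ∀ z, (Scheme.Modules.restrictStalkNatIso j u).hom.app F ((F.restrict j).presheaf.germ W u huW z) =
      F.presheaf.germ (j ''ᵁ W) (j u) hju z :=
    fun z => congr($(Scheme.Modules.germ_restrictStalkNatIso_hom_app j (U := W) u F huW) z)
  have hsmul : ((j.appIso W).hom a' • m' : Γ(F.restrict j, W)) = (a' • (show Γ(F, j ''ᵁ W) from m')) := by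
    change ((j.appIso W).inv ((j.appIso W).hom a')) • (show Γ(F, j ''ᵁ W) from m') = _
    rw [← CommRingCat.comp_apply, Iso.hom_inv_id]
    rfl
  rw [hm, ha, hsm, ← Div89.germ_smul, hh, hh, hsmul]
  exact Div89.germ_smul F (j u) hju a' _

/-- The stalk of a restriction. -/
noncomputable def restrictStalkEquiv (F : X.Modules) (u : U) :
    F.presheaf.stalk (j u) ≃+ (F.restrict j).presheaf.stalk u :=
  (asIso ((Scheme.Modules.restrictStalkNatIso j u).hom.app F)).addCommGroupIsoToAddEquiv.symm

lemma restrictStalkEquiv_smul (F : X.Modules) (u : U) (a : X.presheaf.stalk (j u)) (m : F.presheaf.stalk (j u)) :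
    restrictStalkEquiv j F u (a • m) = j.stalkMap u a • restrictStalkEquiv j F u m := by
  let e := (asIso ((Scheme.Modules.restrictStalkNatIso j u).hom.app F)).addCommGroupIsoToAddEquiv
  show e.symm (a • m) = (show (F.restrict j).presheaf.stalk u from j.stalkMap u a • (show (F.restrict j).presheaf.stalk u from e.symm m))
  apply e.injective
  refine (e.apply_symm_apply _).trans ?_
  refine Eq.trans ?_ (restrictStalk_smul j F u a (e.symm m)).symm
  exact congrArg (a • ·) (e.apply_symm_apply m).symm

end Groth.Agent.FBase64.AssSheaf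

namespace Groth.Agent.FBase64.AssSheaf

lemma isAssociatedPrime_maximal_of_semilinear {A B : Type u} [CommRing A] [CommRing B] [IsLocalRing A] [IsLocalRing B]
    (σ : A ≃+* B) {M N : Type u} [AddCommGroup M] [Module A M] [AddCommGroup N] [Module B N]
    (e : M ≃+ N) (he : ∀ a m, e (a • m) = σ a • e m) :
    IsAssociatedPrime (IsLocalRing.maximalIdeal A) M ↔ IsAssociatedPrime (IsLocalRing.maximalIdeal B) N := by
  have key : ∀ (a : A) (m : M) (n : ℕ), a ^ n • m = 0 ↔ σ a ^ n • e m = 0 := fun a m n => by
    rw [← map_pow, ← he, AddEquiv.map_eq_zero_iff]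
  have hmax : ∀ a : A, σ a ∈ IsLocalRing.maximalIdeal B ↔ a ∈ IsLocalRing.maximalIdeal A := fun a => by
    rw [IsLocalRing.mem_maximalIdeal, IsLocalRing.mem_maximalIdeal, mem_nonunits_iff, mem_nonunits_iff]
    exact not_congr ⟨fun h => by simpa using h.map σ.symm, fun h => h.map σ⟩
  constructor
  · rintro ⟨-, m, hm⟩
    refine ⟨inferInstance, e m, Ideal.ext fun b => ?_⟩
    obtain ⟨a, rfl⟩ := σ.surjective b
    rw [hmax, hm]
    simp only [Ideal.mem_radical_iff, Submodule.mem_colon_singleton, Submodule.mem_bot, key]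
  · rintro ⟨-, m, hm⟩
    refine ⟨inferInstance, e.symm m, Ideal.ext fun a => ?_⟩
    rw [← hmax, hm]
    simp only [Ideal.mem_radical_iff, Submodule.mem_colon_singleton, Submodule.mem_bot, key, AddEquiv.apply_symm_apply]

lemma length_eq_of_semilinear {A B : Type u} [CommRing A] [CommRing B] (σ : A ≃+* B) {M N : Type u}
    [AddCommGroup M] [Module A M] [AddCommGroup N] [Module B N] (e : M ≃+ N)
    (he : ∀ a m, e (a • m) = σ a • e m) : Module.length A M = Module.length B N := by
  letI : Module A N := Module.compHom N σ.toRingHom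
  letI : Algebra A B := σ.toRingHom.toAlgebra
  haveI : IsScalarTower A B N := IsScalarTower.of_algebraMap_smul fun _ _ => rfl
  let l : M ≃ₗ[A] N := { e with map_smul' := he }
  rw [l.length_eq]
  exact Module.length_eq_of_surjective (M := N) (S := A) (R := B) σ.surjective

variable {U X : Scheme.{u}} (j : U ⟶ X) [IsOpenImmersion j]

/-- Passing from the pullback to the restriction. -/
noncomputable def pullbackStalkEquiv (F : X.Modules) (u : U) :
    ((Scheme.Modules.pullback j).obj F).presheaf.stalk u ≃ₗ[U.presheaf.stalk u] (F.restrict j).presheaf.stalk u :=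
  LinearEquiv.ofBijective (QC70.stalkLinear ((Scheme.Modules.restrictFunctorIsoPullback j).inv.app F) u)
    ⟨QC70.injective_stalkMapM_of_mono _ u, QC70.surjective_stalkMapM_of_epi _ u⟩

theorem mem_ass_pullback_iff (F : X.Modules) (u : U) :
    u ∈ AssSch.Ass ((Scheme.Modules.pullback j).obj F) ↔ j u ∈ AssSch.Ass F := by
  show IsAssociatedPrime _ _ ↔ IsAssociatedPrime _ _
  rw [(pullbackStalkEquiv j F u).isAssociatedPrime_iff]
  exact (isAssociatedPrime_maximal_of_semilinear (asIso (j.stalkMap u)).commRingCatIsoToRingEquiv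
    (restrictStalkEquiv j F u) (restrictStalkEquiv_smul j F u)).symm

theorem length_stalk_pullback (F : X.Modules) (u : U) :
    Module.length (U.presheaf.stalk u) (((Scheme.Modules.pullback j).obj F).presheaf.stalk u) =
      Module.length (X.presheaf.stalk (j u)) (F.presheaf.stalk (j u)) := by
  rw [(pullbackStalkEquiv j F u).length_eq]
  exact (length_eq_of_semilinear (asIso (j.stalkMap u)).commRingCatIsoToRingEquiv
    (restrictStalkEquiv j F u) (restrictStalkEquiv_smul j F u)).symm

end Groth.Agent.FBase64.AssSheaf
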