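import Groth.Prelude.Def_EGA41
import Mathlib.RingTheory.Smooth.Local
import Mathlib.RingTheory.Smooth.Kaehler
import Mathlib.RingTheory.EssentialFiniteness
import Mathlib.RingTheory.Filtration
import Mathlib.RingTheory.Kaehler.Polynomial
import Mathlib.RingTheory.Kaehler.TensorProduct
import Mathlib.RingTheory.Etale.Kaehler
import Mathlib.RingTheory.Localization.Submodule
import Mathlib.RingTheory.Polynomial.Basic
import Mathlib.RingTheory.Localization.AtPrime.Basic

/-! Adic formal smoothness of local algebras essentially of finite type implies formal smoothness. -/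

set_option autoImplicit false
set_option linter.style.haveILetI false
universe u

open TensorProduct IsLocalRing KaehlerDifferential

namespace Groth.Agent.FBase64

variable {A B : Type u} [CommRing A] [CommRing B] [Algebra A B] [IsLocalRing B]

/-- A presentation by a localised polynomial ring. -/
theorem exists_local_presentation [IsNoetherianRing A] [Algebra.EssFiniteType A B] :
    ∃ (P : Type u) (_ : CommRing P) (_ : IsLocalRing P) (_ : Algebra A P) (_ : Algebra P B) (_ : IsScalarTower A P B),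
      IsNoetherianRing P ∧ Algebra.FormallySmooth A P ∧ Module.Free P Ω[P⁄A] ∧ Module.Finite P Ω[P⁄A] ∧
        Function.Surjective (algebraMap P B) := by
  classical
  let σ := Algebra.EssFiniteType.finset A B
  let P₀ := MvPolynomial (↥σ) A
  let φ : P₀ →ₐ[A] B := MvPolynomial.aeval Subtype.val
  let Q : Ideal P₀ := (maximalIdeal B).comap φ.toRingHom
  let ψ : Localization.AtPrime Q →ₐ[A] B := IsLocalization.liftAlgHom (M := Q.primeCompl) (f := φ)
    fun y => by_contra fun h => y.2 ((mem_maximalIdeal _).mpr h)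
  letI : Algebra (Localization.AtPrime Q) B := ψ.toRingHom.toAlgebra
  haveI : IsScalarTower A (Localization.AtPrime Q) B := IsScalarTower.of_algebraMap_eq fun a => (ψ.commutes a).symm
  haveI : IsNoetherianRing (Localization.AtPrime Q) := IsLocalization.isNoetherianRing Q.primeCompl _ inferInstance
  haveI : Algebra.FormallyEtale P₀ (Localization.AtPrime Q) := .of_isLocalization Q.primeCompl
  haveI : Algebra.FormallySmooth A (Localization.AtPrime Q) := .comp _ P₀ _
  let b := (KaehlerDifferential.mvPolynomialBasis A (↥σ)).baseChange (Localization.AtPrime Q)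
  let e := KaehlerDifferential.tensorKaehlerEquivOfFormallyEtale A P₀ (Localization.AtPrime Q)
  haveI : Module.Free (Localization.AtPrime Q) Ω[Localization.AtPrime Q⁄A] :=
    Module.Free.of_equiv e
  haveI : Module.Finite (Localization.AtPrime Q) Ω[Localization.AtPrime Q⁄A] :=
    Module.Finite.of_basis (b.map e)
  refine ⟨Localization.AtPrime Q, inferInstance, inferInstance, inferInstance, inferInstance, inferInstance,
    inferInstance, inferInstance, inferInstance, inferInstance, fun y => ?_⟩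
  obtain ⟨⟨a, s⟩, h⟩ := IsLocalization.surj (Algebra.EssFiniteType.submonoid A B) y
  obtain ⟨a₀, ha₀⟩ : (a : B) ∈ φ.range := by
    rw [show φ.range = Algebra.adjoin A (σ : Set B) by
      rw [← Algebra.adjoin_range_eq_range_aeval, Subtype.range_coe_subtype]; rfl]
    exact a.2
  obtain ⟨s₀, hs₀⟩ : ((s : Algebra.EssFiniteType.subalgebra A B) : B) ∈ φ.range := by
    rw [show φ.range = Algebra.adjoin A (σ : Set B) by
      rw [← Algebra.adjoin_range_eq_range_aeval, Subtype.range_coe_subtype]; rfl]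
    exact s.1.2
  replace ha₀ : φ a₀ = (a : B) := ha₀
  replace hs₀ : φ s₀ = ((s : Algebra.EssFiniteType.subalgebra A B) : B) := hs₀
  have hs : IsUnit ((s : Algebra.EssFiniteType.subalgebra A B) : B) := s.2
  have hsQ : s₀ ∈ Q.primeCompl := fun hmem => by
    have : φ s₀ ∈ maximalIdeal B := hmem
    rw [hs₀] at this
    exact (mem_maximalIdeal _).mp this hs
  refine ⟨IsLocalization.mk' _ a₀ ⟨s₀, hsQ⟩, hs.mul_left_injective ?_⟩
  change ψ (IsLocalization.mk' _ a₀ ⟨s₀, hsQ⟩) * ((s : Algebra.EssFiniteType.subalgebra A B) : B) = y * _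
  refine Eq.trans ?_ (Eq.trans ha₀ h.symm)
  rw [← hs₀, ← show ψ (algebraMap P₀ _ s₀) = φ s₀ from IsLocalization.lift_eq _ s₀, ← map_mul,
    IsLocalization.mk'_spec, show ψ (algebraMap P₀ _ a₀) = φ a₀ from IsLocalization.lift_eq _ a₀]

theorem mem_smul_top_of_mem_mul {P : Type u} [CommRing P] (𝔪 I : Ideal P) (i : ↥I) (h : (i : P) ∈ 𝔪 * I) :
    i ∈ 𝔪 • (⊤ : Submodule P ↥I) := by
  rw [Submodule.mem_smul_top_iff]
  simpa using h

/-- The lifting argument. -/
theorem mem_mul_ker_of_D_mem {P : Type u} [CommRing P] [IsLocalRing P] [IsNoetherianRing P] [Algebra A P]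
    [Algebra P B] [IsScalarTower A P B] [IsLocalRing A] [IsLocalHom (algebraMap A B)]
    (hsurj : Function.Surjective (algebraMap P B))
    (h : EGA41.IsFormallySmoothAdic A (maximalIdeal A) B (maximalIdeal B))
    (i : P) (hiI₀ : i ∈ RingHom.ker (algebraMap P B))
    (hDi : D A P i ∈ maximalIdeal P • (⊤ : Submodule P Ω[P⁄A])) :
    i ∈ maximalIdeal P * RingHom.ker (algebraMap P B) := by
  classical
  let I : Ideal P := RingHom.ker (algebraMap P B)
  let 𝔪 : Ideal P := maximalIdeal P
  have hI : I ≤ 𝔪 := le_maximalIdeal (RingHom.ker_ne_top _)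
  have hmB : maximalIdeal B = 𝔪.map (algebraMap P B) :=
    (IsLocalRing.map_maximalIdeal_of_surjective (algebraMap P B) hsurj).symm
  -- Artin-Rees
  obtain ⟨k, hk⟩ := Ideal.exists_pow_inf_eq_pow_smul 𝔪 (M := P) I
  let K : Ideal P := 𝔪 * I ⊔ 𝔪 ^ (k + 1)
  let C := P ⧸ K
  let J : Ideal C := I.map (Ideal.Quotient.mk K)
  have hmJ : ∀ a ∈ 𝔪, ∀ c ∈ J, Ideal.Quotient.mk K a * c = 0 := by
    intro a ha c hc
    obtain ⟨y, hy, rfl⟩ := (Ideal.mem_map_iff_of_surjective _ Ideal.Quotient.mk_surjective).mp hc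
    rw [← map_mul, Ideal.Quotient.eq_zero_iff_mem]
    exact Ideal.mem_sup_left (Ideal.mul_mem_mul ha hy)
  have hJ2 : ∀ c ∈ J, ∀ d ∈ J, c * d = 0 := by
    intro c hc d hd
    obtain ⟨y, hy, rfl⟩ := (Ideal.mem_map_iff_of_surjective _ Ideal.Quotient.mk_surjective).mp hc
    exact hmJ y (hI hy) d hd
  have hnil : IsNilpotent J := ⟨2, by
    rw [pow_two, Ideal.zero_eq_bot, eq_bot_iff, Ideal.mul_le]
    exact fun c hc d hd => (Submodule.mem_bot C).mpr (hJ2 c hc d hd)⟩
  let q : P →ₐ[A] C ⧸ J := (Ideal.Quotient.mkₐ A J).comp (Ideal.Quotient.mkₐ A K)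
  have hq : RingHom.ker (IsScalarTower.toAlgHom A P B).toRingHom ≤ RingHom.ker q.toRingHom := fun x hx =>
    Ideal.Quotient.eq_zero_iff_mem.mpr (Ideal.mem_map_of_mem _ hx)
  let u : B →ₐ[A] C ⧸ J := AlgHom.liftOfSurjective (IsScalarTower.toAlgHom A P B) hsurj q hq
  have hu : ∀ x, u (algebraMap P B x) = q x := fun x =>
    AlgHom.congr_fun (AlgHom.liftOfSurjective_comp (IsScalarTower.toAlgHom A P B) hsurj q hq) x
  have hmK : 𝔪 ^ (k + 1) ≤ K := le_sup_right
  obtain ⟨v, hv⟩ := h C J hnil ⟨k + 1, by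
    have hle : (maximalIdeal A).map (algebraMap A P) ≤ 𝔪 := by
      rw [Ideal.map_le_iff_le_comap]
      intro a ha
      rw [Ideal.mem_comap, mem_maximalIdeal]
      intro hunit
      have := hunit.map (algebraMap P B)
      rw [← IsScalarTower.algebraMap_apply] at this
      exact (mem_maximalIdeal a).mp ha (IsUnit.of_map (algebraMap A B) a this)
    rw [IsScalarTower.algebraMap_eq A P C, ← Ideal.map_map, Ideal.map_pow, eq_bot_iff]
    refine le_trans (Ideal.map_mono ((Ideal.pow_right_mono hle _).trans hmK)) ?_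
    rw [Ideal.Quotient.algebraMap_eq, Ideal.map_quotient_self]⟩ u ⟨k + 1, fun x hx => by
    rw [hmB, ← Ideal.map_pow] at hx
    obtain ⟨y, hy, rfl⟩ := (Ideal.mem_map_iff_of_surjective _ hsurj).mp hx
    rw [hu]
    show Ideal.Quotient.mk J (Ideal.Quotient.mk K y) = 0
    rw [Ideal.Quotient.eq_zero_iff_mem.mpr (hmK hy), map_zero]⟩
  let w : P →ₐ[A] C := v.comp (IsScalarTower.toAlgHom A P B)
  let d : P →ₗ[A] C := (Ideal.Quotient.mkₐ A K).toLinearMap - w.toLinearMap
  have hdJ : ∀ x, d x ∈ J := fun x => by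
    show Ideal.Quotient.mk K x - w x ∈ J
    rw [← Ideal.Quotient.eq]
    exact (Eq.trans (AlgHom.congr_fun hv (algebraMap P B x)) (hu x)).symm
  have hd1 : d 1 = 0 := by simp [d]
  let δ : Derivation A P C :=
    { toLinearMap := d
      map_one_eq_zero' := hd1
      leibniz' := fun a b => by
        have h0 := hJ2 _ (hdJ a) _ (hdJ b)
        simp only [d, LinearMap.sub_apply, AlgHom.toLinearMap_apply, map_mul, Algebra.smul_def,
          Ideal.Quotient.mkₐ_eq_mk, Ideal.Quotient.algebraMap_eq] at h0 ⊢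
        linear_combination -h0 }
  let ℓ := δ.liftKaehlerDifferential
  have hℓJ : ∀ ω, ℓ ω ∈ J := by
    intro ω
    have hω : ω ∈ Submodule.span P (Set.range (D A P)) := by rw [span_range_derivation]; exact Submodule.mem_top
    induction hω using Submodule.span_induction with
    | mem x hx =>
      obtain ⟨y, rfl⟩ := hx
      rw [Derivation.liftKaehlerDifferential_comp_D]
      exact hdJ y
    | zero => rw [map_zero]; exact zero_mem _
    | add x y _ _ hx hy => rw [map_add]; exact add_mem hx hy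
    | smul r x _ hx => rw [map_smul, Algebra.smul_def]; exact Ideal.mul_mem_left _ _ hx
  have hℓ : ∀ ω ∈ 𝔪 • (⊤ : Submodule P Ω[P⁄A]), ℓ ω = 0 := by
    intro ω hω
    refine Submodule.smul_induction_on hω (fun a ha η _ => ?_) fun x y hx hy => by rw [map_add, hx, hy, add_zero]
    rw [map_smul, Algebra.smul_def]
    exact hmJ a ha _ (hℓJ η)
  have hiK : i ∈ K := by
    rw [← Ideal.Quotient.eq_zero_iff_mem]
    have h0 := hℓ _ hDi
    rw [Derivation.liftKaehlerDifferential_comp_D] at h0
    have hw : w i = 0 := by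
      show v (algebraMap P B i) = 0
      rw [RingHom.mem_ker.mp hiI₀, map_zero]
    change Ideal.Quotient.mk K i - w i = 0 at h0
    rwa [hw, sub_zero] at h0
  have hiI : i ∈ 𝔪 * I := by
    obtain ⟨a, ha, b, hb, hab⟩ := Submodule.mem_sup.mp hiK
    have hbI : b ∈ I := by
      rw [show b = i - a from eq_sub_of_add_eq' hab]
      exact sub_mem (show i ∈ I from hiI₀) (show a ∈ I from (Ideal.mul_le_inf (I := 𝔪) (J := I) ha).2)
    have h1 := hk (k + 1) (Nat.le_succ k)
    rw [show k + 1 - k = 1 by omega, pow_one, smul_eq_mul (a := 𝔪 ^ (k + 1)), Ideal.mul_top] at h1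
    have : b ∈ 𝔪 * I := by
      have hb' : b ∈ 𝔪 ^ (k + 1) ⊓ I := ⟨hb, hbI⟩
      rw [h1, smul_eq_mul] at hb'
      exact Ideal.mul_mono_right inf_le_right hb'
    exact hab ▸ add_mem ha this
  exact hiI

/-- Adic formal smoothness gives formal smoothness. -/
theorem formallySmooth_of_adic [IsNoetherianRing A] [IsLocalRing A] [IsLocalHom (algebraMap A B)]
    [Algebra.EssFiniteType A B] (h : EGA41.IsFormallySmoothAdic A (maximalIdeal A) B (maximalIdeal B)) :
    Algebra.FormallySmooth A B := by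
  classical
  obtain ⟨P, _, _, _, _, _, _, _, _, _, hsurj⟩ := exists_local_presentation (A := A) (B := B)
  let I : Ideal P := RingHom.ker (algebraMap P B)
  let 𝔪 : Ideal P := maximalIdeal P
  have hI : I ≤ 𝔪 := le_maximalIdeal (RingHom.ker_ne_top _)
  have hmB : maximalIdeal B = 𝔪.map (algebraMap P B) :=
    (IsLocalRing.map_maximalIdeal_of_surjective (algebraMap P B) hsurj).symm
  -- the residue field
  letI := Ideal.Quotient.field 𝔪
  letI : Algebra B (P ⧸ 𝔪) := (RingHom.liftOfSurjective (algebraMap P B) hsurj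
    ⟨Ideal.Quotient.mk 𝔪, fun x hx => Ideal.Quotient.eq_zero_iff_mem.mpr (hI hx)⟩).toAlgebra
  haveI : IsScalarTower P B (P ⧸ 𝔪) := IsScalarTower.of_algebraMap_eq fun x =>
    (RingHom.liftOfRightInverse_comp_apply (algebraMap P B) _ _
      ⟨Ideal.Quotient.mk 𝔪, fun x hx => Ideal.Quotient.eq_zero_iff_mem.mpr (hI hx)⟩ x).symm
  rw [Algebra.FormallySmooth.iff_injective_cotangentComplexBaseChange P (P ⧸ 𝔪) hsurj (IsNoetherian.noetherian _) (by
    rw [hmB, Ideal.map_le_iff_le_comap]
    intro x hx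
    rw [Ideal.mem_comap, RingHom.mem_ker, ← IsScalarTower.algebraMap_apply]
    exact Ideal.Quotient.eq_zero_iff_mem.mpr hx)]
  rw [injective_iff_map_eq_zero]
  intro z hz
  -- every tensor is elementary
  obtain ⟨i, rfl⟩ : ∃ i : ↥I, (1 : P ⧸ 𝔪) ⊗ₜ[P] i = z :=
    TensorProduct.mk_surjective P ↥I (P ⧸ 𝔪) Ideal.Quotient.mk_surjective z
  rw [cotangentComplexBaseChange_tmul, one_smul] at hz
  have hDi : D A P (i : P) ∈ 𝔪 • (⊤ : Submodule P Ω[P⁄A]) := by
    rw [← LinearMap.ker_tensorProductMk]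
    exact hz
  have : i ∈ 𝔪 • (⊤ : Submodule P ↥I) :=
    mem_smul_top_of_mem_mul 𝔪 I i (mem_mul_ker_of_D_mem hsurj h (i : P) i.2 hDi)
  rw [← LinearMap.ker_tensorProductMk] at this
  exact this

end Groth.Agent.FBase64
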