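import Groth.Agent.FBase64.ProductDim
import Groth.Agent.FlatMor67.DenseAffine
import Groth.Agent.S12208
import Mathlib.AlgebraicGeometry.AffineSpace
import Mathlib.AlgebraicGeometry.Morphisms.Finite
import Mathlib.AlgebraicGeometry.Morphisms.UnderlyingMap
import Mathlib.RingTheory.KrullDimension.Polynomial
import Mathlib.RingTheory.Spectrum.Prime.Topology

/-! Dimension through maps of dense opens to affine spaces. -/

set_option autoImplicit false
set_option linter.style.haveILetI false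
set_option maxHeartbeats 800000
universe u

open CategoryTheory CategoryTheory.Limits AlgebraicGeometry TopologicalSpace

namespace Groth.Agent.FBase64.DimMaps

variable {k : Type u} [Field k]

theorem dim_open_eq {X : Scheme.{u}} (f : X ⟶ Spec (CommRingCat.of k)) [LocallyOfFiniteType f] [QuasiCompact f]
    (U : X.Opens) (hU : Dense (U : Set X)) : topologicalKrullDim (U : Scheme.{u}) = topologicalKrullDim X := by
  haveI := LocallyOfFiniteType.isLocallyNoetherian f
  haveI : CompactSpace X := QuasiCompact.compactSpace_of_compactSpace f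
  haveI : IsNoetherian X := { }
  refine le_antisymm (topologicalKrullDim_subspace_le X _) ?_
  rw [topologicalKrullDim_eq_iSup_tdegN f, topologicalKrullDim_eq_iSup_tdegN (U.ι ≫ f)]
  refine iSup_le fun x => ?_
  obtain ⟨c, hc, hcx⟩ := exists_maximal_specializes x
  have hcU : c ∈ U := by
    have hfin := NoetherianSpace.finite_irreducibleComponents (α := X)
    have hZ : closure {c} ∈ irreducibleComponents X := mem_irreducibleComponents_iff_exists_maximal.mpr ⟨c, hc, rfl⟩
    let O : Set X := (⋃₀ (irreducibleComponents X \ {closure {c}}))ᶜ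
    have hO : IsOpen O := by
      rw [← isClosed_compl_iff, compl_compl, Set.sUnion_eq_biUnion]
      exact hfin.sdiff.isClosed_biUnion fun W hW => isClosed_of_mem_irreducibleComponents W hW.1
    have hne : O.Nonempty := by
      rw [Set.nonempty_iff_ne_empty]
      intro h
      have := closure_sUnion_irreducibleComponents_sdiff_singleton hfin _ hZ
      rw [show (⋃₀ (irreducibleComponents X \ {closure {c}}))ᶜ = O from rfl, h, closure_empty] at this
      exact hZ.1.nonempty.ne_empty this.symm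
    obtain ⟨y, hyO, hyU⟩ := hU.inter_open_nonempty O hO hne
    have hyc : y ∈ closure {c} :=
      (closure_sUnion_irreducibleComponents_sdiff_singleton hfin _ hZ).le (subset_closure hyO)
    exact (specializes_iff_mem_closure.mpr hyc).mem_open U.2 hyU
  let c' : (U : Scheme.{u}) := ⟨c, hcU⟩
  refine le_iSup_of_le c' ?_
  rw [tdegN_comp_isOpenImmersion (U.ι ≫ f) f U.ι rfl c']
  exact_mod_cast tdegN_mono f hcx

/-- The affine space of the polynomial ring. -/
theorem dim_polynomial (n : ℕ) :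
    ringKrullDim (MvPolynomial (ULift.{u} (Fin n)) k) = n := by
  rw [MvPolynomial.ringKrullDim_of_isNoetherianRing, ringKrullDim_eq_zero_of_field, zero_add,
    Nat.card_congr Equiv.ulift, Nat.card_eq_fintype_card, Fintype.card_fin]

theorem dim_spec (R : Type u) [CommRing R] : topologicalKrullDim (Spec (CommRingCat.of R)) = ringKrullDim R :=
  PrimeSpectrum.topologicalKrullDim_eq_ringKrullDim R

theorem dim_affineSpace (n : ℕ) :
    topologicalKrullDim 𝔸(ULift.{u} (Fin n); Spec (CommRingCat.of k)) = n := by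
  rw [IsHomeomorph.topologicalKrullDim_eq _ (AffineSpace.SpecIso (ULift.{u} (Fin n)) (CommRingCat.of k)).hom.homeomorph.isHomeomorph]
  exact (dim_spec (MvPolynomial (ULift.{u} (Fin n)) k)).trans (dim_polynomial n)

theorem le_dim_of_surjective {U : Scheme.{u}} (h : U ⟶ Spec (CommRingCat.of k)) [LocallyOfFiniteType h] (n : ℕ)
    (g : U ⟶ 𝔸(ULift.{u} (Fin n); Spec (CommRingCat.of k)))
    (hg : g ≫ (𝔸(ULift.{u} (Fin n); Spec (CommRingCat.of k)) ↘ Spec (CommRingCat.of k)) = h)
    (hs : Function.Surjective g.base) : (n : WithBot ℕ∞) ≤ topologicalKrullDim U := by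
  let A := 𝔸(ULift.{u} (Fin n); Spec (CommRingCat.of k))
  let iso := AffineSpace.SpecIso (ULift.{u} (Fin n)) (CommRingCat.of k)
  haveI : IrreducibleSpace (PrimeSpectrum (MvPolynomial (ULift.{u} (Fin n)) k)) := inferInstance
  haveI : IrreducibleSpace A := iso.hom.homeomorph.irreducibleSpace_iff.mpr
    (inferInstanceAs (IrreducibleSpace (PrimeSpectrum (MvPolynomial (ULift.{u} (Fin n)) k))))
  obtain ⟨u, hu⟩ := hs (genericPoint A)
  have h1 := WC97.pdim_le_of_map h hg u
  rw [WC97.pdim_eq h, WC97.pdim_eq (A ↘ Spec (CommRingCat.of k))] at h1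
  change WC97.tdegN _ (g.base u) ≤ _ at h1
  rw [hu] at h1
  have h2 := (WC97.dim_eq (A ↘ Spec (CommRingCat.of k))).1
  rw [dim_affineSpace n] at h2
  rw [h2, topologicalKrullDim_eq_iSup_tdegN h]
  refine le_iSup_of_le u ?_
  exact_mod_cast h1

theorem dim_le_of_finite {U : Scheme.{u}} (n : ℕ)
    (g : U ⟶ 𝔸(ULift.{u} (Fin n); Spec (CommRingCat.of k))) [IsFinite g] :
    topologicalKrullDim U ≤ (n : WithBot ℕ∞) := by
  haveI : IsAffine U := isAffine_of_isAffineHom g
  let iso := AffineSpace.SpecIso (ULift.{u} (Fin n)) (CommRingCat.of k)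
  let φ := Spec.preimage (U.isoSpec.inv ≫ g ≫ iso.hom)
  have hφ : φ.hom.Finite := by
    rw [← IsFinite.SpecMap_iff, Spec.map_preimage]
    infer_instance
  rw [IsHomeomorph.topologicalKrullDim_eq _ U.isoSpec.hom.homeomorph.isHomeomorph]
  refine ((dim_spec Γ(U, ⊤)).trans_le (le_trans ?_ (dim_polynomial (k := k) n).le))
  letI := φ.hom.toAlgebra
  haveI : Module.Finite (MvPolynomial (ULift.{u} (Fin n)) k) Γ(U, ⊤) := hφ
  haveI : Algebra.IsIntegral (MvPolynomial (ULift.{u} (Fin n)) k) Γ(U, ⊤) := Algebra.IsIntegral.of_finite _ _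
  refine Order.krullDim_le_of_strictMono (fun Q => PrimeSpectrum.comap φ.hom Q) fun Q Q' h => ?_
  obtain ⟨x, hx, hx'⟩ := SetLike.exists_of_lt (show Q.asIdeal < Q'.asIdeal from h)
  exact Ideal.comap_lt_comap_of_integral_mem_sdiff (R := MvPolynomial (ULift.{u} (Fin n)) k) h.le ⟨hx, hx'⟩
    (Algebra.IsIntegral.isIntegral x)

theorem comap_surjective_of_leftInverse {R S : Type u} [CommRing R] [CommRing S] (i : R →+* S) (r : S →+* R)
    (h : r.comp i = RingHom.id R) : Function.Surjective (PrimeSpectrum.comap i) := fun p =>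
  ⟨PrimeSpectrum.comap r p, by rw [← PrimeSpectrum.comap_comp_apply, h, PrimeSpectrum.comap_id]⟩

theorem main {X : Scheme.{u}} (f : X ⟶ Spec (CommRingCat.of k)) [LocallyOfFiniteType f] [QuasiCompact f] (n : ℕ) :
    ((n : WithBot ℕ∞) ≤ topologicalKrullDim (X : Type u) ↔
      ∃ (U : X.Opens) (g : (U : Scheme.{u}) ⟶ 𝔸(ULift.{u} (Fin n); Spec (CommRingCat.of k))),
        Dense (U : Set X) ∧ g ≫ (𝔸(ULift.{u} (Fin n); Spec (CommRingCat.of k)) ↘ Spec (CommRingCat.of k)) = U.ι ≫ f ∧ Function.Surjective g.base) ∧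
    (topologicalKrullDim (X : Type u) ≤ n ↔
      ∃ (U : X.Opens) (g : (U : Scheme.{u}) ⟶ 𝔸(ULift.{u} (Fin n); Spec (CommRingCat.of k))),
        Dense (U : Set X) ∧ g ≫ (𝔸(ULift.{u} (Fin n); Spec (CommRingCat.of k)) ↘ Spec (CommRingCat.of k)) = U.ι ≫ f ∧ IsFinite g) ∧
    (topologicalKrullDim (X : Type u) = n ↔
      ∃ (U : X.Opens) (g : (U : Scheme.{u}) ⟶ 𝔸(ULift.{u} (Fin n); Spec (CommRingCat.of k))),
        Dense (U : Set X) ∧ g ≫ (𝔸(ULift.{u} (Fin n); Spec (CommRingCat.of k)) ↘ Spec (CommRingCat.of k)) = U.ι ≫ f ∧ IsFinite g ∧ Function.Surjective g.base) := by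
  haveI := LocallyOfFiniteType.isLocallyNoetherian f
  haveI : CompactSpace X := QuasiCompact.compactSpace_of_compactSpace f
  haveI : IsNoetherian X := { }
  obtain ⟨U, hUa, hUd⟩ := Groth.Agent.FlatMor67.exists_dense_affineOpen X
  let A := Γ(X, U)
  let φ : k →+* A := (Spec.preimage (hUa.fromSpec ≫ f)).hom
  letI : Algebra k A := φ.toAlgebra
  have hstr : Spec.map (CommRingCat.ofHom (algebraMap k A)) = hUa.fromSpec ≫ f := Spec.map_preimage _
  haveI : Algebra.FiniteType k A := by
    have : LocallyOfFiniteType (Spec.map (CommRingCat.ofHom (algebraMap k A))) := hstr ▸ inferInstance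
    exact RingHom.finiteType_algebraMap.mp ((HasRingHomProperty.Spec_iff (P := @LocallyOfFiniteType)).mp this)
  let mk : ∀ ψ : MvPolynomial (ULift.{u} (Fin n)) k →ₐ[k] A,
      (U : Scheme.{u}) ⟶ 𝔸(ULift.{u} (Fin n); Spec (CommRingCat.of k)) := fun ψ =>
    hUa.isoSpec.hom ≫ Spec.map (CommRingCat.ofHom ψ.toRingHom) ≫
      (AffineSpace.SpecIso (ULift.{u} (Fin n)) (CommRingCat.of k)).inv
  have hmk : ∀ ψ, mk ψ ≫ (𝔸(ULift.{u} (Fin n); Spec (CommRingCat.of k)) ↘ Spec (CommRingCat.of k)) = U.ι ≫ f := by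
    intro ψ
    simp only [mk, Category.assoc, AffineSpace.SpecIso_inv_over]
    rw [← Spec.map_comp]
    have e : CommRingCat.ofHom MvPolynomial.C ≫ CommRingCat.ofHom ψ.toRingHom = CommRingCat.ofHom (algebraMap k A) :=
      CommRingCat.hom_ext (RingHom.ext fun c => ψ.commutes c)
    rw [e, hstr, ← hUa.isoSpec_inv_ι, Category.assoc, Iso.hom_inv_id_assoc]
  have hdim : topologicalKrullDim (X : Type u) = ringKrullDim A := by
    rw [← dim_open_eq f U hUd, IsHomeomorph.topologicalKrullDim_eq _ hUa.isoSpec.hom.homeomorph.isHomeomorph]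
    exact dim_spec A
  have hfin : ∀ ψ, ψ.toRingHom.Finite → IsFinite (mk ψ) := fun ψ hψ => by
    haveI : IsFinite (Spec.map (CommRingCat.ofHom ψ.toRingHom)) := (IsFinite.SpecMap_iff _).mpr hψ
    infer_instance
  have hsurj : ∀ ψ, Function.Surjective (PrimeSpectrum.comap ψ.toRingHom) → Function.Surjective (mk ψ).base :=
    fun ψ hψ => by
      haveI : Surjective (Spec.map (CommRingCat.ofHom ψ.toRingHom)) := ⟨hψ⟩
      exact (inferInstance : Surjective (mk ψ)).surj
  have conv1 : ∀ (U' : X.Opens) (g : (U' : Scheme.{u}) ⟶ 𝔸(ULift.{u} (Fin n); Spec (CommRingCat.of k))),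
      Dense (U' : Set X) → g ≫ (𝔸(ULift.{u} (Fin n); Spec (CommRingCat.of k)) ↘ Spec (CommRingCat.of k)) = U'.ι ≫ f →
      Function.Surjective g.base → (n : WithBot ℕ∞) ≤ topologicalKrullDim (X : Type u) := fun U' g hd hg hs =>
    dim_open_eq f U' hd ▸ le_dim_of_surjective (U'.ι ≫ f) n g hg hs
  have conv2 : ∀ (U' : X.Opens) (g : (U' : Scheme.{u}) ⟶ 𝔸(ULift.{u} (Fin n); Spec (CommRingCat.of k))),
      Dense (U' : Set X) → IsFinite g → topologicalKrullDim (X : Type u) ≤ (n : WithBot ℕ∞) := fun U' g hd hf =>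
    dim_open_eq f U' hd ▸ dim_le_of_finite n g
  rcases subsingleton_or_nontrivial A with hA | hA
  · have hbot : ringKrullDim A = ⊥ := ringKrullDim_eq_bot_of_subsingleton
    have hnb : ¬ (n : WithBot ℕ∞) ≤ ⊥ := by simp
    refine ⟨⟨fun h => absurd (hdim ▸ h) (hbot ▸ hnb), fun ⟨U', g, a, b, c⟩ => conv1 U' g a b c⟩,
      ⟨fun _ => ?_, fun ⟨U', g, a, b, c⟩ => conv2 U' g a c⟩,
      ⟨fun h => absurd ((hdim ▸ h : ringKrullDim A = n).ge) (hbot ▸ hnb),
        fun ⟨U', g, a, b, c, d⟩ => le_antisymm (conv2 U' g a c) (conv1 U' g a b d)⟩⟩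
    exact ⟨U, mk (MvPolynomial.aeval fun _ => 0), hUd, hmk _, hfin _
      (RingHom.Finite.of_surjective _ (Function.surjective_to_subsingleton _))⟩
  obtain ⟨d, θ, hinj, hθ⟩ := exists_finite_inj_algHom_of_fg k A
  have hd : topologicalKrullDim (X : Type u) = (d : WithBot ℕ∞) := by
    rw [hdim]; exact Groth.Agent.S12208.dim_eq_of_injective_finite θ.toRingHom hinj hθ
  have hθs : Function.Surjective (PrimeSpectrum.comap θ.toRingHom) := by
    letI := θ.toRingHom.toAlgebra
    haveI : Module.Finite (MvPolynomial (Fin d) k) A := hθ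
    haveI : Algebra.IsIntegral (MvPolynomial (Fin d) k) A := Algebra.IsIntegral.of_finite _ _
    intro p
    obtain ⟨Q, -, hQ, hQc⟩ := Ideal.exists_ideal_over_prime_of_isIntegral (R := MvPolynomial (Fin d) k)
      (S := A) p.asIdeal ⊥ (by
        intro x hx
        rw [Ideal.mem_comap, Ideal.mem_bot] at hx
        rw [hinj (hx.trans (map_zero θ).symm)]
        exact zero_mem _)
    exact ⟨⟨Q, hQ⟩, PrimeSpectrum.ext hQc⟩
  have up : n ≤ d → ∃ ι : MvPolynomial (ULift.{u} (Fin n)) k →ₐ[k] MvPolynomial (Fin d) k,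
      Function.Surjective (PrimeSpectrum.comap ι.toRingHom) ∧ (d = n → Function.Surjective ι) := by
    intro h
    let j : ULift.{u} (Fin n) → Fin d := fun i => Fin.castLE h i.down
    have hj : Function.Injective j := fun a b e => ULift.ext _ _ (Fin.castLE_injective h e)
    refine ⟨MvPolynomial.rename j, comap_surjective_of_leftInverse _ (MvPolynomial.killCompl hj).toRingHom ?_, ?_⟩
    · exact RingHom.ext fun p => MvPolynomial.killCompl_rename_app hj p
    · rintro rfl
      exact MvPolynomial.rename_surjective j fun i => ⟨⟨i⟩, Fin.ext rfl⟩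
  refine ⟨⟨fun h => ?_, fun ⟨U', g, a, b, c⟩ => conv1 U' g a b c⟩,
    ⟨fun h => ?_, fun ⟨U', g, a, b, c⟩ => conv2 U' g a c⟩,
    ⟨fun h => ?_, fun ⟨U', g, a, b, c, e⟩ => le_antisymm (conv2 U' g a c) (conv1 U' g a b e)⟩⟩
  · rw [hd] at h
    obtain ⟨ι, hι, -⟩ := up (by exact_mod_cast h)
    exact ⟨U, mk (θ.comp ι), hUd, hmk _, hsurj _ (by
      show Function.Surjective (PrimeSpectrum.comap (θ.toRingHom.comp ι.toRingHom))
      rw [PrimeSpectrum.comap_comp]; exact hι.comp hθs)⟩
  · rw [hd] at h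
    have hdn : d ≤ n := by exact_mod_cast h
    let j : Fin d → ULift.{u} (Fin n) := fun i => ⟨Fin.castLE hdn i⟩
    have hj : Function.Injective j := fun a b e => Fin.castLE_injective hdn (congrArg ULift.down e)
    refine ⟨U, mk (θ.comp (MvPolynomial.killCompl hj)), hUd, hmk _, hfin _ ?_⟩
    exact RingHom.Finite.comp hθ (RingHom.Finite.of_surjective _ fun p =>
      ⟨MvPolynomial.rename j p, MvPolynomial.killCompl_rename_app hj p⟩)
  · rw [hd] at h
    have hdn : d = n := by exact_mod_cast h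
    obtain ⟨ι, hι, hι'⟩ := up hdn.ge
    exact ⟨U, mk (θ.comp ι), hUd, hmk _, hfin _ (RingHom.Finite.comp hθ (RingHom.Finite.of_surjective _ (hι' hdn))),
      hsurj _ (by
      show Function.Surjective (PrimeSpectrum.comap (θ.toRingHom.comp ι.toRingHom))
      rw [PrimeSpectrum.comap_comp]; exact hι.comp hθs)⟩

end Groth.Agent.FBase64.DimMaps
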