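import Groth.Agent.FBase64.TensorField
import Mathlib.FieldTheory.PrimitiveElement
import Mathlib.FieldTheory.SeparableClosure
import Mathlib.FieldTheory.IsSepClosed
import Mathlib.RingTheory.Spectrum.Prime.Homeomorph
import Mathlib.FieldTheory.PurelyInseparable.Basic
import Mathlib.Algebra.Polynomial.Lifts
import Mathlib.LinearAlgebra.TensorProduct.RightExactness

/-!
If k is separably closed in L then Spec (K ⊗ L) is irreducible for every field K over k.
-/

namespace Groth.Agent.FBase64

open TensorProduct Polynomial

universe u v w

variable {k : Type u} {L : Type v} [Field k] [Field L] [Algebra k L]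

theorem separableClosure_eq_bot_of_isSepClosed [IsSepClosed k] : separableClosure k L = ⊥ := by
  refine bot_unique fun x hx => ?_
  have hs : IsSeparable k x := hx
  have h1 := minpoly.irreducible hs.isIntegral
  have hd := IsSepClosed.degree_eq_one_of_irreducible k h1 hs
  exact IntermediateField.mem_bot.mpr (minpoly.degree_eq_one_iff.mp hd)

theorem minpoly_eq_map_of_separableClosure_eq_bot (hL : separableClosure k L = ⊥)
    {E : Type*} [Field E] [IsAlgClosed E] [Algebra k E] [Algebra L E] [IsScalarTower k L E]
    {a : E} (ha : IsSeparable k a) :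
    minpoly L a = (minpoly k a).map (algebraMap k L) := by
  have hai : IsIntegral k a := ha.isIntegral
  have haL : IsIntegral L a := hai.tower_top
  set q := minpoly L a
  have hdvd : q ∣ (minpoly k a).map (algebraMap k L) := minpoly.dvd_map_of_isScalarTower k L a
  have hroot : ∀ r ∈ (q.map (algebraMap L E)).roots, IsSeparable k r := fun r hr => by
    have h1 : ((minpoly k a).map (algebraMap k E)).IsRoot r := by
      have := Polynomial.map_dvd (algebraMap L E) hdvd
      rw [Polynomial.map_map, ← IsScalarTower.algebraMap_eq] at this
      exact (Polynomial.isRoot_of_mem_roots hr).dvd this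
    have h2 : aeval r (minpoly k a) = 0 := by
      rw [Polynomial.aeval_def, ← Polynomial.eval_map]; exact h1
    exact Polynomial.Separable.of_dvd ha (minpoly.dvd k r h2)
  let S := separableClosure k E
  have hlift : q.map (algebraMap L E) ∈ Polynomial.lifts (algebraMap S E) := by
    rw [(IsAlgClosed.splits (q.map (algebraMap L E))).eq_prod_roots_of_monic
      ((minpoly.monic haL).map _)]
    refine Subsemiring.multiset_prod_mem _ _ fun p hp => ?_
    obtain ⟨r, hr, rfl⟩ := Multiset.mem_map.mp hp
    exact ⟨X - C ⟨r, hroot r hr⟩, by simp⟩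
  have hcoeff : q ∈ Polynomial.lifts (algebraMap k L) := by
    rw [Polynomial.lifts_iff_coeff_lifts]
    intro n
    obtain ⟨s, hs⟩ := (Polynomial.lifts_iff_coeff_lifts _).mp hlift n
    rw [Polynomial.coeff_map] at hs
    have : algebraMap L E (q.coeff n) ∈ separableClosure k E := hs ▸ s.2
    have h2 : q.coeff n ∈ separableClosure k L :=
      (map_mem_separableClosure_iff (IsScalarTower.toAlgHom k L E)).mp this
    rw [hL] at h2
    exact IntermediateField.mem_bot.mp h2
  obtain ⟨q0, hq0, -, hm⟩ := Polynomial.lifts_and_degree_eq_and_monic hcoeff (minpoly.monic haL)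
  have h3 : aeval a q0 = 0 := by
    have := minpoly.aeval L a
    change aeval a q = 0 at this
    rw [← hq0, Polynomial.aeval_map_algebraMap] at this
    exact this
  have h4 : minpoly k a = q0 := by
    refine Polynomial.eq_of_monic_of_associated (minpoly.monic hai) hm ?_
    refine associated_of_dvd_dvd (minpoly.dvd k a h3) ?_
    rw [← hq0] at hdvd
    exact (Polynomial.map_dvd_map (algebraMap k L) (algebraMap k L).injective hm).mp hdvd
  rw [h4, hq0]

theorem noZeroDivisors_tensor_separable (hL : separableClosure k L = ⊥) (S : Type w) [Field S]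
    [Algebra k S] [Algebra.IsSeparable k S] : NoZeroDivisors (S ⊗[k] L) := by
  refine noZeroDivisors_tensor_of_forall_fg fun A0 h0 => ?_
  have : Algebra.FiniteType k A0 := A0.fg_iff_finiteType.mp h0
  have : Algebra.IsIntegral k A0 := ⟨fun x =>
    (isIntegral_algHom_iff A0.val Subtype.val_injective).mp (Algebra.IsIntegral.isIntegral _)⟩
  let : Field A0 := (isField_of_isIntegral_of_isField' (Field.toIsField k)).toField
  have : Module.Finite k A0 := Algebra.IsIntegral.finite
  have : Algebra.IsSeparable k A0 := ⟨fun x => by
    unfold IsSeparable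
    rw [← minpoly.algHom_eq A0.val Subtype.val_injective x]
    exact Algebra.IsSeparable.isSeparable k (A0.val x)⟩
  let pb := Field.powerBasisOfFiniteOfSeparable k A0
  let E := AlgebraicClosure L
  let σ : A0 →ₐ[k] E := IsAlgClosed.lift
  let f : L ⊗[k] A0 →ₐ[L] E := Algebra.TensorProduct.lift (Algebra.ofId L E) σ
    (fun _ _ => Commute.all _ _)
  have hmin : minpoly L (σ pb.gen) = (minpoly k pb.gen).map (algebraMap k L) := by
    rw [minpoly_eq_map_of_separableClosure_eq_bot hL, minpoly.algHom_eq σ σ.injective]
    unfold IsSeparable
    rw [minpoly.algHom_eq σ σ.injective]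
    exact Algebra.IsSeparable.isSeparable k _
  have hdeg : (minpoly L (σ pb.gen)).natDegree = pb.dim := by
    rw [hmin, Polynomial.natDegree_map, pb.natDegree_minpoly]
  have hinj : Function.Injective f := by
    let b := Algebra.TensorProduct.basis L pb.basis
    refine (injective_iff_map_eq_zero f).mpr fun x hx => ?_
    have hli : LinearIndependent L (f.toLinearMap ∘ b) := by
      have := (linearIndependent_pow (K := L) (σ pb.gen)).comp (Fin.cast hdeg.symm)
        (Fin.cast_injective _)
      convert this using 1
      ext i
      simp [f, b, Algebra.TensorProduct.basis_apply]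
    rw [← b.linearCombination_repr x] at hx ⊢
    rw [← AlgHom.toLinearMap_apply, Finsupp.apply_linearCombination] at hx
    rw [hli (hx.trans (map_zero (Finsupp.linearCombination L (f.toLinearMap ∘ b))).symm)]
    simp
  refine Function.Injective.noZeroDivisors
    (f.toRingHom.comp (Algebra.TensorProduct.comm k A0 L).toRingHom) ?_ (map_zero _) (map_mul _)
  exact hinj.comp (Algebra.TensorProduct.comm k A0 L).injective

theorem isDomain_tensor_separable (hL : separableClosure k L = ⊥) (S : Type w) [Field S]
    [Algebra k S] [Algebra.IsSeparable k S] : IsDomain (S ⊗[k] L) :=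
  have := noZeroDivisors_tensor_separable hL S
  have : Nontrivial (S ⊗[k] L) :=
    (Algebra.TensorProduct.includeRight_injective (R := k) (A := S) (B := L)
      (algebraMap k S).injective).nontrivial
  NoZeroDivisors.to_isDomain _

theorem isPrime_nilradical_of_injective {A B : Type*} [CommRing A] [CommRing B] (f : A →+* B)
    (hf : Function.Injective f) (h : (nilradical B).IsPrime) : (nilradical A).IsPrime := by
  have : nilradical A = (nilradical B).comap f := by
    ext x
    simp [mem_nilradical, IsNilpotent.map_iff hf]
  rw [this]
  exact h.comap f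

theorem isPrime_nilradical_of_surjective {A B : Type*} [CommRing A] [CommRing B] [IsDomain B]
    (f : A →+* B) (hk : RingHom.ker f ≤ nilradical A) : (nilradical A).IsPrime := by
  have : nilradical A = RingHom.ker f :=
    le_antisymm (fun x hx => (IsNilpotent.map (mem_nilradical.mp hx) f).eq_zero) hk
  rw [this]
  exact RingHom.ker_isPrime f

theorem irreducibleSpace_tensor_algebraicClosure (hL : separableClosure k L = ⊥) :
    IrreducibleSpace (PrimeSpectrum (AlgebraicClosure k ⊗[k] L)) := by
  let S := separableClosure k (AlgebraicClosure k)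
  have : IsDomain (S ⊗[k] L) := isDomain_tensor_separable hL S
  have h := PrimeSpectrum.isHomeomorph_comap_tensorProductMap_of_isPurelyInseparable
    (K := S) (R := k) (S := L) (AlgebraicClosure k)
  exact h.homeomorph.irreducibleSpace_iff.mpr inferInstance

/-- If `k` is separably closed in `L`, then `K ⊗ L` has a unique minimal prime. -/
theorem isPrime_nilradical_tensor (hL : separableClosure k L = ⊥) (K : Type w) [Field K]
    [Algebra k K] : (nilradical (K ⊗[k] L)).IsPrime := by
  let Ω := AlgebraicClosure K
  let σ : AlgebraicClosure k →ₐ[k] Ω := IsAlgClosed.lift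
  let := σ.toRingHom.toAlgebra
  have : IsScalarTower k (AlgebraicClosure k) Ω := IsScalarTower.of_algHom σ
  refine isPrime_nilradical_of_injective
    (Algebra.TensorProduct.map (IsScalarTower.toAlgHom k K Ω) (AlgHom.id k L)).toRingHom
    (map_injective_left _ (algebraMap K Ω).injective) ?_
  let R := AlgebraicClosure k ⊗[k] L
  have hP : (nilradical R).IsPrime := PrimeSpectrum.irreducibleSpace_iff_isPrime_nilradical.mp
    (irreducibleSpace_tensor_algebraicClosure hL)
  let g := Ideal.Quotient.mkₐ (AlgebraicClosure k) (nilradical R)
  have hg : Function.Surjective g := Ideal.Quotient.mkₐ_surjective _ _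
  have : IsDomain (Ω ⊗[AlgebraicClosure k] (R ⧸ nilradical R)) :=
    isDomain_tensor_of_isAlgClosed _ _ _
  let e := Algebra.TensorProduct.cancelBaseChange k (AlgebraicClosure k) (AlgebraicClosure k) Ω L
  have h1 : (nilradical (Ω ⊗[AlgebraicClosure k] R)).IsPrime := by
    refine isPrime_nilradical_of_surjective (B := Ω ⊗[AlgebraicClosure k] (R ⧸ nilradical R))
      (Algebra.TensorProduct.map (AlgHom.id (AlgebraicClosure k) Ω) g).toRingHom ?_
    change RingHom.ker (Algebra.TensorProduct.map (AlgHom.id (AlgebraicClosure k) Ω) g) ≤ _
    rw [Algebra.TensorProduct.lTensor_ker g hg, Ideal.map_le_iff_le_comap]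
    intro x hx
    have hx' : IsNilpotent x := mem_nilradical.mp (Ideal.Quotient.eq_zero_iff_mem.mp hx)
    exact mem_nilradical.mpr (hx'.map _)
  exact isPrime_nilradical_of_injective e.symm.toRingHom e.symm.injective h1

theorem irreducibleSpace_tensor (hL : separableClosure k L = ⊥) (K : Type w) [Field K]
    [Algebra k K] : IrreducibleSpace (PrimeSpectrum (K ⊗[k] L)) :=
  PrimeSpectrum.irreducibleSpace_iff_isPrime_nilradical.mpr (isPrime_nilradical_tensor hL K)

end Groth.Agent.FBase64
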