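import Groth.Agent.FBase64.TensorField
import Mathlib.RingTheory.TensorProduct.MvPolynomial
import Mathlib.RingTheory.Localization.BaseChange
import Mathlib.RingTheory.AlgebraicIndependent.Adjoin
import Mathlib.RingTheory.AlgebraicIndependent.TranscendenceBasis
import Mathlib.RingTheory.Ideal.GoingUp
import Mathlib.RingTheory.Ideal.AssociatedPrime.Basic
import Mathlib.RingTheory.LocalRing.Length
import Mathlib.FieldTheory.PurelyInseparable.Basic
import Mathlib.RingTheory.Spectrum.Prime.Homeomorph

/-!
Tensor products of fields: no embedded primes, lengths, fields of definition.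
-/

namespace Groth.Agent.FBase64

open TensorProduct

universe u

theorem isDomain_of_localization' {C D : Type*} [CommRing C] [IsDomain C] [CommRing D] [Algebra C D]
    [Nontrivial D] (M : Submonoid C) [IsLocalization M D] : IsDomain D := by
  refine IsLocalization.isDomain_of_le_nonZeroDivisors (M := M) (S := D) fun m hm => ?_
  refine mem_nonZeroDivisors_iff_ne_zero.mpr fun h => not_subsingleton D ?_
  exact (IsLocalization.uniqueOfZeroMem (M := M) (S := D) (h ▸ hm)).instSubsingleton

theorem isDomain_ratFunc_tensor (k L : Type u) [Field k] [Field L] [Algebra k L] (σ : Type u) :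
    IsDomain (FractionRing (MvPolynomial σ k) ⊗[k] L) := by
  let R := MvPolynomial σ k
  let K := FractionRing R
  have : IsDomain (L ⊗[k] R) :=
    (MvPolynomial.algebraTensorAlgEquiv (σ := σ) k L).toMulEquiv.isDomain
  have : IsDomain (R ⊗[k] L) := (Algebra.TensorProduct.comm k R L).toMulEquiv.isDomain
  have : Nontrivial (K ⊗[R] (R ⊗[k] L)) := by
    have : Nontrivial (K ⊗[k] L) :=
      (Algebra.TensorProduct.includeRight_injective (R := k) (A := K) (B := L)
        (algebraMap k K).injective).nontrivial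
    exact (Algebra.TensorProduct.cancelBaseChange k R R K L).toEquiv.nontrivial
  have : IsLocalization (Algebra.algebraMapSubmonoid (R ⊗[k] L) (nonZeroDivisors R))
      ((R ⊗[k] L) ⊗[R] K) := inferInstance
  have : Nontrivial ((R ⊗[k] L) ⊗[R] K) :=
    (Algebra.TensorProduct.comm R (R ⊗[k] L) K).toEquiv.nontrivial
  have : IsDomain ((R ⊗[k] L) ⊗[R] K) :=
    isDomain_of_localization' (C := R ⊗[k] L) (D := (R ⊗[k] L) ⊗[R] K)
      (Algebra.algebraMapSubmonoid (R ⊗[k] L) (nonZeroDivisors R))
  exact (((Algebra.TensorProduct.comm R (R ⊗[k] L) K).toRingEquiv.trans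
    (Algebra.TensorProduct.cancelBaseChange k R R K L).toRingEquiv).symm).toMulEquiv.isDomain

theorem mem_minimalPrimes_tensor_aux (k F K L : Type u) [Field k] [Field F] [Field K] [Field L]
    [Algebra k F] [Algebra k K] [Algebra F K] [IsScalarTower k F K] [Algebra k L]
    [Algebra.IsAlgebraic F K] [IsDomain (F ⊗[k] L)] (P : Ideal (K ⊗[k] L)) [P.IsPrime]
    (hP : ∀ r ∈ P, ∃ x, x ≠ 0 ∧ r * x = 0) : P ∈ minimalPrimes (K ⊗[k] L) := by
  have : Algebra.IsIntegral F K := Algebra.IsAlgebraic.isIntegral
  have : Algebra.IsIntegral (F ⊗[k] L) ((F ⊗[k] L) ⊗[F] K) := inferInstance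
  let e : (F ⊗[k] L) ⊗[F] K ≃+* K ⊗[k] L :=
    (Algebra.TensorProduct.comm F (F ⊗[k] L) K).toRingEquiv.trans
      (Algebra.TensorProduct.cancelBaseChange k F F K L).toRingEquiv
  let b := Algebra.TensorProduct.basis (F ⊗[k] L) (Module.Free.chooseBasis F K)
  have hfree : ∀ r : F ⊗[k] L, r ≠ 0 → ∀ x : (F ⊗[k] L) ⊗[F] K, r • x = 0 → x = 0 := by
    intro r hr x hx
    apply b.repr.injective
    ext i
    have := congrArg (fun y => b.repr y i) hx
    simp only [map_smul, Finsupp.smul_apply, smul_eq_mul, map_zero, Finsupp.zero_apply] at this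
    rw [map_zero, Finsupp.zero_apply]
    exact (mul_eq_zero.mp this).resolve_left hr
  refine ⟨⟨inferInstance, bot_le⟩, fun Q hQ hQP => ?_⟩
  by_contra hne
  have : Q.IsPrime := hQ.1
  have hlt : Q.comap e.toRingHom < P.comap e.toRingHom := by
    refine lt_of_le_not_ge (Ideal.comap_mono hQP) fun hle => hne fun p hp => ?_
    have hp' : e.symm p ∈ P.comap e.toRingHom := by
      rw [Ideal.mem_comap, RingEquiv.toRingHom_eq_coe, RingEquiv.coe_toRingHom, e.apply_symm_apply]
      exact hp
    have h2 := hle hp'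
    rw [Ideal.mem_comap, RingEquiv.toRingHom_eq_coe, RingEquiv.coe_toRingHom, e.apply_symm_apply] at h2
    exact h2
  have h1 := Ideal.IsIntegral.comap_lt_comap (R := F ⊗[k] L) hlt
  obtain ⟨r, hr, hrQ⟩ := SetLike.exists_of_lt h1
  have hr0 : r ≠ 0 := fun h => hrQ (h ▸ Ideal.zero_mem _)
  obtain ⟨x, hx0, hx⟩ := hP (e (algebraMap _ _ r)) hr
  refine hx0 (e.symm.injective ?_)
  rw [map_zero]
  refine hfree r hr0 _ ?_
  have hmul : ∀ z : (F ⊗[k] L) ⊗[F] K, r • z = algebraMap (F ⊗[k] L) ((F ⊗[k] L) ⊗[F] K) r * z := by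
    intro z
    induction z with
    | zero => simp
    | tmul a c => simp [TensorProduct.smul_tmul']
    | add z w hz hw => simp [hz, hw, mul_add]
  apply e.injective
  rw [hmul, map_mul, map_zero, e.apply_symm_apply, hx]

/-- In `K ⊗ L` a prime consisting of zero divisors is minimal. -/
theorem mem_minimalPrimes_tensor (k K L : Type u) [Field k] [Field K] [Field L]
    [Algebra k K] [Algebra k L] (P : Ideal (K ⊗[k] L)) [P.IsPrime]
    (hP : ∀ r ∈ P, ∃ x, x ≠ 0 ∧ r * x = 0) : P ∈ minimalPrimes (K ⊗[k] L) := by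
  obtain ⟨s, hs⟩ := exists_isTranscendenceBasis k K
  have : Algebra.IsAlgebraic (IntermediateField.adjoin k (Set.range (Subtype.val : s → K))) K :=
    hs.isAlgebraic_field
  have := isDomain_ratFunc_tensor k L s
  have : IsDomain (IntermediateField.adjoin k (Set.range (Subtype.val : s → K)) ⊗[k] L) :=
    (Algebra.TensorProduct.congr hs.1.aevalEquivField.symm
      (AlgEquiv.refl (A₁ := L))).toMulEquiv.isDomain
  exact mem_minimalPrimes_tensor_aux k
    (IntermediateField.adjoin k (Set.range (Subtype.val : s → K))) K L P hP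

theorem associatedPrimes_subset_minimalPrimes (k K L : Type u) [Field k] [Field K] [Field L]
    [Algebra k K] [Algebra k L] [IsNoetherianRing (K ⊗[k] L)] :
    associatedPrimes (K ⊗[k] L) (K ⊗[k] L) ⊆ minimalPrimes (K ⊗[k] L) := by
  intro P hP
  have : P.IsPrime := IsAssociatedPrime.isPrime hP
  refine mem_minimalPrimes_tensor k K L P fun r hr => ?_
  have : r ∈ {r : K ⊗[k] L | ∃ x : K ⊗[k] L, x ≠ 0 ∧ r • x = 0} := by
    rw [← biUnion_associatedPrimes_eq_zero_divisors]
    exact Set.mem_iUnion₂_of_mem hP hr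
  exact this

/-- The length of `K ⊗ k'` for finite purely inseparable `k'` is a power of the exponential
characteristic. -/
theorem exists_length_eq_pow (k K k' : Type u) [Field k] [Field K] [Field k'] [Algebra k K]
    [Algebra k k'] (p : ℕ) [ExpChar k p] [FiniteDimensional k k'] [IsPurelyInseparable k k'] :
    ∃ n : ℕ, Module.length (K ⊗[k] k') (K ⊗[k] k') = (p ^ n : ℕ) := by
  let R := K ⊗[k] k'
  have hR : IsLocalRing R := by
    have h := PrimeSpectrum.isHomeomorph_comap_of_isPurelyInseparable k k' K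
    have : Subsingleton (PrimeSpectrum R) := h.bijective.injective.subsingleton
    have : Nontrivial R :=
      (Algebra.TensorProduct.includeLeft_injective (R := k) (S := K) (A := K) (B := k')
        (algebraMap k k').injective).nontrivial
    exact IsLocalRing.of_unique_max_ideal (by
      obtain ⟨m, hm⟩ := Ideal.exists_maximal R
      refine ⟨m, hm, fun n hn => ?_⟩
      exact congrArg PrimeSpectrum.asIdeal
        (Subsingleton.elim (⟨n, hn.isPrime⟩ : PrimeSpectrum R) ⟨m, hm.isPrime⟩))
  have : IsLocalHom (algebraMap K R) := ⟨fun a ha => by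
    rw [isUnit_iff_ne_zero]
    rintro rfl
    rw [map_zero] at ha
    exact not_isUnit_zero ha⟩
  obtain ⟨m, hm⟩ := IsPurelyInseparable.finrank_eq_pow k k' p
  have h1 : Module.length K R = (p ^ m : ℕ) := by
    rw [Module.length_eq_finrank, Module.finrank_baseChange, hm]
  rw [IsLocalRing.length_restrictScalars K R R] at h1
  have hfin : Module.length R R ≠ ⊤ := fun h => by
    rw [h, ENat.top_mul (by simpa [pos_iff_ne_zero] using Module.length_pos)] at h1
    exact ENat.top_ne_natCast _ h1
  obtain ⟨a, ha⟩ := ENat.ne_top_iff_exists.mp hfin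
  set c := Module.length (IsLocalRing.ResidueField K) (IsLocalRing.ResidueField R)
  rw [← ha] at h1 ⊢
  obtain ⟨b, hb⟩ : ∃ b : ℕ, c = b := by
    have : c ≠ ⊤ := fun h => by
      by_cases ha0 : a = 0
      · subst ha0
        exact (Module.length_pos (R := R) (M := R)).ne' ha.symm
      · rw [h, ENat.mul_top (by exact_mod_cast ha0)] at h1
        exact ENat.top_ne_natCast _ h1
    exact ⟨c.toNat, (ENat.natCast_toNat this).symm⟩
  rw [hb] at h1
  have hab : a * b = p ^ m := by exact_mod_cast h1
  rcases ‹ExpChar k p› with _ | hp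
  · refine ⟨0, ?_⟩
    simp only [one_pow] at hab ⊢
    rw [(mul_eq_one.mp hab).1]
  · obtain ⟨n, -, hn⟩ := (Nat.dvd_prime_pow hp).mp (Dvd.intro b hab)
    exact ⟨n, by rw [hn]⟩

/-- Finitely generated ideals of `K ⊗ A` are defined over a finitely generated subfield. -/
theorem exists_fg_field_of_definition {k K : Type u} [Field k] [Field K] [Algebra k K]
    (A : Type u) [CommRing A] [Algebra k A] [Algebra.FiniteType k A] (I : Ideal (K ⊗[k] A)) :
    ∃ K' : IntermediateField k K, K'.FG ∧
      ∃ I' : Ideal (↥K' ⊗[k] A),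
        I = Ideal.map (Algebra.TensorProduct.map K'.val (AlgHom.id k A)) I' := by
  have : IsNoetherianRing (K ⊗[k] A) := Algebra.FiniteType.isNoetherianRing K _
  obtain ⟨s, hs⟩ := IsNoetherian.noetherian (R := K ⊗[k] A) I
  classical
  choose A0 hA0 hmem using fun x : K ⊗[k] A => exists_fg_range x
  choose t ht using hA0
  let K' := IntermediateField.adjoin k (s.biUnion t : Set K)
  refine ⟨K', IntermediateField.fg_adjoin_finset _, ?_⟩
  let φ := Algebra.TensorProduct.map K'.val (AlgHom.id k A)
  refine ⟨I.comap φ, le_antisymm ?_ Ideal.map_comap_le⟩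
  rw [← hs]
  refine Submodule.span_le.mpr fun x hx => ?_
  have hle : A0 x ≤ K'.toSubalgebra := by
    rw [← ht x]
    refine Algebra.adjoin_le fun a ha => IntermediateField.subset_adjoin k _ ?_
    simp only [Finset.coe_biUnion, Set.mem_iUnion]
    exact ⟨x, hx, ha⟩
  obtain ⟨y, hy⟩ := range_mono hle (hmem x)
  change φ y = x at hy
  rw [← hy]
  refine Ideal.mem_map_of_mem φ ?_
  rw [Ideal.mem_comap, hy]
  exact Submodule.subset_span hx

end Groth.Agent.FBase64
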