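import Groth.Agent.FBase64.AssSheaf
import Groth.Agent.LC17.KGood
import Mathlib.RingTheory.Flat.TorsionFree
import Mathlib.RingTheory.Ideal.AssociatedPrime.Finiteness

/-! Supports and flatness. -/

set_option autoImplicit false
set_option linter.style.haveILetI false
set_option backward.isDefEq.respectTransparency.types false

noncomputable section

universe u

open CategoryTheory AlgebraicGeometry Opposite TopologicalSpace

namespace Groth.Agent.FBase64.AssSheaf

open Div89

variable {X Y : Scheme.{u}}

lemma maximal_of_mem_ass (F : X.Modules) (hF : Coh.IsQCoh F) (x : X)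
    (hx : Nontrivial (F.presheaf.stalk x))
    (hmax : ∀ y : X, Nontrivial (F.presheaf.stalk y) → y ⤳ x → y = x) : x ∈ AssSch.Ass F := by
  obtain ⟨y, hy, hyx⟩ := exists_ass_specializes F hF x hx
  rwa [hmax y (nontrivial_stalk_of_mem_ass F y hy) hyx] at hy

/-- The finite length criterion for maximal points of the support. -/
lemma maximal_iff_isFiniteLength [IsLocallyNoetherian X] (F : X.Modules) (hF : Coh.IsCoh F) (x : X) :
    (∀ y : X, Nontrivial (F.presheaf.stalk y) → y ⤳ x → y = x) ↔
      IsFiniteLength (X.presheaf.stalk x) (F.presheaf.stalk x) := by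
  obtain ⟨U, hxU⟩ := exists_affine_mem x
  letI := stalkModule F U.1 x hxU
  letI := stalkAlg U.1 x hxU
  haveI := isLocalization_stalk U x hxU
  haveI := isLocalizedModule_germLin F hF.1 U x hxU
  haveI := isScalarTower_stalk F U.1 x hxU
  haveI : Module.Finite (X.presheaf.stalk x) (F.presheaf.stalk x) := FDesc60.finite_stalk_of_isCoh F hF x
  haveI : IsNoetherianRing Γ(X, U.1) := IsLocallyNoetherian.component_noetherian U
  haveI : IsNoetherianRing (X.presheaf.stalk x) :=
    IsLocalization.isNoetherianRing (primeAt U x hxU).primeCompl _ inferInstance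
  have key : ∀ (q : PrimeSpectrum (X.presheaf.stalk x)) (y : X) (hy : y ∈ U.1),
      primeAt U y hy = q.asIdeal.comap (algebraMap Γ(X, U.1) (X.presheaf.stalk x)) →
      (q ∈ Module.support (X.presheaf.stalk x) (F.presheaf.stalk x) ↔ Nontrivial (F.presheaf.stalk y)) := by
    intro q y hy hq
    rw [← not_subsingleton_iff_nontrivial, mem_support_iff_exists F hF.1 U y hy,
      Module.mem_support_iff_exists_annihilator]
    constructor
    · rintro ⟨e, he⟩
      obtain ⟨⟨m, s⟩, rfl⟩ := IsLocalizedModule.mk'_surjective (primeAt U x hxU).primeCompl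
        (germLin F U.1 x hxU) e
      refine ⟨m, fun t ht => ?_⟩
      rw [hq, Ideal.mem_comap]
      refine he ((Submodule.mem_annihilator_span_singleton _ _).mpr ?_)
      simp only [Function.uncurry_apply_pair, algebraMap_smul, ← IsLocalizedModule.mk'_smul, ht,
        IsLocalizedModule.mk'_zero]
    · rintro ⟨m, hm⟩
      refine ⟨germLin F U.1 x hxU m, fun r hr => ?_⟩
      obtain ⟨t, s, rfl⟩ := IsLocalization.exists_mk'_eq (primeAt U x hxU).primeCompl r
      rw [Submodule.mem_annihilator_span_singleton] at hr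
      have h0 : germLin F U.1 x hxU (t • m) = 0 := by
        rw [map_smul, ← algebraMap_smul (X.presheaf.stalk x) t, ← IsLocalization.mk'_spec' (X.presheaf.stalk x) t s,
          mul_smul, hr, smul_zero]
      obtain ⟨u, hu, hut⟩ := (germ_eq_zero_iff F hF.1 U x hxU (t • m)).1 h0
      have := hm (u * t) (by rw [mul_smul, hut])
      rw [hq, Ideal.mem_comap, map_mul] at this
      have hu' : IsUnit (algebraMap Γ(X, U.1) (X.presheaf.stalk x) u) := (germ_isUnit_iff U x hxU u).2 hu
      have hq' := (Ideal.unit_mul_mem_iff_mem q.asIdeal hu').mp this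
      exact (IsLocalization.mk'_mem_iff).mpr hq'
  rw [← Module.length_ne_top_iff]
  constructor
  · intro h
    refine LC17.length_ne_top_of_support fun q hq => ?_
    haveI : (q.asIdeal.comap (algebraMap Γ(X, U.1) (X.presheaf.stalk x))).IsPrime := inferInstance
    obtain ⟨y, hy, hyq⟩ := exists_point U (q.asIdeal.comap (algebraMap Γ(X, U.1) (X.presheaf.stalk x)))
    have hle : q.asIdeal.comap (algebraMap Γ(X, U.1) (X.presheaf.stalk x)) ≤ primeAt U x hxU := by
      refine le_trans (Ideal.comap_mono (IsLocalRing.le_maximalIdeal q.2.ne_top)) ?_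
      exact (IsLocalization.AtPrime.under_maximalIdeal (X.presheaf.stalk x) (primeAt U x hxU)).le
    obtain rfl := h y ((key q y hy hyq).mp hq) ((specializes_iff_primeAt_le U hxU hy).2 (hyq ▸ hle))
    have : q.asIdeal = IsLocalRing.maximalIdeal (X.presheaf.stalk y) := by
      rw [← IsLocalization.map_under (primeAt U y hxU).primeCompl (X.presheaf.stalk y) q.asIdeal,
        ← IsLocalization.map_under (primeAt U y hxU).primeCompl (X.presheaf.stalk y)
          (IsLocalRing.maximalIdeal (X.presheaf.stalk y)),
        IsLocalization.AtPrime.under_maximalIdeal (X.presheaf.stalk y) (primeAt U y hxU)]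
      exact congrArg _ hyq.symm
    rw [this]
    exact IsLocalRing.maximalIdeal.isMaximal _
  · intro h y hyne hyx
    have hy : y ∈ U.1 := mem_affine_of_specializes hyx hxU
    have hle := (specializes_iff_primeAt_le U hxU hy).1 hyx
    have hd : Disjoint ((primeAt U x hxU).primeCompl : Set Γ(X, U.1)) (primeAt U y hy : Set Γ(X, U.1)) :=
      Set.disjoint_left.2 fun a ha hb => ha (hle hb)
    let q : PrimeSpectrum (X.presheaf.stalk x) :=
      ⟨(primeAt U y hy).map (algebraMap Γ(X, U.1) (X.presheaf.stalk x)),
        IsLocalization.isPrime_of_isPrime_disjoint (primeAt U x hxU).primeCompl _ _ inferInstance hd⟩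
    have hq : primeAt U y hy = q.asIdeal.comap (algebraMap Γ(X, U.1) (X.presheaf.stalk x)) :=
      (IsLocalization.comap_map_of_isPrime_disjoint (primeAt U x hxU).primeCompl _ inferInstance hd).symm
    have hmax := LC17.isMaximal_of_mem_support (Module.length_ne_top_iff.mp h) ((key q y hy hq).mpr hyne)
    refine primeAt_inj U hy hxU ?_
    rw [hq, IsLocalRing.eq_maximalIdeal hmax]
    exact IsLocalization.AtPrime.under_maximalIdeal (X.presheaf.stalk x) (primeAt U x hxU)

/-- An associated point of a module flat over the base lies over an associated point. -/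
lemma mem_ass_base_of_flat [IsLocallyNoetherian X] [IsLocallyNoetherian Y] (f : X ⟶ Y) (F : X.Modules)
    (x : X) (hfl : FlatMod.IsFlatOverAt f F x) (hx : x ∈ AssSch.Ass F) :
    IsAssociatedPrime (IsLocalRing.maximalIdeal (Y.presheaf.stalk (f x))) (Y.presheaf.stalk (f x)) := by
  classical
  by_contra hcon
  let A := Y.presheaf.stalk (f x)
  have hfin := associatedPrimes.finite A A
  have hnot : ¬ (IsLocalRing.maximalIdeal A : Set A) ⊆ ⋃ p ∈ associatedPrimes A A, (p : Set A) := by
    intro h
    rw [show (⋃ p ∈ associatedPrimes A A, (p : Set A)) = ⋃ p ∈ (hfin.toFinset : Set (Ideal A)), ((id p : Ideal A) : Set A) by simp] at h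
    obtain ⟨p, hp, hle⟩ := (Ideal.subset_union_prime ⊥ ⊥
      (fun p hp _ _ => IsAssociatedPrime.isPrime (hfin.mem_toFinset.mp hp))).mp h
    have hp' := hfin.mem_toFinset.mp hp
    exact hcon (((IsLocalRing.maximalIdeal.isMaximal A).eq_of_le (IsAssociatedPrime.isPrime hp').ne_top hle).symm ▸ hp')
  obtain ⟨t, htm, ht⟩ := Set.not_subset.mp hnot
  rw [biUnion_associatedPrimes_eq_compl_nonZeroDivisors, Set.mem_compl_iff, not_not] at ht
  letI := FlatMod.moduleStalkOver f F x
  haveI : Module.Flat A (F.presheaf.stalk x) := hfl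
  have hreg : IsSMulRegular (F.presheaf.stalk x) t := Module.Flat.isSMulRegular_of_nonZeroDivisors ht
  obtain ⟨-, s, hs⟩ := hx
  have hts : (f.stalkMap x).hom t ∈ IsLocalRing.maximalIdeal (X.presheaf.stalk x) := by
    rw [SetLike.mem_coe, IsLocalRing.mem_maximalIdeal, mem_nonunits_iff] at htm
    rw [IsLocalRing.mem_maximalIdeal, mem_nonunits_iff]
    exact fun h => htm (IsLocalHom.map_nonunit (self := f.toLRSHom.prop x) t h)
  rw [hs, Ideal.mem_radical_iff] at hts
  obtain ⟨n, hn⟩ := hts
  rw [Submodule.mem_colon_singleton, Submodule.mem_bot, ← map_pow] at hn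
  have hs0 : s = 0 := (hreg.pow n).right_eq_zero_of_smul hn
  refine (IsLocalRing.maximalIdeal.isMaximal (X.presheaf.stalk x)).ne_top (hs.trans ?_)
  rw [hs0, Ideal.eq_top_iff_one, Ideal.mem_radical_iff]
  exact ⟨1, by rw [Submodule.mem_colon_singleton, smul_zero]; exact Submodule.zero_mem _⟩

end Groth.Agent.FBase64.AssSheaf
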