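import Groth.Agent.FBase64.ReducedModProd
import Groth.Agent.FBase64.Geometric

/-! Integral modules under extensions of the base field. -/

set_option autoImplicit false
set_option linter.style.haveILetI false
set_option backward.isDefEq.respectTransparency.types false
set_option maxHeartbeats 1000000
universe u

open CategoryTheory CategoryTheory.Limits AlgebraicGeometry TopologicalSpace TensorProduct

namespace Groth.Agent.FBase64.RedField

open AssSheaf AssTensor

/-- A reduced scheme is irreducible iff it has exactly one associated point. -/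
theorem irreducible_iff_ass_singleton (Z : Scheme.{u}) [IsReduced Z] :
    IrreducibleSpace Z ↔ ∃ z, AssSch.Ass (Coh.structureModule Z) = {z} := by
  constructor
  · intro _
    refine ⟨genericPoint Z, ?_⟩
    have hmax : ∀ z ∈ AssSch.Ass (Coh.structureModule Z), z = genericPoint Z := by
      intro z hz
      obtain ⟨q, hq⟩ : genericPoint Z ∈ Set.range (Z.fromSpecStalk z) :=
        (Set.ext_iff.mp Scheme.range_fromSpecStalk _).mpr (genericPoint_specializes z)
      letI := (IsLocalRing.isField_iff_maximalIdeal_eq.mpr
        (maximalIdeal_eq_bot_of_reduced ((mem_ass_structure_iff z).mp hz))).toField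
      exact (Scheme.fromSpecStalk_closedPoint (X := Z) (x := z)).symm.trans
        ((congrArg _ (Subsingleton.elim (α := PrimeSpectrum (Z.presheaf.stalk z)) _ q)).trans hq)
    obtain ⟨z, hz, -⟩ := exists_ass_specializes_structure (genericPoint Z)
    exact Set.eq_singleton_iff_unique_mem.mpr ⟨hmax z hz ▸ hz, hmax⟩
  · rintro ⟨η, hη⟩
    have hcl : closure ({η} : Set Z) = Set.univ := Set.eq_univ_of_forall fun z => by
      obtain ⟨w, hw, hwz⟩ := exists_ass_specializes_structure z
      rw [hη] at hw
      exact specializes_iff_mem_closure.mp ((Set.mem_singleton_iff.mp hw) ▸ hwz)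
    rw [irreducibleSpace_def, Set.top_eq_univ, ← hcl]
    exact isIrreducible_singleton.closure

/-- Points associated to a flat pullback. -/
theorem mem_ass_pullback_flat {X' X : Scheme.{u}} (π : X' ⟶ X) [Flat π] [IsLocallyNoetherian X']
    [IsLocallyNoetherian X] (F : X.Modules) (hF : Coh.IsQCoh F) (z : X') :
    z ∈ AssSch.Ass ((Scheme.Modules.pullback π).obj F) ↔
      π z ∈ AssSch.Ass F ∧ ∃ a ∈ AssSch.Ass (Coh.structureModule (π.fiber (π z))), π.fiberι (π z) a = z := by
  rw [← ass_iso (EGA73.tensUnitRight ((Scheme.Modules.pullback π).obj F)),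
    mem_ass_pullTensor π F hF _ (isCoh_structure X').1 (isFlatOver_structure π) z,
    ass_iso (PicLoc.pullbackStructureIso (π.fiberι (π z)))]

theorem ass_pullback_singleton_iff {X' X : Scheme.{u}} (π : X' ⟶ X) [Flat π] [IsLocallyNoetherian X']
    [IsLocallyNoetherian X] (F : X.Modules) (hF : Coh.IsQCoh F) (x : X) (hx : AssSch.Ass F = {x})
    [IsReduced (π.fiber x)] :
    (∃ x', AssSch.Ass ((Scheme.Modules.pullback π).obj F) = {x'}) ↔ IrreducibleSpace (π.fiber x) := by
  rw [irreducible_iff_ass_singleton]
  have himg : AssSch.Ass ((Scheme.Modules.pullback π).obj F) =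
      π.fiberι x '' AssSch.Ass (Coh.structureModule (π.fiber x)) := by
    ext z
    rw [mem_ass_pullback_flat π F hF, hx, Set.mem_singleton_iff]
    constructor
    · rintro ⟨e, h⟩
      rw [e] at h
      exact h
    · rintro ⟨a, ha, rfl⟩
      rw [AssTensor.fiberι_over]
      exact ⟨rfl, a, ha, rfl⟩
  rw [himg]
  constructor
  · rintro ⟨x', h⟩
    obtain ⟨a, ha, hax⟩ : x' ∈ π.fiberι x '' AssSch.Ass (Coh.structureModule (π.fiber x)) := h ▸ Set.mem_singleton x'
    refine ⟨a, Set.eq_singleton_iff_unique_mem.mpr ⟨ha, fun b hb => (π.fiberι x).isEmbedding.injective ?_⟩⟩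
    have : π.fiberι x b ∈ ({x'} : Set X') := h ▸ Set.mem_image_of_mem _ hb
    rw [Set.mem_singleton_iff.mp this, hax]
  · rintro ⟨a, ha⟩
    exact ⟨π.fiberι x a, by rw [ha, Set.image_singleton]⟩

/-- A field extension with integral tensor products with all finite extensions is primary. -/
theorem separableClosure_eq_bot {k κ : Type u} [Field k] [Field κ] [Algebra k κ]
    (h : ∀ (k' : Type u) [Field k'] [Algebra k k'] [FiniteDimensional k k'], IsDomain (κ ⊗[k] k')) :
    separableClosure k κ = ⊥ := by
  rw [eq_bot_iff]
  intro a ha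
  rw [mem_separableClosure_iff] at ha
  let L := IntermediateField.adjoin k {a}
  haveI : FiniteDimensional k L := IntermediateField.adjoin.finiteDimensional ha.isIntegral
  haveI := h L
  haveI : IsDomain (L ⊗[k] L) :=
    Function.Injective.isDomain (Algebra.TensorProduct.map L.val (AlgHom.id k L)).toRingHom
      (Module.Flat.rTensor_preserves_injective_linearMap L.val.toLinearMap Subtype.val_injective)
  have hfield : IsField (L ⊗[k] L) :=
    isField_of_isIntegral_of_isField' (R := k) (S := L ⊗[k] L) (Field.toIsField k)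
  have hinj : Function.Injective (Algebra.TensorProduct.lmul' k (S := L)).toRingHom :=
    (injective_iff_map_eq_zero _).mpr fun t ht => by
      by_contra h0
      obtain ⟨t', ht'⟩ := hfield.mul_inv_cancel h0
      have := congrArg (Algebra.TensorProduct.lmul' k (S := L)).toRingHom ht'
      rw [map_mul, ht, zero_mul, map_one] at this
      exact zero_ne_one this
  have hd := LinearMap.finrank_le_finrank_of_injective
    (f := (Algebra.TensorProduct.lmul' k (S := L)).toLinearMap) hinj
  rw [Module.finrank_tensorProduct] at hd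
  have h1 : Module.finrank k L = 1 := by
    have := Module.finrank_pos (R := k) (M := L)
    nlinarith
  exact (IntermediateField.finrank_eq_one_iff.mp h1).le (IntermediateField.mem_adjoin_simple_self k a)

variable {k : Type u} [Field k] {X : Scheme.{u}} (f : X ⟶ Spec (CommRingCat.of k))

theorem isIntegralMod_bc [IsLocallyNoetherian X] (F : X.Modules) (hF : Coh.IsQCoh F)
    (h : ∀ (k' : Type u) [Field k'] [Algebra k k'] [FiniteDimensional k k'],
        ∃ x' : ↥(FBase.bc f k'), AssSch.Ass ((Scheme.Modules.pullback (FBase.bcπ f k')).obj F) = {x'} ∧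
          Module.length ↑((FBase.bc f k').presheaf.stalk x') ↑(((Scheme.Modules.pullback (FBase.bcπ f k')).obj F).presheaf.stalk x') = 1)
    (K : Type u) [Field K] [Algebra k K] [IsLocallyNoetherian (FBase.bc f K)] :
    ∃ x' : ↥(FBase.bc f K), AssSch.Ass ((Scheme.Modules.pullback (FBase.bcπ f K)).obj F) = {x'} ∧
      Module.length ↑((FBase.bc f K).presheaf.stalk x') ↑(((Scheme.Modules.pullback (FBase.bcπ f K)).obj F).presheaf.stalk x') = 1 := by
  have hredall : ∀ (k' : Type u) [Field k'] [Algebra k k'] [FiniteDimensional k k'],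
      AssSch.IsReducedMod ((Scheme.Modules.pullback (FBase.bcπ f k')).obj F) := by
    intro k' _ _ _
    obtain ⟨x', hx', hl⟩ := h k'
    refine ⟨fun a ha b hb _ => ?_, fun a ha => ?_⟩
    · rw [hx', Set.mem_singleton_iff] at ha hb; rw [ha, hb]
    · rw [hx', Set.mem_singleton_iff] at ha; rw [ha]; exact hl
  have hred : AssSch.IsReducedMod ((Scheme.Modules.pullback (FBase.bcπ f K)).obj F) :=
    isReducedMod_bc f F hF (fun k' _ _ _ _ => hredall k') K
  -- `F` has one associated point
  obtain ⟨x, hx⟩ : ∃ x, AssSch.Ass F = {x} := by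
    obtain ⟨x', hx', -⟩ := h k
    let g := Spec.map (CommRingCat.ofHom (algebraMap k k))
    haveI : IsIso g := by
      rw [show g = 𝟙 _ from (congrArg Spec.map CommRingCat.ofHom_id).trans (Spec.map_id _)]
      infer_instance
    refine ⟨pullback.fst f g x', Set.ext fun y => ?_⟩
    obtain ⟨y', rfl⟩ := (pullback.fst f g).surjective y
    rw [← mem_ass_pullback_iff (pullback.fst f g) F y', Set.mem_singleton_iff,
      (pullback.fst f g).isEmbedding.injective.eq_iff]
    exact Set.ext_iff.mp hx' y'
  have hgred := geometricallyReduced_residue f F hF (fun k' _ _ _ _ => hredall k') x (hx ▸ rfl)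
  obtain ⟨φ, hφ⟩ : ∃ φ : CommRingCat.of k ⟶ X.residueField x, X.fromSpecResidueField x ≫ f = Spec.map φ :=
    ⟨Spec.preimage _, (Spec.map_preimage _).symm⟩
  letI : Algebra k (X.residueField x) := φ.hom.toAlgebra
  -- reduced fibres
  have hfib : ∀ (K' : Type u) [Field K'] [Algebra k K'],
      AlgebraicGeometry.IsReduced ((pullback.fst f (Spec.map (CommRingCat.ofHom (algebraMap k K')))).fiber x) := by
    intro K' _ _
    haveI := hgred
    haveI : AlgebraicGeometry.IsReduced (pullback (X.fromSpecResidueField x ≫ f)
        (Spec.map (CommRingCat.ofHom (algebraMap k K')))) :=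
      GeometricallyReduced.geometrically_isReduced (Spec.map (CommRingCat.ofHom (algebraMap k K')))
        (pullback.fst _ _) (pullback.snd _ _) (IsPullback.of_hasPullback _ _)
    exact isReduced_of_isOpenImmersion (bcFiberIso f K' x).hom
  let e : ∀ (K' : Type u) [Field K'] [Algebra k K'],
      (pullback.fst f (Spec.map (CommRingCat.ofHom (algebraMap k K')))).fiber x ≅
        Spec (CommRingCat.of (X.residueField x ⊗[k] K')) :=
    fun K' _ _ => bcFiberIso f K' x ≪≫ pullback.congrHom hφ rfl ≪≫ pullbackSpecIso k (X.residueField x) K'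
  have hsep : separableClosure k (X.residueField x) = ⊥ := by
    refine separableClosure_eq_bot fun k' _ _ _ => ?_
    haveI := hfib k'
    haveI : IsLocallyNoetherian (pullback f (Spec.map (CommRingCat.ofHom (algebraMap k k')))) :=
      isLocallyNoetherian_bc_finite f k'
    obtain ⟨x', hx', -⟩ := h k'
    haveI := (ass_pullback_singleton_iff (pullback.fst f (Spec.map (CommRingCat.ofHom (algebraMap k k')))) F hF x hx).mp
      ⟨x', hx'⟩
    haveI : IrreducibleSpace (PrimeSpectrum (X.residueField x ⊗[k] k')) :=
      (e k').hom.homeomorph.irreducibleSpace_iff.mp inferInstance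
    haveI : AlgebraicGeometry.IsReduced (Spec (CommRingCat.of (X.residueField x ⊗[k] k'))) :=
      isReduced_of_isOpenImmersion (e k').inv
    haveI : _root_.IsReduced (X.residueField x ⊗[k] k') := (affine_isReduced_iff _).mp ‹_›
    have hp := PrimeSpectrum.irreducibleSpace_iff_isPrime_nilradical.mp ‹IrreducibleSpace (PrimeSpectrum (X.residueField x ⊗[k] k'))›
    rw [nilradical_eq_zero] at hp
    exact IsDomain.of_bot_isPrime _
  haveI := geometricallyIrreducible_specMap hsep
  haveI := hfib K
  haveI : IsLocallyNoetherian (pullback f (Spec.map (CommRingCat.ofHom (algebraMap k K)))) :=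
    ‹IsLocallyNoetherian (FBase.bc f K)›
  haveI : IrreducibleSpace ↥(pullback (Spec.map φ) (Spec.map (CommRingCat.ofHom (algebraMap k K)))) :=
    GeometricallyIrreducible.geometrically_irreducibleSpace (f := Spec.map φ)
      (Spec.map (CommRingCat.ofHom (algebraMap k K))) (pullback.fst _ _) (pullback.snd _ _)
      (IsPullback.of_hasPullback _ _)
  haveI : IrreducibleSpace ((pullback.fst f (Spec.map (CommRingCat.ofHom (algebraMap k K)))).fiber x) :=
    (bcFiberIso f K x ≪≫ pullback.congrHom hφ rfl).hom.homeomorph.irreducibleSpace_iff.mpr inferInstance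
  obtain ⟨x', hx'⟩ :=
    (ass_pullback_singleton_iff (pullback.fst f (Spec.map (CommRingCat.ofHom (algebraMap k K)))) F hF x hx).mpr
      inferInstance
  exact ⟨x', hx', hred.2 x' (hx'.symm ▸ rfl)⟩

end Groth.Agent.FBase64.RedField
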