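import Groth.Agent.FBase64.AssAlg
import Mathlib.RingTheory.Ideal.KrullsHeightTheorem
import Mathlib.Algebra.BigOperators.WithTop

/-! The length inequality for `M/tM` over a one-dimensional Noetherian local ring. -/

universe u

namespace Groth.Agent.FBase64.AssLen

open Module

variable {A : Type u} [CommRing A] [IsNoetherianRing A] [IsLocalRing A]

lemma dim_one (hdim : 0 < ringKrullDim A) (t : A) (ht : t ∈ IsLocalRing.maximalIdeal A)
    (hart : IsArtinianRing (A ⧸ Ideal.span {t})) :
    ringKrullDim A = 1 ∧ ∀ p ∈ minimalPrimes A, t ∉ p := by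
  constructor
  · have h := ringKrullDim_le_ringKrullDim_quotient_add_encard {t} (show ({t} : Set A) ⊆ _ by
      rw [Set.singleton_subset_iff, SetLike.mem_coe, IsLocalRing.ringJacobson_eq_maximalIdeal]
      exact ht)
    have h0 : ringKrullDim (A ⧸ Ideal.span {t}) ≤ 0 :=
      Ring.krullDimLE_iff.mp ((isArtinianRing_iff_krullDimLE_zero (R := A ⧸ Ideal.span {t})).mp hart)
    rw [Set.encard_singleton] at h
    have hle : ringKrullDim A ≤ 1 := h.trans ((add_le_add h0 le_rfl).trans (by simp))
    have hge : (1 : WithBot ℕ∞) ≤ ringKrullDim A := by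
      revert hdim
      generalize ringKrullDim A = x
      intro hx
      induction x with
      | bot => exact absurd hx (by simp)
      | coe y =>
        rw [← WithBot.coe_zero, WithBot.coe_lt_coe] at hx
        rw [← WithBot.coe_one, WithBot.coe_le_coe]
        exact Order.one_le_iff_pos.mpr hx
    exact le_antisymm hle hge
  · intro p hp htp
    have : p.IsPrime := hp.1.1
    have hle : Ideal.span {t} ≤ p := (Ideal.span_singleton_le_iff_mem p).mpr htp
    have hmax : p.IsMaximal := by
      let q := p.map (Ideal.Quotient.mk (Ideal.span {t}))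
      have hqp : q.comap (Ideal.Quotient.mk (Ideal.span {t})) = p := by
        rw [Ideal.comap_map_of_surjective _ Ideal.Quotient.mk_surjective]
        exact sup_eq_left.mpr (Ideal.mk_ker.le.trans hle)
      have : q.IsPrime := Ideal.map_isPrime_of_surjective Ideal.Quotient.mk_surjective
        (Ideal.mk_ker.le.trans hle)
      have : q.IsMaximal := inferInstance
      rw [← hqp]
      exact Ideal.comap_isMaximal_of_surjective _ Ideal.Quotient.mk_surjective
    have hpm : p = IsLocalRing.maximalIdeal A := IsLocalRing.eq_maximalIdeal hmax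
    have : Ring.KrullDimLE 0 A := Ring.krullDimLE_zero_iff.mpr fun I hI => by
      have := hp.2 ⟨hI, bot_le⟩ (hpm ▸ IsLocalRing.le_maximalIdeal hI.ne_top)
      rw [le_antisymm (hpm ▸ IsLocalRing.le_maximalIdeal hI.ne_top) this]
      exact hmax
    exact (Ring.krullDimLE_iff.mp this).not_gt (by exact_mod_cast hdim)

variable (M : Type u) [AddCommGroup M] [Module A M] [Module.Finite A M]

/-- The inequality and its equality case. -/
theorem length_ineq (hdim : 0 < ringKrullDim A) (t : A) (ht : t ∈ IsLocalRing.maximalIdeal A)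
    (hart : IsArtinianRing (A ⧸ Ideal.span {t})) :
    (∑ᶠ p : minimalPrimes A,
        haveI : p.1.IsPrime := p.2.1.1
        Module.length (Localization.AtPrime p.1) (LocalizedModule p.1.primeCompl M)) ≤
      Module.length A (M ⧸ (Ideal.span {t} • (⊤ : Submodule A M))) ∧
    ((∑ᶠ p : minimalPrimes A,
        haveI : p.1.IsPrime := p.2.1.1
        Module.length (Localization.AtPrime p.1) (LocalizedModule p.1.primeCompl M)) =
      Module.length A (M ⧸ (Ideal.span {t} • (⊤ : Submodule A M))) ↔
    IsSMulRegular M t ∧
      ∀ p : minimalPrimes A,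
        (haveI : p.1.IsPrime := p.2.1.1
         Nontrivial (LocalizedModule p.1.primeCompl M)) →
        Ideal.map (Ideal.Quotient.mk p.1) (IsLocalRing.maximalIdeal A) =
          Ideal.span {Ideal.Quotient.mk p.1 t}) := by
  classical
  obtain ⟨h1, h2⟩ := dim_one hdim t ht hart
  obtain ⟨hker, hcok, hform⟩ := Len90.multiplicity_formula h1 M t h2
  have hc : Module.length A (M ⧸ (Ideal.span {t} • (⊤ : Submodule A M))) =
      Len90.coker (LinearMap.lsmul A M t) := by
    refine (Submodule.quotEquivOfEq _ _ ?_).length_eq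
    ext x
    rw [AssAlg.mem_span_smul_top, LinearMap.mem_range]
    rfl
  have : Fintype (minimalPrimes A) := (minimalPrimes.finite_of_isNoetherianRing A).fintype
  let g : minimalPrimes A → ℕ∞ := fun p =>
    haveI : p.1.IsPrime := p.2.1.1
    Module.length (Localization.AtPrime p.1) (LocalizedModule p.1.primeCompl M)
  let l : minimalPrimes A → ℕ∞ := fun p => Module.length A (A ⧸ (p.1 ⊔ Ideal.span {t}))
  have hS : Len90.multSum t M = ∑ p : minimalPrimes A, g p * l p := by
    rw [Len90.multSum_eq t M Len90.finite_minimal]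
    refine Finset.sum_bij' (fun p hp => ⟨p.asIdeal, by simpa using hp⟩)
      (fun p _ => ⟨p.1, p.2.1.1⟩) (fun _ _ => Finset.mem_univ _)
      (fun p _ => by simp; exact p.2) (fun _ _ => rfl) (fun _ _ => rfl) (fun p hp => rfl)
  have hl : ∀ p, 1 ≤ l p := fun p => by
    rw [Order.one_le_iff_pos, Module.length_pos_iff, Submodule.Quotient.nontrivial_iff]
    intro h
    refine (IsLocalRing.maximalIdeal.isMaximal A).ne_top (top_le_iff.mp (h.ge.trans (sup_le ?_ ?_)))
    · exact IsLocalRing.le_maximalIdeal p.2.1.1.ne_top
    · exact (Ideal.span_singleton_le_iff_mem _).mpr ht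
  have hle : ∀ p, g p ≤ g p * l p := fun p => le_mul_of_one_le_right zero_le (hl p)
  rw [finsum_eq_sum_of_fintype, hc, hform, hS]
  have hfin : ∀ p, g p ≠ ⊤ ∧ g p * l p ≠ ⊤ := fun p => by
    have : g p * l p ≠ ⊤ := ne_top_of_le_ne_top hcok (hform ▸ hS ▸
      le_add_left (Finset.single_le_sum (f := fun q => g q * l q) (fun _ _ => zero_le) (Finset.mem_univ p)))
    exact ⟨ne_top_of_le_ne_top this (hle p), this⟩
  refine ⟨(Finset.sum_le_sum fun p _ => hle p).trans le_add_self, ?_⟩
  have hreg : Len90.kerLen (LinearMap.lsmul A M t) = 0 ↔ IsSMulRegular M t := by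
    rw [Len90.kerLen, Module.length_eq_zero_iff, Submodule.subsingleton_iff_eq_bot,
      LinearMap.ker_eq_bot]
    rfl
  have hone : ∀ p : minimalPrimes A, l p = 1 ↔
      Ideal.map (Ideal.Quotient.mk p.1) (IsLocalRing.maximalIdeal A) =
          Ideal.span {Ideal.Quotient.mk p.1 t} := fun p => by
    rw [Module.length_eq_one_iff, isSimpleModule_iff_isCoatom,
      ← Set.image_singleton, ← Ideal.map_span]
    constructor
    · intro h
      have hm : p.1 ⊔ Ideal.span {t} = IsLocalRing.maximalIdeal A :=
        IsLocalRing.eq_maximalIdeal (Ideal.isMaximal_def.mpr h)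
      rw [← hm, Ideal.map_sup, Ideal.map_quotient_self, bot_sup_eq]
    · intro h
      have := congrArg (Ideal.comap (Ideal.Quotient.mk p.1)) h
      simp only [Ideal.comap_map_of_surjective _ Ideal.Quotient.mk_surjective] at this
      rw [show Ideal.comap (Ideal.Quotient.mk p.1) ⊥ = p.1 from Ideal.mk_ker] at this
      rw [sup_eq_left.mpr (IsLocalRing.le_maximalIdeal p.2.1.1.ne_top), sup_comm] at this
      exact Ideal.isMaximal_def.mp (this ▸ IsLocalRing.maximalIdeal.isMaximal A)
  rw [← hreg]
  have hfinsum : ∑ p, g p ≠ ⊤ := WithTop.sum_ne_top.2 fun p _ => (hfin p).1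
  constructor
  · intro h
    have h0 : Len90.kerLen (LinearMap.lsmul A M t) = 0 := by
      have hx : Len90.kerLen (LinearMap.lsmul A M t) + ∑ p, g p ≤ 0 + ∑ p, g p := by
        rw [zero_add]
        conv_rhs => rw [h]
        gcongr with p
        exact hle p
      exact le_bot_iff.mp ((ENat.add_le_add_iff_right hfinsum).mp hx)
    rw [h0, zero_add] at h
    refine ⟨h0, fun p hp => (hone p).mp ?_⟩
    by_contra hne
    have hlt : g p < g p * l p := by
      have hg : 1 ≤ g p := by
        have : p.1.IsPrime := p.2.1.1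
        exact Order.one_le_iff_pos.mpr Module.length_pos
      have h2 : 2 ≤ l p := Order.add_one_le_of_lt (lt_of_le_of_ne (hl p) (Ne.symm hne))
      calc g p < g p + g p := by
              conv_lhs => rw [← add_zero (g p)]
              exact (ENat.add_lt_add_iff_left (hfin p).1).mpr (Order.one_le_iff_pos.mp hg)
        _ = g p * 2 := by rw [mul_two]
        _ ≤ g p * l p := by gcongr
    refine absurd h (ne_of_lt ?_)
    rw [← Finset.sum_erase_add _ _ (Finset.mem_univ p),
      ← Finset.sum_erase_add (f := fun q => g q * l q) _ (Finset.mem_univ p)]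
    refine lt_of_lt_of_le ((ENat.add_lt_add_iff_left ?_).mpr hlt) ?_
    · exact WithTop.sum_ne_top.2 fun q _ => (hfin q).1
    · gcongr with q
      exact hle q
  · rintro ⟨h0, hall⟩
    rw [h0, zero_add]
    refine Finset.sum_congr rfl fun p _ => ?_
    by_cases hp : g p = 0
    · change g p = g p * l p
      rw [hp, zero_mul]
    · change g p = g p * l p
      rw [(hone p).mpr (hall p ?_), mul_one]
      have : p.1.IsPrime := p.2.1.1
      exact Module.length_pos_iff.mp (pos_iff_ne_zero.mpr hp)

end Groth.Agent.FBase64.AssLen
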