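import Groth.Agent.FBase64.RestrictStalk
import Groth.Agent.FBase64.AssSheaf3
import Groth.Agent.QC70.Hom
import Groth.Agent.QC70.FiniteType
import Groth.Agent.QCqs72.Basic
import Mathlib.AlgebraicGeometry.IdealSheaf.Subscheme

/-! Associated points and monomorphisms from the structure sheaf of a point closure. -/

set_option autoImplicit false
set_option linter.style.haveILetI false
set_option backward.isDefEq.respectTransparency.types false
universe u

open CategoryTheory CategoryTheory.Limits AlgebraicGeometry TopologicalSpace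

namespace Groth.Agent.FBase64.AssSheaf

open QC70 Div89

variable {X : Scheme.{u}}

/-- The reduced closed subscheme on the closure of a point. -/
noncomputable abbrev closurePt (x : X) : X.IdealSheafData :=
  Scheme.IdealSheafData.vanishingIdeal ⟨closure {x}, isClosed_closure⟩

/-- Its structure sheaf as a module on `X`. -/
noncomputable abbrev closureMod (x : X) : X.Modules :=
  (Scheme.Modules.pushforward (closurePt x).subschemeι).obj (Coh.structureModule (closurePt x).subscheme)

theorem ideal_closurePt (x : X) (V : X.affineOpens) (hxV : x ∈ V.1) :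
    (closurePt x).ideal V = primeAt V x hxV := by
  have hV : IsAffineOpen V.1 := V.2
  show PrimeSpectrum.vanishingIdeal (hV.fromSpec ⁻¹' closure {x}) = _
  have h2 : hV.fromSpec ⁻¹' ({x} : Set X) = {hV.primeIdealOf ⟨x, hxV⟩} := by
    ext q
    constructor
    · intro hq
      exact hV.fromSpec.isOpenEmbedding.injective
        ((Set.mem_singleton_iff.mp hq).trans (hV.fromSpec_primeIdealOf ⟨x, hxV⟩).symm)
    · intro hq
      rw [Set.mem_singleton_iff.mp hq]
      exact hV.fromSpec_primeIdealOf ⟨x, hxV⟩
  refine (congrArg PrimeSpectrum.vanishingIdeal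
    ((hV.fromSpec.isOpenEmbedding.isOpenMap.preimage_closure_eq_closure_preimage hV.fromSpec.continuous _).trans
      (congrArg closure h2))).trans ?_
  exact (PrimeSpectrum.vanishingIdeal_closure _).trans (PrimeSpectrum.vanishingIdeal_singleton _)

/-- The projection on sections. -/
noncomputable def toClosureSections (x : X) (V : X.Opens) :
    Γ(X, V) →ₗ[Γ(X, V)] Γ(closureMod x, V) where
  toFun a := show Γ(closureMod x, V) from toUnit ((closurePt x).subschemeι.app V a)
  map_add' a b := map_add ((closurePt x).subschemeι.app V).hom a b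
  map_smul' a b := map_mul ((closurePt x).subschemeι.app V).hom a b

theorem toClosureSections_surjective (x : X) (V : X.affineOpens) :
    Function.Surjective (toClosureSections x V.1) :=
  fun s => (closurePt x).subschemeι_app_surjective V s

theorem ker_toClosureSections (x : X) (V : X.affineOpens) (hxV : x ∈ V.1) :
    LinearMap.ker (toClosureSections x V.1) = primeAt V x hxV := by
  rw [← ideal_closurePt x V hxV, ← (closurePt x).ker_subschemeι_app V]
  rfl

theorem isQCoh_closureMod (x : X) : (closureMod x).IsQuasicoherent :=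
  haveI : (Coh.structureModule (closurePt x).subscheme).IsQuasicoherent := QC70.isQuasicoherent_unit
  QCqs72.isQuasicoherent_pushforward (M := Coh.structureModule (closurePt x).subscheme) (closurePt x).subschemeι

theorem mem_ass_closureMod [IsLocallyNoetherian X] (x : X) : x ∈ AssSch.Ass (closureMod x) := by
  obtain ⟨U, hxU⟩ := exists_affine_mem x
  rw [mem_ass_iff_associated _ (isQCoh_closureMod x) U x hxU]
  haveI := primeAt_isPrime U x hxU
  haveI : IsNoetherianRing Γ(X, U.1) := IsLocallyNoetherian.component_noetherian U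
  refine isAssociatedPrime_iff.mpr ⟨inferInstance, toClosureSections x U.1 1, ?_⟩
  ext a
  rw [Submodule.mem_colon_singleton, Submodule.mem_bot, ← map_smul, smul_eq_mul, mul_one,
    ← LinearMap.mem_ker, ker_toClosureSections x U hxU]

theorem exists_mono_of_mem_ass [IsLocallyNoetherian X] (F : X.Modules) (hF : Coh.IsQCoh F) (x : X)
    (hx : x ∈ AssSch.Ass F) :
    ∃ (U : X.Opens), x ∈ U ∧
      ∃ φ : (Scheme.Modules.pullback U.ι).obj (closureMod x) ⟶ (Scheme.Modules.pullback U.ι).obj F, Mono φ := by
  haveI : F.IsQuasicoherent := hF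
  haveI := isQCoh_closureMod x
  obtain ⟨U, hxU⟩ := exists_affine_mem x
  rw [mem_ass_iff_associated F hF U x hxU] at hx
  haveI : IsNoetherianRing Γ(X, U.1) := IsLocallyNoetherian.component_noetherian U
  obtain ⟨-, m, hm⟩ := isAssociatedPrime_iff.mp hx
  -- the map on sections
  let μ : Γ(X, U.1) →ₗ[Γ(X, U.1)] Γ(F, U.1) := LinearMap.toSpanSingleton Γ(X, U.1) Γ(F, U.1) m
  have hμ : LinearMap.ker (toClosureSections x U.1) = LinearMap.ker μ := by
    rw [ker_toClosureSections x U hxU, hm]
    ext a
    rw [Submodule.mem_colon_singleton, Submodule.mem_bot, LinearMap.mem_ker]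
    rfl
  let e := (toClosureSections x U.1).quotKerEquivOfSurjective (toClosureSections_surjective x U)
  let l : Γ(closureMod x, U.1) →ₗ[Γ(X, U.1)] Γ(F, U.1) :=
    ((LinearMap.ker (toClosureSections x U.1)).liftQ μ hμ.le).comp e.symm.toLinearMap
  have hl : Function.Injective l := by
    show Function.Injective ((LinearMap.ker (toClosureSections x U.1)).liftQ μ hμ.le ∘ e.symm)
    exact (LinearMap.ker_eq_bot.mp (Submodule.ker_liftQ_eq_bot _ _ _ hμ.ge)).comp e.symm.injective
  let Φ := HomOn.ofLinear U.2 (M := closureMod x) (N := F) l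
  have hinj : ∀ (W : X.Opens) (hW : W ≤ U.1) (s : Γ(closureMod x, W)), Φ.app W hW s = 0 → s = 0 := by
    intro W hW s hs
    refine section_ext (closureMod x) _ _ fun p hp => ?_
    obtain ⟨f, hfW, hpf⟩ := U.2.exists_basicOpen_le (V := W) ⟨p, hp⟩ (hW hp)
    refine ⟨X.basicOpen f, hfW, hpf, ?_⟩
    have hlocM := isLocAt_of_isQuasicoherent (closureMod x) U.2
    have hlocF := isLocAt_of_isQuasicoherent F U.2
    obtain ⟨n, t, ht⟩ := hlocM.exists_of f (res (closureMod x) hfW s)
    have h1 : res F (X.basicOpen_le f) (l t) = 0 := by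
      rw [← HomOn.ofLinear_app_self U.2 (M := closureMod x) (N := F) l,
        ← Φ.app_res le_rfl (X.basicOpen_le f) t, ht, map_smul, Φ.app_res hW hfW s, hs, res_zero, smul_zero]
    obtain ⟨N, hN⟩ := hlocF.eq_zero_of f (l t) h1
    have h2 : f ^ N • t = 0 := hl (by rw [map_smul, hN, map_zero])
    have hu : IsUnit (resO X (X.basicOpen_le f) f) := by
      have := RingedSpace.isUnit_res_basicOpen X.toRingedSpace f
      exact this
    have h3 := congrArg (res (closureMod x) (X.basicOpen_le f)) h2
    rw [res_pow_smul, res_zero, (hu.pow N).smul_eq_zero, ht, (hu.pow n).smul_eq_zero] at h3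
    rw [h3, res_zero]
  refine ⟨U.1, hxU, ((Scheme.Modules.restrictFunctorIsoPullback U.1.ι).app (closureMod x)).inv ≫
    Φ.toRestrictHom ≫ ((Scheme.Modules.restrictFunctorIsoPullback U.1.ι).app F).hom, ?_⟩
  haveI : Mono Φ.toRestrictHom := mono_of_app_injective _ fun W => by
    refine (injective_iff_map_eq_zero _).mpr fun s hs => ?_
    exact hinj _ (HomOn.range_le W) ((Scheme.Modules.restrictAppIso U.1.ι (closureMod x) W).hom s) hs
  infer_instance

theorem mem_ass_of_mono [IsLocallyNoetherian X] (F : X.Modules) (x : X) (U : X.Opens) (hxU : x ∈ U)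
    (φ : (Scheme.Modules.pullback U.ι).obj (closureMod x) ⟶ (Scheme.Modules.pullback U.ι).obj F) [Mono φ] :
    x ∈ AssSch.Ass F := by
  have h : U.ι ⟨x, hxU⟩ = x := rfl
  rw [← h, ← mem_ass_pullback_iff U.ι F]
  refine IsAssociatedPrime.map_of_injective (f := stalkLinear φ _) ?_ (injective_stalkMapM_of_mono φ _)
  show (⟨x, hxU⟩ : (U : Scheme.{u})) ∈ AssSch.Ass ((Scheme.Modules.pullback U.ι).obj (closureMod x))
  exact (mem_ass_pullback_iff U.ι _ _).mpr (mem_ass_closureMod x)

end Groth.Agent.FBase64.AssSheaf
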