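import Groth.Agent.FBase64.AssLen
import Groth.Agent.LC17.KGood
import Mathlib.RingTheory.KrullDimension.Module

/-! Passing to the quotient by the annihilator. -/

universe u

namespace Groth.Agent.FBase64.AssQuot

open Module

variable {B : Type u} [CommRing B]

/-- Lengths of localisations at minimal primes of the kernel are insensitive to the base. -/
lemma locLen_of_surjective {A : Type u} [CommRing A] [IsNoetherianRing A] [Algebra B A]
    (hs : Function.Surjective (algebraMap B A)) (p : Ideal A) [p.IsPrime] (hp : p ∈ minimalPrimes A)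
    (M : Type u) [AddCommGroup M] [Module A M] [Module B M] [IsScalarTower B A M] [Module.Finite A M] :
    Len90.locLen (p.comap (algebraMap B A)) M = Len90.locLen p M := by
  revert ‹Module B M›
  induction ‹Module.Finite A M› using IsNoetherianRing.induction_on_isQuotientEquivQuotientPrime with
  | subsingleton N =>
    intro _ _
    have : Subsingleton (LocalizedModule p.primeCompl N) :=
      ⟨fun x y => by induction x, y using LocalizedModule.induction_on₂ with
        | h a b s t => exact LocalizedModule.mk_eq.mpr ⟨1, Subsingleton.elim _ _⟩⟩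
    have : Subsingleton (LocalizedModule (p.comap (algebraMap B A)).primeCompl N) :=
      ⟨fun x y => by induction x, y using LocalizedModule.induction_on₂ with
        | h a b s t => exact LocalizedModule.mk_eq.mpr ⟨1, Subsingleton.elim _ _⟩⟩
    simp [Len90.locLen]
  | quotient N P e =>
    intro _ _
    let Q := P.asIdeal.comap (algebraMap B A)
    let eB : N ≃ₗ[B] A ⧸ P.asIdeal := e.restrictScalars B
    let f : (B ⧸ Q) →ₗ[B] A ⧸ P.asIdeal := Submodule.liftQ Q
      (((Ideal.Quotient.mkₐ B P.asIdeal).toLinearMap).comp (Algebra.linearMap B A)) (fun x hx => by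
        simp only [LinearMap.mem_ker, LinearMap.comp_apply, Algebra.linearMap_apply]
        exact Ideal.Quotient.eq_zero_iff_mem.mpr hx)
    have hf : Function.Bijective f := by
      constructor
      · rw [← LinearMap.ker_eq_bot]
        refine Submodule.ker_liftQ_eq_bot _ _ _ fun x hx => ?_
        simp only [LinearMap.mem_ker, LinearMap.comp_apply, Algebra.linearMap_apply] at hx
        exact Ideal.mem_comap.mpr (Ideal.Quotient.eq_zero_iff_mem.mp hx)
      · intro y
        obtain ⟨a, rfl⟩ := Ideal.Quotient.mk_surjective y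
        obtain ⟨b, rfl⟩ := hs a
        exact ⟨Submodule.Quotient.mk b, rfl⟩
    rw [Len90.locLen_congr _ (eB.trans (LinearEquiv.ofBijective f hf).symm), Len90.locLen_congr p e]
    by_cases h : P.asIdeal ≤ p
    · have hPp : P.asIdeal = p := le_antisymm h (hp.2 ⟨P.isPrime, bot_le⟩ h)
      subst hPp
      rw [Len90.locLen_quot_self, Len90.locLen_quot_self]
    · rw [Len90.locLen_quot_of_not_le p _ h]
      refine Len90.locLen_quot_of_not_le _ _ fun h' => h fun a ha => ?_
      obtain ⟨b, rfl⟩ := hs a
      exact h' ha
  | exact N₁ N₂ N₃ f g hf hg hfg h1 h3 =>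
    intro _ _
    letI : Module B N₁ := Module.compHom N₁ (algebraMap B A)
    letI : Module B N₃ := Module.compHom N₃ (algebraMap B A)
    have : IsScalarTower B A N₁ := ⟨fun b a x => by
      rw [Algebra.smul_def, mul_smul]; rfl⟩
    have : IsScalarTower B A N₃ := ⟨fun b a x => by
      rw [Algebra.smul_def, mul_smul]; rfl⟩
    rw [Len90.locLen_exact p f g hf hg hfg,
      Len90.locLen_exact (p.comap (algebraMap B A)) (f.restrictScalars B) (g.restrictScalars B) hf hg hfg,
      h1, h3]

variable [IsNoetherianRing B] [IsLocalRing B]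

/-- The inequality over an arbitrary Noetherian local ring. -/
theorem length_ineq_general (t : B) (ht : t ∈ IsLocalRing.maximalIdeal B)
    (M : Type u) [AddCommGroup M] [Module B M] [Module.Finite B M]
    (hdim : 0 < Module.supportDim B M)
    (hfin : Module.length B (M ⧸ (Ideal.span {t} • (⊤ : Submodule B M))) ≠ ⊤) :
    (∑ᶠ p : (Module.annihilator B M).minimalPrimes,
        haveI : p.1.IsPrime := p.2.1.1
        Module.length (Localization.AtPrime p.1) (LocalizedModule p.1.primeCompl M)) ≤
      Module.length B (M ⧸ (Ideal.span {t} • (⊤ : Submodule B M))) ∧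
    ((∑ᶠ p : (Module.annihilator B M).minimalPrimes,
        haveI : p.1.IsPrime := p.2.1.1
        Module.length (Localization.AtPrime p.1) (LocalizedModule p.1.primeCompl M)) =
      Module.length B (M ⧸ (Ideal.span {t} • (⊤ : Submodule B M))) ↔
    IsSMulRegular M t ∧
      ∀ p : (Module.annihilator B M).minimalPrimes,
        Ideal.map (Ideal.Quotient.mk p.1) (IsLocalRing.maximalIdeal B) =
          Ideal.span {Ideal.Quotient.mk p.1 t}) := by
  let I := Module.annihilator B M
  have : Nontrivial M := by
    rw [← not_subsingleton_iff_nontrivial]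
    intro h
    rw [Module.supportDim_eq_bot_of_subsingleton] at hdim
    exact absurd hdim (by simp)
  let A := B ⧸ I
  letI : Module A M := (Module.isTorsionBySet_annihilator B M).module
  have : IsScalarTower B A M := (Module.isTorsionBySet_annihilator B M).isScalarTower
  have : Module.Finite A M := Module.Finite.of_restrictScalars_finite B A M
  have hsurj : Function.Surjective (algebraMap B A) := Ideal.Quotient.mk_surjective
  have hI : I ≤ IsLocalRing.maximalIdeal B := IsLocalRing.le_maximalIdeal (by
    rw [Ne, Ideal.eq_top_iff_one, Module.mem_annihilator]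
    intro h
    obtain ⟨x, hx⟩ := exists_ne (0 : M)
    exact hx (by simpa using h x))
  have : Nontrivial A := Ideal.Quotient.nontrivial_iff.mpr fun h => by
    exact (IsLocalRing.maximalIdeal.isMaximal B).ne_top (top_le_iff.mp (h ▸ hI))
  have : IsLocalRing A := IsLocalRing.of_surjective' (Ideal.Quotient.mk I) Ideal.Quotient.mk_surjective
  have hdimA : 0 < ringKrullDim A := Module.supportDim_eq_ringKrullDim_quotient_annihilator (R := B) (M := M) ▸ hdim
  let t' : A := Ideal.Quotient.mk I t
  have htA : t' ∈ IsLocalRing.maximalIdeal A := by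
    rw [IsLocalRing.mem_maximalIdeal, mem_nonunits_iff]
    intro hu
    obtain ⟨u, hu⟩ := hu.exists_right_inv
    obtain ⟨c, rfl⟩ := Ideal.Quotient.mk_surjective u
    rw [← map_mul, ← (Ideal.Quotient.mk I).map_one, Ideal.Quotient.eq] at hu
    refine (IsLocalRing.maximalIdeal.isMaximal B).ne_top ((Ideal.eq_top_iff_one _).mpr ?_)
    simpa using Ideal.sub_mem _ ((IsLocalRing.maximalIdeal B).mul_mem_right c ht) (hI hu)
  have hsm : ∀ x : M, t' • x = t • x := fun x => IsScalarTower.algebraMap_smul A t x
  have hsub : ∀ x : M, x ∈ Ideal.span {t'} • (⊤ : Submodule A M) ↔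
      x ∈ Ideal.span {t} • (⊤ : Submodule B M) := fun x => by
    simp only [AssAlg.mem_span_smul_top, hsm]
  have hlen : Module.length A (M ⧸ (Ideal.span {t'} • (⊤ : Submodule A M))) =
      Module.length B (M ⧸ (Ideal.span {t} • (⊤ : Submodule B M))) := by
    rw [← Module.length_eq_of_surjective (R := A) (S := B) hsurj]
    refine (Submodule.Quotient.restrictScalarsEquiv B (Ideal.span {t'} • (⊤ : Submodule A M))).symm.trans
      (Submodule.quotEquivOfEq _ _ ?_) |>.length_eq
    ext x
    exact hsub x
  have hart : IsArtinianRing (A ⧸ Ideal.span {t'}) := by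
    rw [isArtinianRing_iff_krullDimLE_zero, Ring.krullDimLE_zero_iff]
    intro Q hQ
    let φ := (Ideal.Quotient.mk (Ideal.span {t'})).comp (Ideal.Quotient.mk I)
    have hφ : Function.Surjective φ :=
      Ideal.Quotient.mk_surjective.comp Ideal.Quotient.mk_surjective
    have hq : (Q.comap φ).IsMaximal := by
      refine LC17.isMaximal_of_mem_support (p := ⟨Q.comap φ, inferInstance⟩)
        (Module.length_ne_top_iff.mp hfin) ?_
      rw [Module.support_quotient, Set.mem_inter_iff, Module.support_eq_zeroLocus,
        PrimeSpectrum.mem_zeroLocus, PrimeSpectrum.mem_zeroLocus]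
      refine ⟨fun a ha => ?_, ?_⟩
      · simp [φ, Ideal.Quotient.eq_zero_iff_mem.mpr (show a ∈ I from ha)]
      · rw [SetLike.coe_subset_coe, Ideal.span_singleton_le_iff_mem, Ideal.mem_comap]
        simp only [φ, RingHom.comp_apply]
        rw [Ideal.Quotient.eq_zero_iff_mem.mpr (Ideal.mem_span_singleton_self t')]
        exact Q.zero_mem
    rw [← Ideal.map_comap_of_surjective φ hφ Q]
    exact Ideal.IsMaximal.map_of_surjective_of_ker_le hφ (Ideal.ker_le_comap φ)
  obtain ⟨h1, h2⟩ := AssLen.length_ineq M hdimA t' htA hart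
  let e : minimalPrimes A → I.minimalPrimes := fun p => ⟨p.1.comap (Ideal.Quotient.mk I), by
    rw [Ideal.minimalPrimes_eq_comap]; exact ⟨p.1, p.2, rfl⟩⟩
  have he : Function.Bijective e := by
    refine ⟨fun p q h => Subtype.ext (Ideal.comap_injective_of_surjective _
      Ideal.Quotient.mk_surjective (congrArg Subtype.val h)), fun q => ?_⟩
    obtain ⟨p, hp, hpq⟩ : q.1 ∈ Ideal.comap (Ideal.Quotient.mk I) '' minimalPrimes A :=
      (Set.ext_iff.mp Ideal.minimalPrimes_eq_comap q.1).mp q.2
    exact ⟨⟨p, hp⟩, Subtype.ext hpq⟩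
  have hsum : (∑ᶠ p : minimalPrimes A,
        haveI : p.1.IsPrime := p.2.1.1
        Module.length (Localization.AtPrime p.1) (LocalizedModule p.1.primeCompl M)) =
      ∑ᶠ p : I.minimalPrimes,
        haveI : p.1.IsPrime := p.2.1.1
        Module.length (Localization.AtPrime p.1) (LocalizedModule p.1.primeCompl M) := by
    refine finsum_eq_of_bijective e he fun p => ?_
    have : p.1.IsPrime := p.2.1.1
    exact (locLen_of_surjective (B := B) hsurj p.1 p.2 M).symm
  have hmap : ∀ {R : Type u} [CommRing R] [IsLocalRing R] (p : Ideal R), p ≠ ⊤ → ∀ x : R,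
      (Ideal.map (Ideal.Quotient.mk p) (IsLocalRing.maximalIdeal R) =
        Ideal.span {Ideal.Quotient.mk p x} ↔ IsLocalRing.maximalIdeal R = p ⊔ Ideal.span {x}) := by
    intro R _ _ p hp x
    rw [← Set.image_singleton, ← Ideal.map_span]
    constructor
    · intro h
      have := congrArg (Ideal.comap (Ideal.Quotient.mk p)) h
      simp only [Ideal.comap_map_of_surjective _ Ideal.Quotient.mk_surjective] at this
      rw [show Ideal.comap (Ideal.Quotient.mk p) ⊥ = p from Ideal.mk_ker] at this
      rwa [sup_eq_left.mpr (IsLocalRing.le_maximalIdeal hp), sup_comm] at this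
    · intro h
      rw [h, Ideal.map_sup, Ideal.map_quotient_self, bot_sup_eq]
  have hcond : ∀ p : minimalPrimes A,
      (Ideal.map (Ideal.Quotient.mk p.1) (IsLocalRing.maximalIdeal A) =
          Ideal.span {Ideal.Quotient.mk p.1 t'}) ↔
      (Ideal.map (Ideal.Quotient.mk (e p).1) (IsLocalRing.maximalIdeal B) =
          Ideal.span {Ideal.Quotient.mk (e p).1 t}) := fun p => by
    rw [hmap _ p.2.1.1.ne_top, hmap _ (e p).2.1.1.ne_top]
    have hc : (p.1 ⊔ Ideal.span {t'}).comap (Ideal.Quotient.mk I) = (e p).1 ⊔ Ideal.span {t} := by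
      conv_lhs => rw [← Ideal.map_comap_of_surjective (Ideal.Quotient.mk I) Ideal.Quotient.mk_surjective p.1,
        show Ideal.span {t'} = (Ideal.span {t}).map (Ideal.Quotient.mk I) by
          rw [Ideal.map_span, Set.image_singleton], ← Ideal.map_sup]
      rw [Ideal.comap_map_of_surjective _ Ideal.Quotient.mk_surjective]
      exact sup_eq_left.mpr (le_trans (Ideal.comap_mono bot_le) le_sup_left)
    have hm : (IsLocalRing.maximalIdeal A).comap (Ideal.Quotient.mk I) = IsLocalRing.maximalIdeal B :=
      IsLocalRing.eq_maximalIdeal (Ideal.comap_isMaximal_of_surjective _ Ideal.Quotient.mk_surjective)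
    rw [← hm, ← hc]
    exact ⟨fun h => by rw [h], fun h => Ideal.comap_injective_of_surjective _
      Ideal.Quotient.mk_surjective h⟩
  have hnt : ∀ p : minimalPrimes A,
      (haveI : p.1.IsPrime := p.2.1.1
       Nontrivial (LocalizedModule p.1.primeCompl M)) := fun p => by
    have : p.1.IsPrime := p.2.1.1
    refine Module.mem_support_iff (p := ⟨p.1, this⟩).mp (Module.mem_support_iff_of_finite.mpr ?_)
    intro a ha
    obtain ⟨b, rfl⟩ := Ideal.Quotient.mk_surjective a
    have hb : b ∈ I := Module.mem_annihilator.mpr fun x => by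
      have := Module.mem_annihilator.mp ha x
      exact (IsScalarTower.algebraMap_smul A b x).symm.trans this
    rw [Ideal.Quotient.eq_zero_iff_mem.mpr hb]
    exact p.1.zero_mem
  have hregiff : IsSMulRegular M t' ↔ IsSMulRegular M t := by
    simp only [IsSMulRegular, Function.Injective, hsm]
  rw [← hsum, ← hlen]
  refine ⟨h1, h2.trans ?_⟩
  rw [hregiff]
  refine and_congr_right fun _ => ⟨fun h q => ?_, fun h p _ => (hcond p).mpr (h (e p))⟩
  obtain ⟨p, rfl⟩ := he.2 q
  exact (hcond p).mp (h p (hnt p))

end Groth.Agent.FBase64.AssQuot
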