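import Groth.Agent.FBase64.PointCmp
import Groth.Agent.SchBasics.Reduced
import Mathlib.AlgebraicGeometry.IdealSheaf.Functorial

/-! Closed subsets and reduced ideals under a separable extension of the base field. -/

set_option autoImplicit false
set_option linter.style.haveILetI false
set_option backward.isDefEq.respectTransparency.types false
universe u

open CategoryTheory CategoryTheory.Limits AlgebraicGeometry TensorProduct

namespace Groth.Agent.FBase64

theorem isGeometricallyReduced_of_specMap {k K : Type u} [Field k] [Field K] [Algebra k K]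
    [h : GeometricallyReduced (Spec.map (CommRingCat.ofHom (algebraMap k K)))] :
    Algebra.IsGeometricallyReduced k K := by
  haveI : AlgebraicGeometry.IsReduced (pullback (Spec.map (CommRingCat.ofHom (algebraMap k K)))
      (Spec.map (CommRingCat.ofHom (algebraMap k (AlgebraicClosure k))))) :=
    GeometricallyReduced.geometrically_isReduced (Spec.map (CommRingCat.ofHom (algebraMap k (AlgebraicClosure k))))
      (pullback.fst _ _) (pullback.snd _ _) (IsPullback.of_hasPullback _ _)
  haveI : AlgebraicGeometry.IsReduced (Spec (CommRingCat.of (K ⊗[k] AlgebraicClosure k))) :=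
    isReduced_of_isOpenImmersion (pullbackSpecIso k K (AlgebraicClosure k)).inv
  haveI : _root_.IsReduced (K ⊗[k] AlgebraicClosure k) := (affine_isReduced_iff _).mp this
  rw [Algebra.isGeometricallyReduced_field_iff]
  exact isReduced_of_injective (Algebra.TensorProduct.comm k (AlgebraicClosure k) K)
    (Algebra.TensorProduct.comm k (AlgebraicClosure k) K).injective

variable {k : Type u} [Field k] {Y : Scheme.{u}} (f : Y ⟶ Spec (CommRingCat.of k))
  (K : Type u) [Field K] [Algebra k K] [GeometricallyReduced (Spec.map (CommRingCat.ofHom (algebraMap k K)))]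

theorem comap_vanishingIdeal (T' : TopologicalSpace.Closeds Y) :
    (Scheme.IdealSheafData.vanishingIdeal T').comap
        (pullback.fst f (Spec.map (CommRingCat.ofHom (algebraMap k K)))) =
      Scheme.IdealSheafData.vanishingIdeal
        (T'.preimage (pullback.fst f (Spec.map (CommRingCat.ofHom (algebraMap k K)))).continuous) := by
  let g := Spec.map (CommRingCat.ofHom (algebraMap k K))
  let ι := (Scheme.IdealSheafData.vanishingIdeal T').subschemeι
  haveI := SchBasics.isReduced_vanishingIdeal_subscheme T'
  haveI := isGeometricallyReduced_of_specMap (k := k) (K := K)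
  haveI : AlgebraicGeometry.IsReduced (FBase.bc (ι ≫ f) K) := isReduced_bc_of_geomReducedField (ι ≫ f) K
  let e : pullback (pullback.fst f g) ι ≅ FBase.bc (ι ≫ f) K :=
    pullbackSymmetry _ _ ≪≫ pullbackRightPullbackFstIso _ _ _
  haveI : AlgebraicGeometry.IsReduced (pullback (pullback.fst f g) ι) := isReduced_of_isOpenImmersion e.hom
  show (pullback.fst (pullback.fst f g) ι).ker = _
  rw [SchBasics.ker_of_isReduced_of_isClosedImmersion (pullback.fst (pullback.fst f g) ι)]
  congr 1
  ext1
  show Set.range (pullback.fst (pullback.fst f g) ι) = _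
  rw [Scheme.Pullback.range_fst]
  exact congrArg (_ ⁻¹' ·) (SchBasics.range_vanishingIdeal_subschemeι T')

theorem exists_preimage_iff_comap (T : TopologicalSpace.Closeds ↥(FBase.bc f K)) :
    (∃ T' : TopologicalSpace.Closeds ↥Y, (T : Set ↥(FBase.bc f K)) = ⇑(FBase.bcπ f K) ⁻¹' (T' : Set ↥Y)) ↔
      ∃ J : Y.IdealSheafData, J.comap (FBase.bcπ f K) = Scheme.IdealSheafData.vanishingIdeal T := by
  constructor
  · rintro ⟨T', hT⟩
    refine ⟨Scheme.IdealSheafData.vanishingIdeal T', (comap_vanishingIdeal f K T').trans ?_⟩
    exact congrArg Scheme.IdealSheafData.vanishingIdeal (SetLike.coe_injective hT.symm)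
  · rintro ⟨J, hJ⟩
    refine ⟨J.support, ?_⟩
    rw [← Scheme.IdealSheafData.coe_support_vanishingIdeal T, ← hJ, Scheme.IdealSheafData.support_comap]
    rfl

end Groth.Agent.FBase64
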