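import Mathlib.Topology.Connected.TotallyDisconnected
import Mathlib.Topology.Sober
import Mathlib.SetTheory.Cardinal.NatCard

/-!
Finiteness of connected components; maximal points.
-/

universe u

namespace Groth.Agent.FBase64

variable {A : Type u} [TopologicalSpace A]

/-- If every nonempty clopen contains one of finitely many nonempty sets, there are finitely many
connected components, all clopen. -/
theorem connectedComponents_finite_of_pieces {ι : Type*} [Finite ι] (T : ι → Set A)
    (h : ∀ U : Set A, IsClopen U → U.Nonempty → ∃ i, (T i).Nonempty ∧ T i ⊆ U) :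
    Finite (ConnectedComponents A) ∧ Nat.card (ConnectedComponents A) ≤ Nat.card ι ∧
      ∀ a : A, IsClopen (connectedComponent a) := by
  classical
  let key : {U : Set A // IsClopen U} → Set ι := fun U => {i | T i ⊆ U.1}
  have hle : ∀ U V : {U : Set A // IsClopen U}, key U ⊆ key V → U.1 ⊆ V.1 := by
    intro U V hUV a ha
    by_contra hV
    obtain ⟨i, ⟨b, hb⟩, hi⟩ := h (U.1 ∩ V.1ᶜ) (U.2.inter V.2.compl) ⟨a, ha, hV⟩
    exact (hi hb).2 (hUV (fun c hc => (hi hc).1 : T i ⊆ U.1) hb)
  have : Finite {U : Set A // IsClopen U} := Finite.of_injective key fun U V hUV =>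
    Subtype.ext ((hle U V hUV.le).antisymm (hle V U hUV.ge))
  have hclopen : ∀ a : A, IsClopen (connectedComponent a) := by
    intro a
    let V : Set A := ⋂ U ∈ {U : Set A | IsClopen U ∧ a ∈ U}, U
    have hfin : {U : Set A | IsClopen U ∧ a ∈ U}.Finite :=
      Set.Finite.subset ((Set.toFinite (Set.univ : Set {U : Set A // IsClopen U})).image Subtype.val)
        fun U hU => ⟨⟨U, hU.1⟩, trivial, rfl⟩
    have hV : IsClopen V := hfin.isClopen_biInter fun U hU => hU.1
    have haV : a ∈ V := Set.mem_iInter₂.mpr fun U hU => hU.2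
    have hVc : IsPreconnected V := by
      rw [isPreconnected_iff_preconnectedSpace, preconnectedSpace_iff_clopen]
      intro U hU
      have himg : IsClopen (Subtype.val '' U) :=
        ⟨hV.1.isClosedEmbedding_subtypeVal.isClosedMap _ hU.1,
          hV.2.isOpenEmbedding_subtypeVal.isOpenMap _ hU.2⟩
      by_cases haU : (⟨a, haV⟩ : V) ∈ U
      · refine Or.inr (Set.eq_univ_of_forall fun x => ?_)
        obtain ⟨y, hy, hxy⟩ := Set.mem_iInter₂.mp x.2 (Subtype.val '' U) ⟨himg, ⟨_, haU, rfl⟩⟩
        exact Subtype.ext hxy ▸ hy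
      · refine Or.inl (Set.eq_empty_of_forall_notMem fun x hx => ?_)
        have hW : IsClopen (V ∩ (Subtype.val '' U)ᶜ) := hV.inter himg.compl
        have := Set.mem_iInter₂.mp x.2 _ ⟨hW, haV, fun ⟨y, hy, hya⟩ =>
          haU ((Subtype.ext hya : y = ⟨a, haV⟩) ▸ hy)⟩
        exact this.2 ⟨x, hx, rfl⟩
    have : connectedComponent a = V :=
      (Set.subset_iInter₂ fun U hU => hU.1.connectedComponent_subset hU.2).antisymm
        (hVc.subset_connectedComponent haV)
    rw [this]; exact hV
  let J := {i : ι // (T i).Nonempty}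
  let g : J → ConnectedComponents A := fun i => ConnectedComponents.mk i.2.some
  have hg : Function.Surjective g := fun c => by
    obtain ⟨a, rfl⟩ := ConnectedComponents.surjective_coe c
    obtain ⟨i, hi, hsub⟩ := h _ (hclopen a) ⟨a, mem_connectedComponent⟩
    exact ⟨⟨i, hi⟩, ConnectedComponents.coe_eq_coe'.mpr (hsub hi.some_mem)⟩
  exact ⟨Finite.of_surjective g hg, (Nat.card_le_card_of_surjective g hg).trans
    (Nat.card_le_card_of_injective _ Subtype.val_injective), hclopen⟩

theorem isClopen_connectedComponent_of_finite [Finite (ConnectedComponents A)] (a : A) :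
    IsClopen (connectedComponent a) := by
  refine ⟨isClosed_connectedComponent, ?_⟩
  have : (connectedComponent a)ᶜ =
      ⋃ c ∈ {c : ConnectedComponents A | c ≠ ConnectedComponents.mk a}, ConnectedComponents.mk ⁻¹' {c} := by
    ext b
    simp only [Set.mem_compl_iff, Set.mem_iUnion, Set.mem_preimage, Set.mem_singleton_iff,
      exists_prop, Set.mem_ofPred_eq]
    constructor
    · exact fun hb => ⟨_, fun h => hb (ConnectedComponents.coe_eq_coe'.mp h), rfl⟩
    · rintro ⟨c, hc, rfl⟩ hb
      exact hc (ConnectedComponents.coe_eq_coe'.mpr hb)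
  rw [← isClosed_compl_iff, this]
  refine (Set.toFinite _).isClosed_biUnion fun c _ => ?_
  obtain ⟨b, rfl⟩ := ConnectedComponents.surjective_coe c
  rw [connectedComponents_preimage_singleton]
  exact isClosed_connectedComponent

theorem closure_singleton_mem_irreducibleComponents_iff [QuasiSober A] [T0Space A] (x : A) :
    closure {x} ∈ irreducibleComponents A ↔ ∀ y, y ⤳ x → y = x := by
  constructor
  · intro h y hy
    have h1 := h.2 isIrreducible_singleton.closure (specializes_iff_closure_subset.mp hy)
    exact (Specializes.antisymm hy (specializes_iff_closure_subset.mpr h1)).eq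
  · intro h
    refine ⟨isIrreducible_singleton.closure, fun Z hZ hxZ => ?_⟩
    have hgen := hZ.closure.isGenericPoint_genericPoint isClosed_closure
    have hy : hZ.closure.genericPoint ⤳ x :=
      hgen.specializes (subset_closure (hxZ (subset_closure rfl)))
    rw [← h _ hy]
    exact subset_closure.trans hgen.symm.subset

end Groth.Agent.FBase64
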