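import Groth.Agent.FBase64.Fibre
import Groth.Agent.FBase64.TopoFinite
import Groth.Agent.FBase64.Chart
import Mathlib.FieldTheory.PrimitiveElement
import Mathlib.FieldTheory.IntermediateField.Algebraic
import Mathlib.AlgebraicGeometry.Morphisms.Flat

/-!
Connected and irreducible components of base changes to algebraic extensions.
-/

universe u

namespace Groth.Agent.FBase64

open CategoryTheory CategoryTheory.Limits AlgebraicGeometry TensorProduct

variable {k : Type u} [Field k] {X : Scheme.{u}} (f : X ⟶ Spec (CommRingCat.of k))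

/-- The fibres of `X_E → X` are discrete for algebraic `E`. -/
theorem eq_of_specializes_fst {E : Type u} [Field E] [Algebra k E] [Algebra.IsAlgebraic k E]
    {a b : ↥(pullback f (Spec.map (CommRingCat.ofHom (algebraMap k E))))} (h : a ⤳ b)
    (e : pullback.fst f (Spec.map (CommRingCat.ofHom (algebraMap k E))) a =
      pullback.fst f (Spec.map (CommRingCat.ofHom (algebraMap k E))) b) : a = b := by
  let tE := Spec.map (CommRingCat.ofHom (algebraMap k E))
  obtain ⟨A, _, _, j, _, hx, hj⟩ := exists_chart f (pullback.fst f tE b)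
  let c := prodChart f tE j (𝟙 _) hj (Category.id_comp _)
  have hb : b ∈ Set.range c := by
    rw [range_prodChart]; exact ⟨hx, ⟨_, rfl⟩⟩
  obtain ⟨Q, rfl⟩ : a ∈ Set.range c := h.mem_open c.isOpenEmbedding.isOpen_range hb
  obtain ⟨P, rfl⟩ := hb
  have hQP : Q ⤳ P := c.isOpenEmbedding.isInducing.specializes_iff.mp h
  rw [← Scheme.Hom.comp_apply, ← Scheme.Hom.comp_apply, prodChart_fst, Scheme.Hom.comp_apply,
    Scheme.Hom.comp_apply] at e
  have e' : (show PrimeSpectrum (A ⊗[k] E) from Q).asIdeal.comap (algebraMap A (A ⊗[k] E)) =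
      (show PrimeSpectrum (A ⊗[k] E) from P).asIdeal.comap (algebraMap A (A ⊗[k] E)) :=
    congrArg PrimeSpectrum.asIdeal (j.isOpenEmbedding.injective e)
  have : Algebra.IsIntegral k E := Algebra.IsAlgebraic.isIntegral
  have hle : (show PrimeSpectrum (A ⊗[k] E) from Q) ≤ (show PrimeSpectrum (A ⊗[k] E) from P) :=
    (PrimeSpectrum.le_iff_specializes _ _).mpr hQP
  rcases lt_or_eq_of_le hle with hlt | heq
  · exact absurd e' (Ideal.IsIntegral.comap_lt_comap (R := A) hlt).ne
  · exact congrArg c heq

/-- A point with a property of its residue field, as a field valued point. -/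
theorem exists_point_of_residueFieldProp {x : X} {P : ∀ (K : Type u) [Field K] [Algebra k K], Prop}
    (h : FBase.ResidueFieldProp f x P) :
    ∃ (κ : Type u) (_ : Field κ) (_ : Algebra k κ) (j : Spec (CommRingCat.of κ) ⟶ X),
      Mono j ∧ Set.range j = {x} ∧ j ≫ f = Spec.map (CommRingCat.ofHom (algebraMap k κ)) ∧ P κ := by
  obtain ⟨φ, hφ, hP⟩ := h
  let := φ.toAlgebra
  exact ⟨↥(X.residueField x), inferInstance, φ.toAlgebra, X.fromSpecResidueField x,
    (inferInstance : Mono (X.fromSpecResidueField x)), Scheme.range_fromSpecResidueField x, hφ.symm, hP⟩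

section

variable {f} {E : Type u} [Field E] [Algebra k E] {W : Scheme.{u}} {pr : W ⟶ X}
  {sn : W ⟶ Spec (CommRingCat.of E)}
  (sq : IsPullback pr sn f (Spec.map (CommRingCat.ofHom (algebraMap k E))))

include sq

theorem flat_of_isPullback : Flat pr :=
  MorphismProperty.of_isPullback sq.flip (inferInstance : Flat _)

theorem surjective_of_isPullback : Function.Surjective pr :=
  (MorphismProperty.of_isPullback sq.flip (inferInstance : Surjective _) : Surjective pr).surj

theorem isOpenMap_of_isPullback : IsOpenMap pr :=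
  have : UniversallyOpen pr := MorphismProperty.of_isPullback sq.flip (inferInstance : UniversallyOpen _)
  pr.isOpenMap

theorem isClosedMap_of_isPullback [Algebra.IsAlgebraic k E] : IsClosedMap pr := by
  have h0 : IsIntegralHom (Spec.map (CommRingCat.ofHom (algebraMap k E))) :=
    IsIntegralHom.SpecMap_iff.mpr (fun x => (Algebra.IsAlgebraic.isAlgebraic x).isIntegral)
  have : IsIntegralHom pr := MorphismProperty.of_isPullback sq.flip h0
  exact pr.isClosedMap

theorem eq_of_specializes_of_isPullback [Algebra.IsAlgebraic k E] {a b : W} (h : a ⤳ b)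
    (e : pr a = pr b) : a = b := by
  apply sq.isoPullback.hom.homeomorph.injective
  refine eq_of_specializes_fst f (h.map sq.isoPullback.hom.continuous) ?_
  show pullback.fst f _ (sq.isoPullback.hom a) = pullback.fst f _ (sq.isoPullback.hom b)
  rw [← Scheme.Hom.comp_apply, ← Scheme.Hom.comp_apply, sq.isoPullback_hom_fst]
  exact e

theorem exists_pieces_subset [IsAlgClosed E] {κ : Type u} [Field κ] [Algebra k κ]
    (j : Spec (CommRingCat.of κ) ⟶ X) (hx : j ≫ f = Spec.map (CommRingCat.ofHom (algebraMap k κ)))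
    {U : Set W} (hU : IsClopen U) {w : W} (hw : w ∈ U) (hwx : pr w ∈ Set.range j) :
    ∃ σ : separableClosure k κ →ₐ[k] E, {z : W | IsPointOf pr sn j σ z}.Nonempty ∧
      {z : W | IsPointOf pr sn j σ z} ⊆ U := by
  obtain ⟨σ, hσ⟩ := exists_isPointOf sq j hx hwx
  exact ⟨σ, ⟨w, hσ⟩, (isIrreducible_setOf_isPointOf sq j hx σ).isConnected.isPreconnected.subset_isClopen
    hU ⟨w, hσ, hw⟩⟩

/-- Finitely many connected components, bounded by the separable degrees of marked points. -/
theorem connectedComponents_finite_of_points [IsAlgClosed E] [Algebra.IsAlgebraic k E] {ι : Type*}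
    [Finite ι] (κ : ι → Type u) [∀ i, Field (κ i)] [∀ i, Algebra k (κ i)]
    (j : ∀ i, Spec (CommRingCat.of (κ i)) ⟶ X)
    (hx : ∀ i, j i ≫ f = Spec.map (CommRingCat.ofHom (algebraMap k (κ i))))
    [∀ i, FiniteDimensional k (separableClosure k (κ i))]
    (hmeet : ∀ V : Set X, IsClopen V → V.Nonempty → ∃ i, ∃ pt, j i pt ∈ V) :
    Finite (_root_.ConnectedComponents W) ∧
      Nat.card (_root_.ConnectedComponents W) ≤ Nat.card (Σ i, separableClosure k (κ i) →ₐ[k] E) ∧
      ∀ w : W, IsClopen (connectedComponent w) := by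
  refine connectedComponents_finite_of_pieces
    (fun p : Σ i, separableClosure k (κ i) →ₐ[k] E => {z : W | IsPointOf pr sn (j p.1) p.2 z}) ?_
  intro U hU hne
  obtain ⟨i, pt, w, hw, hwpt⟩ := hmeet (pr '' U)
    ⟨isClosedMap_of_isPullback sq _ hU.1, isOpenMap_of_isPullback sq _ hU.2⟩ (hne.image _)
  obtain ⟨σ, h1, h2⟩ := exists_pieces_subset sq (j i) (hx i) hU hw ⟨pt, hwpt.symm⟩
  exact ⟨⟨i, σ⟩, h1, h2⟩

/-- Over a maximal point, the pieces are single points. -/
theorem IsPointOf.eq_of_maximal [Algebra.IsAlgebraic k E] {κ : Type u} [Field κ] [Algebra k κ]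
    (j : Spec (CommRingCat.of κ) ⟶ X) (hx : j ≫ f = Spec.map (CommRingCat.ofHom (algebraMap k κ)))
    {x : X} (hr : Set.range j = {x}) (hmax : ∀ w : X, w ⤳ x → w = x)
    {σ : separableClosure k κ →ₐ[k] E} {z z' : W}
    (h : IsPointOf pr sn j σ z) (h' : IsPointOf pr sn j σ z') : z = z' := by
  have hirr := isIrreducible_setOf_isPointOf sq j hx σ
  have hz : ∀ w, IsPointOf pr sn j σ w → pr w = x := fun w hw => by
    have := hw.apply_mem
    rwa [hr] at this
  have hgen := hirr.closure.isGenericPoint_genericPoint isClosed_closure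
  have ht : ∀ w, IsPointOf pr sn j σ w → hirr.closure.genericPoint = w := fun w hw => by
    have hs : hirr.closure.genericPoint ⤳ w := hgen.specializes (subset_closure hw)
    refine eq_of_specializes_of_isPullback sq hs ?_
    rw [hz w hw]
    exact hmax _ (hz w hw ▸ hs.map pr.continuous)
  rw [← ht z h, ← ht z' h']

end

section Tower

variable {K E : Type u} [Field K] [Field E] [Algebra k K] [Algebra K E] [Algebra k E]
  [IsScalarTower k K E]

theorem isPullback_tower :
    IsPullback (FBase.bcπ (FBase.bcStr f K) E ≫ FBase.bcπ f K) (FBase.bcStr (FBase.bcStr f K) E) f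
      (Spec.map (CommRingCat.ofHom (algebraMap k E))) := by
  have h := (IsPullback.of_hasPullback (pullback.snd f (Spec.map (CommRingCat.ofHom (algebraMap k K))))
    (Spec.map (CommRingCat.ofHom (algebraMap K E)))).paste_horiz
    (IsPullback.of_hasPullback f (Spec.map (CommRingCat.ofHom (algebraMap k K))))
  rw [← Spec.map_comp, ← CommRingCat.ofHom_comp, ← IsScalarTower.algebraMap_eq] at h
  exact h

variable {κ : Type u} [Field κ] [Algebra k κ] (j : Spec (CommRingCat.of κ) ⟶ X)

omit [IsScalarTower k K E] in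
/-- If `K` contains the images of all embeddings, points with the same image in `X_K` induce the
same embedding. -/
theorem eq_of_image_eq_tower [Mono j]
    (hK : ∀ (σ : separableClosure k κ →ₐ[k] E) c, σ c ∈ (algebraMap K E).range)
    {σ σ' : separableClosure k κ →ₐ[k] E} {z z' : ↥(FBase.bc (FBase.bcStr f K) E)}
    (hz : IsPointOf (FBase.bcπ (FBase.bcStr f K) E ≫ FBase.bcπ f K)
      (FBase.bcStr (FBase.bcStr f K) E) j σ z)
    (hz' : IsPointOf (FBase.bcπ (FBase.bcStr f K) E ≫ FBase.bcπ f K)
      (FBase.bcStr (FBase.bcStr f K) E) j σ' z')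
    (h : FBase.bcπ (FBase.bcStr f K) E z = FBase.bcπ (FBase.bcStr f K) E z') : σ = σ' :=
  IsPointOf.eq_of_image_eq j (FBase.bcπ f K) (FBase.bcStr f K) (algebraMap K E)
    (FBase.bcπ (FBase.bcStr f K) E) rfl pullback.condition (hK σ) (hK σ') hz hz' h

theorem isConnected_preimage_connectedComponent [Mono j] [IsAlgClosed E] [Algebra.IsAlgebraic k E]
    (hx : j ≫ f = Spec.map (CommRingCat.ofHom (algebraMap k κ)))
    (hK : ∀ (σ : separableClosure k κ →ₐ[k] E) c, σ c ∈ (algebraMap K E).range)
    (y : ↥(FBase.bc f K)) (hy : FBase.bcπ f K y ∈ Set.range j) :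
    _root_.IsConnected (⇑(FBase.bcπ (FBase.bcStr f K) E) ⁻¹' connectedComponent y) := by
  let π := FBase.bcπ (FBase.bcStr f K) E
  have sq := isPullback_tower f (K := K) (E := E)
  have : Algebra.IsAlgebraic K E := Algebra.IsAlgebraic.tower_top (K := k) K
  have sq' : IsPullback π (FBase.bcStr (FBase.bcStr f K) E) (FBase.bcStr f K)
      (Spec.map (CommRingCat.ofHom (algebraMap K E))) := IsPullback.of_hasPullback _ _
  obtain ⟨z, hz⟩ := surjective_of_isPullback sq' y
  obtain ⟨σ, hσ⟩ := exists_isPointOf sq j hx (z := z)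
    (by rw [Scheme.Hom.comp_apply]; exact hz.symm ▸ hy)
  let T := {w : ↥(FBase.bc (FBase.bcStr f K) E) | IsPointOf (π ≫ FBase.bcπ f K)
      (FBase.bcStr (FBase.bcStr f K) E) j σ w}
  have hT : _root_.IsConnected T := (isIrreducible_setOf_isPointOf sq j hx σ).isConnected
  refine isConnected_preimage_of_open_closed (isOpenMap_of_isPullback sq')
    (isClosedMap_of_isPullback sq') isPreconnected_connectedComponent hT ?_
    mem_connectedComponent (b := y) ?_
  · intro w hw
    exact (hT.isPreconnected.image π π.continuous.continuousOn).subset_connectedComponent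
      ⟨z, hσ, hz⟩ ⟨w, hw, rfl⟩
  · intro w hw
    obtain ⟨σ', hσ'⟩ := exists_isPointOf sq j hx (z := w)
      (by rw [Scheme.Hom.comp_apply]; exact (show π w = y from hw).symm ▸ hy)
    have := eq_of_image_eq_tower f j hK hσ' hσ ((show π w = y from hw).trans hz.symm)
    subst this
    exact hσ'

theorem isIrreducible_preimage_closure_singleton [Mono j] [IsAlgClosed E] [Algebra.IsAlgebraic k E]
    (hx : j ≫ f = Spec.map (CommRingCat.ofHom (algebraMap k κ))) {x : X} (hr : Set.range j = {x})
    (hmax : ∀ w : X, w ⤳ x → w = x)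
    (hK : ∀ (σ : separableClosure k κ →ₐ[k] E) c, σ c ∈ (algebraMap K E).range)
    (y : ↥(FBase.bc f K)) (hy : FBase.bcπ f K y = x) :
    IsIrreducible (⇑(FBase.bcπ (FBase.bcStr f K) E) ⁻¹' closure {y}) := by
  let π := FBase.bcπ (FBase.bcStr f K) E
  have sq := isPullback_tower f (K := K) (E := E)
  have sq' : IsPullback π (FBase.bcStr (FBase.bcStr f K) E) (FBase.bcStr f K)
      (Spec.map (CommRingCat.ofHom (algebraMap K E))) := IsPullback.of_hasPullback _ _
  obtain ⟨z, hz⟩ := surjective_of_isPullback sq' y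
  have hmem : ∀ w, π w = y → (π ≫ FBase.bcπ f K) w ∈ Set.range j := fun w hw => by
    rw [hr, Scheme.Hom.comp_apply, hw]; exact hy
  have hsingle : π ⁻¹' {y} = {z} := by
    refine Set.Subset.antisymm (fun w hw => ?_) (Set.singleton_subset_iff.mpr hz)
    obtain ⟨σ, hσ⟩ := exists_isPointOf sq j hx (hmem z hz)
    obtain ⟨σ', hσ'⟩ := exists_isPointOf sq j hx (hmem w hw)
    have := eq_of_image_eq_tower f j hK hσ' hσ ((show π w = y from hw).trans hz.symm)
    exact IsPointOf.eq_of_maximal sq j hx hr hmax (this ▸ hσ') hσ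
  rw [(isOpenMap_of_isPullback sq').preimage_closure_eq_closure_preimage π.continuous, hsingle]
  exact isIrreducible_singleton.closure

end Tower

end Groth.Agent.FBase64
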