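import Groth.Agent.Props58.Comp
import Groth.Agent.FBase64.PointCmp
import Mathlib.AlgebraicGeometry.Noetherian
import Mathlib.AlgebraicGeometry.Morphisms.UnderlyingMap
import Mathlib.Topology.NoetherianSpace

/-! Pointwise integral Noetherian schemes and their components. -/

set_option autoImplicit false
set_option linter.style.haveILetI false
universe u

open CategoryTheory CategoryTheory.Limits AlgebraicGeometry TopologicalSpace

namespace Groth.Agent.FBase64

/-- The connected component of an irreducible component. -/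
theorem irrComp_card_eq_iff (T : Type u) [TopologicalSpace T] [NoetherianSpace T] :
    Nat.card ↥(irreducibleComponents T) = Nat.card (_root_.ConnectedComponents T) ↔
      ∀ x : T, ∀ Z ∈ irreducibleComponents T, ∀ Z' ∈ irreducibleComponents T, x ∈ Z → x ∈ Z' → Z = Z' := by
  haveI := (NoetherianSpace.finite_irreducibleComponents (α := T)).to_subtype
  let π : ↥(irreducibleComponents T) → _root_.ConnectedComponents T := fun Z => ConnectedComponents.mk Z.2.1.1.some
  have hmem : ∀ (Z : ↥(irreducibleComponents T)) (x : T), x ∈ Z.1 → π Z = ConnectedComponents.mk x := fun Z x hx =>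
    ConnectedComponents.coe_eq_coe'.mpr
      (Z.2.1.isConnected.subset_connectedComponent hx Z.2.1.1.some_mem)
  have hsurj : Function.Surjective π := by
    intro c
    obtain ⟨x, rfl⟩ := ConnectedComponents.surjective_coe c
    exact ⟨⟨_, irreducibleComponent_mem_irreducibleComponents x⟩, hmem _ x mem_irreducibleComponent⟩
  constructor
  · intro h x Z hZ Z' hZ' hxZ hxZ'
    have hb := (hsurj.bijective_of_nat_card_le h.le).1
    exact congrArg Subtype.val (@hb ⟨Z, hZ⟩ ⟨Z', hZ'⟩ ((hmem _ x hxZ).trans (hmem _ x hxZ').symm))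
  · intro h
    refine Nat.card_eq_of_bijective π ⟨fun Z Z' he => ?_, hsurj⟩
    have hop : IsClopen Z.1 := ⟨isClosed_of_mem_irreducibleComponents _ Z.2,
      Props58.isOpen_irreducibleComponent h
        (fun _ => ⟨⊤, trivial, @NoetherianSpace.finite_irreducibleComponents _ _ (NoetherianSpace.set ((⊤ : Opens T) : Set T))⟩) Z.2⟩
    have hin := hop.connectedComponent_subset Z.2.1.1.some_mem
      (ConnectedComponents.coe_eq_coe'.mp he.symm)
    exact Subtype.ext (h _ _ Z.2 _ Z'.2 hin Z'.2.1.1.some_mem)

theorem isDomain_iff_reduced_and_prime {R : Type u} [CommRing R] :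
    IsDomain R ↔ _root_.IsReduced R ∧ (nilradical R).IsPrime := by
  constructor
  · intro h
    exact ⟨inferInstance, by rw [nilradical_eq_zero]; exact Ideal.isPrime_bot⟩
  · rintro ⟨_, h⟩
    rw [nilradical_eq_zero] at h
    exact Ideal.Quotient.isDomain_iff_prime (⊥ : Ideal R) |>.mpr h |> fun _ =>
      (RingEquiv.quotientBot R).symm.toMulEquiv.isDomain

theorem forall_isGeomPtIntegralAt_iff {k Ω : Type u} [Field k] [Field Ω] [Algebra k Ω] [IsAlgClosed Ω]
    {X : Scheme.{u}} (f : X ⟶ Spec (CommRingCat.of k)) [LocallyOfFiniteType f] [QuasiCompact f] :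
    (∀ x : X, FBase.IsGeomPtIntegralAt f x) ↔
      (GeometricallyReduced f ∧
        Nat.card ↥(irreducibleComponents ↥(FBase.bc f Ω)) = Nat.card (_root_.ConnectedComponents ↥(FBase.bc f Ω))) := by
  haveI : LocallyOfFiniteType (FBase.bcStr f Ω) := inferInstanceAs (LocallyOfFiniteType (pullback.snd _ _))
  haveI : QuasiCompact (FBase.bcStr f Ω) := inferInstanceAs (QuasiCompact (pullback.snd _ _))
  haveI : IsLocallyNoetherian (FBase.bc f Ω) := LocallyOfFiniteType.isLocallyNoetherian (FBase.bcStr f Ω)
  haveI : CompactSpace ↥(FBase.bc f Ω) := QuasiCompact.compactSpace_of_compactSpace (FBase.bcStr f Ω)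
  haveI : IsNoetherian (FBase.bc f Ω) := { }
  rw [irrComp_card_eq_iff]
  constructor
  · intro h
    refine ⟨(geometricallyReduced_iff_forall f).mpr fun x K _ _ y hy => ?_, fun y Z hZ Z' hZ' h1 h2 => ?_⟩
    · haveI := h x K y hy
      infer_instance
    · exact Props58.eq_of_isDomain_stalk y (h _ Ω y rfl) Z hZ Z' hZ' h1 h2
  · rintro ⟨hred, hu⟩ x
    haveI : Surjective (Spec.map (CommRingCat.ofHom (algebraMap k Ω))) :=
      ⟨fun s => ⟨Classical.arbitrary _, Subsingleton.elim _ _⟩⟩
    haveI : Surjective (FBase.bcπ f Ω) := inferInstanceAs (Surjective (pullback.fst _ _))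
    obtain ⟨x', hx'⟩ := (FBase.bcπ f Ω).surjective x
    haveI : AlgebraicGeometry.IsReduced (FBase.bc f Ω) :=
      pullback_of_geometrically GeometricallyReduced.geometrically_isReduced _ _
    haveI : IsDomain ((FBase.bc f Ω).presheaf.stalk x') :=
      isDomain_iff_reduced_and_prime.mpr ⟨inferInstance,
        (SchBasics.nilradical_stalk_isPrime_iff x').mpr (hu x')⟩
    exact isGeomPtIntegralAt_of_isAlgClosed f x x' hx'

end Groth.Agent.FBase64
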