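import Groth.Agent.FBase64.Geometric
import Groth.Prelude.Def_FDesc
import Mathlib.FieldTheory.SeparableClosure
import Mathlib.AlgebraicGeometry.ResidueField

/-!
The fibre of `X_E → X` over a point, decomposed by embeddings of the separable closure of `k`
in the residue field.
-/

universe u

namespace Groth.Agent.FBase64

open CategoryTheory CategoryTheory.Limits AlgebraicGeometry

section

variable {k E : Type u} [Field k] [Field E] [Algebra k E] {X W : Scheme.{u}}
  {f : X ⟶ Spec (CommRingCat.of k)} {pr : W ⟶ X} {sn : W ⟶ Spec (CommRingCat.of E)}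
  (sq : IsPullback pr sn f (Spec.map (CommRingCat.ofHom (algebraMap k E))))
  {κ : Type u} [Field κ] [Algebra k κ] (j : Spec (CommRingCat.of κ) ⟶ X)
  (hx : j ≫ f = Spec.map (CommRingCat.ofHom (algebraMap k κ)))

variable (pr sn) in
/-- A point of `W` over `x` inducing the embedding `σ`. -/
def IsPointOf (σ : separableClosure k κ →ₐ[k] E) (z : W) : Prop :=
  ∃ (L : Type u) (_ : Field L) (a : κ →+* L) (b : E →+* L)
    (g : Spec (CommRingCat.of L) ⟶ W), (∃ pt, g pt = z) ∧
    g ≫ pr = Spec.map (CommRingCat.ofHom a) ≫ j ∧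
    g ≫ sn = Spec.map (CommRingCat.ofHom b) ∧
    ∀ c : separableClosure k κ, a c = b (σ c)

theorem IsPointOf.apply_mem {σ : separableClosure k κ →ₐ[k] E} {z : W}
    (h : IsPointOf pr sn j σ z) : pr z ∈ Set.range j := by
  obtain ⟨L, _, a, b, g, ⟨pt, rfl⟩, hga, -, -⟩ := h
  exact ⟨Spec.map (CommRingCat.ofHom a) pt, ((Scheme.Hom.comp_apply g pr pt).symm.trans
    (congrArg (fun t : Spec (CommRingCat.of L) ⟶ X => t pt) hga)).symm⟩

include sq hx in
theorem isIrreducible_setOf_isPointOf (σ : separableClosure k κ →ₐ[k] E) :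
    IsIrreducible {z : W | IsPointOf pr sn j σ z} := by
  let k' := separableClosure k κ
  let s := Spec.map (CommRingCat.ofHom (algebraMap k' κ))
  let t := Spec.map (CommRingCat.ofHom σ.toRingHom)
  have hgi : GeometricallyIrreducible s :=
    geometricallyIrreducible_specMap (separableClosure.separableClosure_eq_bot k _)
  have hIrr : IrreducibleSpace ↥(pullback s t) :=
    pullback_of_geometrically GeometricallyIrreducible.geometrically_irreducibleSpace _ _
  have hcomm : (pullback.fst s t ≫ j) ≫ f =
      pullback.snd s t ≫ Spec.map (CommRingCat.ofHom (algebraMap k E)) := by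
    have h1 : j ≫ f =
        s ≫ Spec.map (CommRingCat.ofHom (algebraMap k k')) := by
      rw [hx, ← Spec.map_comp, ← CommRingCat.ofHom_comp, ← IsScalarTower.algebraMap_eq]
    have h2 : Spec.map (CommRingCat.ofHom (algebraMap k E)) =
        t ≫ Spec.map (CommRingCat.ofHom (algebraMap k k')) := by
      rw [← Spec.map_comp, ← CommRingCat.ofHom_comp]
      exact congrArg _ (congrArg _ σ.comp_algebraMap.symm)
    rw [Category.assoc, h1, pullback.condition_assoc, h2]
  let h : pullback s t ⟶ W := sq.lift (pullback.fst s t ≫ j)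
    (pullback.snd s t) hcomm
  have hrange : {z : W | IsPointOf pr sn j σ z} = Set.range h := by
    refine Set.Subset.antisymm ?_ ?_
    · rintro z ⟨L, _, a, b, g, ⟨pt, rfl⟩, hga, hgb, hab⟩
      let l : Spec (CommRingCat.of L) ⟶ pullback s t :=
        pullback.lift (Spec.map (CommRingCat.ofHom a)) (Spec.map (CommRingCat.ofHom b)) (by
          rw [← Spec.map_comp, ← Spec.map_comp]
          exact congrArg _ (CommRingCat.hom_ext (RingHom.ext hab)))
      have hl1 : l ≫ pullback.fst s t = Spec.map (CommRingCat.ofHom a) := pullback.lift_fst _ _ _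
      have hl2 : l ≫ pullback.snd s t = Spec.map (CommRingCat.ofHom b) := pullback.lift_snd _ _ _
      have : l ≫ h = g := by
        apply sq.hom_ext
        · rw [Category.assoc, sq.lift_fst, hga, ← hl1, Category.assoc]
        · rw [Category.assoc, sq.lift_snd, hgb, hl2]
      exact ⟨l pt, by rw [← Scheme.Hom.comp_apply, this]⟩
    · rintro _ ⟨w, rfl⟩
      let P := pullback s t
      let g0 : Spec (P.residueField w) ⟶ P := P.fromSpecResidueField w
      obtain ⟨a, ha⟩ := Spec.map_surjective (g0 ≫ pullback.fst s t)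
      obtain ⟨b, hb⟩ := Spec.map_surjective (g0 ≫ pullback.snd s t)
      refine ⟨↥(P.residueField w), inferInstance, a.hom, b.hom, g0 ≫ h,
        ⟨(IsLocalRing.closedPoint _ : ↥(Spec (P.residueField w))), ?_⟩, ?_, ?_, ?_⟩
      · exact congrArg h (Scheme.fromSpecResidueField_apply w _)
      · show (g0 ≫ h) ≫ pr = Spec.map a ≫ _
        rw [ha, Category.assoc, sq.lift_fst, Category.assoc]
      · show (g0 ≫ h) ≫ sn = Spec.map b
        rw [hb, Category.assoc, sq.lift_snd]
      · intro c
        have : Spec.map a ≫ s = Spec.map b ≫ t := by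
          rw [ha, hb, Category.assoc, Category.assoc, pullback.condition]
        simp only [s, t, ← Spec.map_comp] at this
        exact congrArg (fun q : k' →+* ↥(P.residueField w) => q c)
          (congrArg CommRingCat.Hom.hom (Spec.map_injective this))
  rw [hrange, ← Set.image_univ]
  exact (IrreducibleSpace.isIrreducible_univ _).image h h.continuous.continuousOn

include sq hx in
theorem exists_isPointOf [IsAlgClosed E] {z : W} (hz : pr z ∈ Set.range j) :
    ∃ σ : separableClosure k κ →ₐ[k] E, IsPointOf pr sn j σ z := by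
  obtain ⟨pt, hpt⟩ := hz
  have hF : ∃ (F : Type u) (_ : Field F) (r : Spec (CommRingCat.of F) ⟶ W), ∀ q, r q = z :=
    ⟨↥(W.residueField z), inferInstance, W.fromSpecResidueField z,
      fun q => Scheme.fromSpecResidueField_apply z q⟩
  obtain ⟨F, _, r, hr⟩ := hF
  obtain ⟨L, _, _, a, c, hac⟩ := exists_common_field j (r ≫ pr)
    ⟨pt, Classical.arbitrary _, by rw [Scheme.Hom.comp_apply, hr]; exact hpt⟩
  let g : Spec (CommRingCat.of L) ⟶ W := Spec.map (CommRingCat.ofHom c) ≫ r
  have hga : g ≫ pr = Spec.map (CommRingCat.ofHom a) ≫ j := by rw [Category.assoc]; exact hac.symm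
  obtain ⟨b, hb⟩ := Spec.map_surjective (g ≫ sn)
  let algE : Algebra E L := b.hom.toAlgebra
  let algk : Algebra k L := (b.hom.comp (algebraMap k E)).toAlgebra
  have : IsScalarTower k E L := IsScalarTower.of_algebraMap_eq' rfl
  have hcomp : a.comp (algebraMap k κ) = b.hom.comp (algebraMap k E) := by
    have h0 : Spec.map (CommRingCat.ofHom a) ≫ Spec.map (CommRingCat.ofHom (algebraMap k κ)) =
        Spec.map b ≫ Spec.map (CommRingCat.ofHom (algebraMap k E)) := by
      rw [← hx, ← Category.assoc, ← hga, hb]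
      simp only [Category.assoc, sq.w]
    rw [← Spec.map_comp, ← Spec.map_comp] at h0
    exact congrArg CommRingCat.Hom.hom (Spec.map_injective h0)
  let k' := separableClosure k κ
  let a' : k' →ₐ[k] L :=
    { toRingHom := a.comp (algebraMap k' κ)
      commutes' := fun r => RingHom.congr_fun hcomp r }
  let ι : E →ₐ[k] L := IsScalarTower.toAlgHom k E L
  have hmem : ∀ c : k', a' c ∈ ι.fieldRange := fun c => by
    have hint : IsIntegral k (a' c) := (Algebra.IsIntegral.isIntegral c).map a'
    have hintE : IsIntegral E (a' c) := hint.tower_top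
    exact minpoly.mem_range_of_degree_eq_one E (a' c)
      (IsAlgClosed.degree_eq_one_of_irreducible E (minpoly.irreducible hintE))
  let σ : k' →ₐ[k] E :=
    (AlgEquiv.ofInjectiveField ι).symm.toAlgHom.comp (a'.codRestrict ι.fieldRange.toSubalgebra hmem)
  refine ⟨σ, L, inferInstance, a, b.hom, g, ⟨Classical.arbitrary _, hr _⟩,
    hga, hb.symm, fun c => ?_⟩
  exact (congrArg Subtype.val ((AlgEquiv.ofInjectiveField ι).apply_symm_apply
    (a'.codRestrict ι.fieldRange.toSubalgebra hmem c))).symm

/-- If the embeddings land in `K`, they are determined by the image in `X_K`. -/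
theorem IsPointOf.eq_of_image_eq [Mono j] {K : Type u} [Field K] {Y : Scheme.{u}} (prY : Y ⟶ X)
    (snY : Y ⟶ Spec (CommRingCat.of K)) (i : K →+* E) (π : W ⟶ Y) (hπ1 : π ≫ prY = pr)
    (hπ2 : π ≫ snY = sn ≫ Spec.map (CommRingCat.ofHom i))
    {σ σ' : separableClosure k κ →ₐ[k] E}
    (hσ : ∀ c, σ c ∈ i.range) (hσ' : ∀ c, σ' c ∈ i.range)
    {z z' : W} (hz : IsPointOf pr sn j σ z) (hz' : IsPointOf pr sn j σ' z') (h : π z = π z') :
    σ = σ' := by
  obtain ⟨L, _, a, b, g, ⟨pt, rfl⟩, hga, hgb, hab⟩ := hz
  obtain ⟨L', _, a', b', g', ⟨pt', rfl⟩, hga', hgb', hab'⟩ := hz'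
  obtain ⟨Ω, _, _, u, v, huv⟩ := exists_common_field (g ≫ π) (g' ≫ π) ⟨pt, pt', h⟩
  have h1 : Spec.map (CommRingCat.ofHom (u.comp a)) = Spec.map (CommRingCat.ofHom (v.comp a')) := by
    rw [← cancel_mono (j), CommRingCat.ofHom_comp, CommRingCat.ofHom_comp,
      Spec.map_comp, Spec.map_comp, Category.assoc, Category.assoc, ← hga, ← hga', ← hπ1]
    simpa only [Category.assoc] using congrArg (fun q => q ≫ prY) huv
  have h2 : Spec.map (CommRingCat.ofHom ((u.comp b).comp i)) =
      Spec.map (CommRingCat.ofHom ((v.comp b').comp i)) := by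
    simp only [CommRingCat.ofHom_comp, Spec.map_comp, ← hgb, ← hgb', Category.assoc, ← hπ2]
    simpa only [Category.assoc] using congrArg (fun q => q ≫ snY) huv
  ext c
  obtain ⟨d, hd⟩ := hσ c
  obtain ⟨d', hd'⟩ := hσ' c
  have e1 := RingHom.congr_fun (congrArg CommRingCat.Hom.hom (Spec.map_injective h1)) c.1
  have e2 := RingHom.congr_fun (congrArg CommRingCat.Hom.hom (Spec.map_injective h2)) d
  simp only [CommRingCat.hom_ofHom, RingHom.comp_apply] at e1 e2
  rw [hab, hab', ← hd, ← hd', e2] at e1
  rw [← hd, ← hd', b'.injective (v.injective e1)]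

end

end Groth.Agent.FBase64
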