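import Groth.Agent.FBase64.AssTensor.Scheme

/-! Fibres of locally Noetherian schemes are locally Noetherian. -/

set_option autoImplicit false
set_option linter.style.haveILetI false
set_option backward.isDefEq.respectTransparency.types false
universe u

open CategoryTheory CategoryTheory.Limits AlgebraicGeometry TopologicalSpace TensorProduct

namespace Groth.Agent.FBase64.AssTensor

attribute [local instance] Algebra.TensorProduct.rightAlgebra

theorem isLocallyNoetherian_fiber {Y S : Scheme.{u}} (g : Y ⟶ S) [IsLocallyNoetherian Y] (s : S) :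
    IsLocallyNoetherian (g.fiber s) := by
  have key : ∀ a : g.fiber s, ∃ O : (g.fiber s).affineOpens, a ∈ O.1 ∧ IsNoetherianRing Γ(g.fiber s, O.1) := by
    intro a
    have hga : g (g.fiberι s a) = s := (g.range_fiberι s).subset (Set.mem_range_self a)
    obtain ⟨W, hW, hsW, -⟩ := exists_isAffineOpen_mem_and_subset (X := S) (x := s) (U := ⊤) trivial
    obtain ⟨V, hV, hyV, e⟩ := exists_isAffineOpen_mem_and_subset (X := Y) (x := g.fiberι s a) (U := g ⁻¹ᵁ W)
      (show g (g.fiberι s a) ∈ W by rw [hga]; exact hsW)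
    letI := (g.appLE W V e).hom.toAlgebra
    haveI : IsNoetherianRing Γ(Y, V) := IsLocallyNoetherian.component_noetherian ⟨V, hV⟩
    let r : Spec Γ(S, W) := hW.primeIdealOf ⟨s, hsW⟩
    let p := (show PrimeSpectrum Γ(S, W) from r).asIdeal
    haveI : IsNoetherianRing (p.Fiber Γ(Y, V)) := isNoetherianRing_fiber p
    obtain ⟨σ, hσ⟩ := exists_residueIso hW r s (hW.fromSpec_primeIdealOf ⟨s, hsW⟩)
    have w1 : Spec.map (CommRingCat.ofHom (algebraMap Γ(S, W) Γ(Y, V))) ≫ hW.fromSpec = hV.fromSpec ≫ g :=
      IsAffineOpen.SpecMap_appLE_fromSpec g hW hV e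
    let d : Spec (CommRingCat.of (p.Fiber Γ(Y, V))) ⟶ pullback g (S.fromSpecResidueField s) :=
      (pullbackSpecIso Γ(S, W) p.ResidueField Γ(Y, V)).inv ≫ (pullbackSymmetry _ _).hom ≫
        pullback.map _ _ g (S.fromSpecResidueField s) hV.fromSpec σ.hom hW.fromSpec w1 hσ.symm
    haveI : IsOpenImmersion d := by dsimp only [d]; infer_instance
    refine ⟨⟨d.opensRange, isAffineOpen_opensRange d⟩, ?_, ?_⟩
    · show a ∈ Set.range d
      dsimp only [d]
      rw [← Category.assoc, Scheme.Hom.comp_base, TopCat.coe_comp, Set.range_comp,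
        ((pullbackSpecIso Γ(S, W) p.ResidueField Γ(Y, V)).inv ≫ (pullbackSymmetry _ _).hom).surjective.range_eq,
        Set.image_univ, Scheme.Pullback.range_map, hV.range_fromSpec,
        Set.range_eq_univ.mpr σ.hom.surjective, Set.preimage_univ, Set.inter_univ]
      exact hyV
    · exact isNoetherianRing_of_ringEquiv (p.Fiber Γ(Y, V))
        ((Scheme.ΓSpecIso (CommRingCat.of (p.Fiber Γ(Y, V)))).symm ≪≫
          IsOpenImmersion.ΓIsoTop d).commRingCatIsoToRingEquiv
  choose O hO hN using key
  exact isLocallyNoetherian_of_affine_cover (S := O)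
    (eq_top_iff.mpr fun a _ => Opens.mem_iSup.mpr ⟨a, hO a⟩) fun a => hN a

end Groth.Agent.FBase64.AssTensor
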