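import Mathlib.AlgebraicGeometry.Geometrically.Irreducible
import Groth.Agent.FBase64.ProductComponents

/-!
Geometric irreducibility of a flat scheme over a geometrically irreducible one.
-/

universe u

namespace Groth.Agent.FBase64

open CategoryTheory CategoryTheory.Limits AlgebraicGeometry

theorem isIrreducible_preimage_singleton_of_fibre {X C Z : Scheme.{u}} (f : X ⟶ C) (g : Z ⟶ C)
    (z : Z) [GeometricallyIrreducible (f.fiberToSpecResidueField (g z))] :
    IsIrreducible (⇑(pullback.snd f g) ⁻¹' {z}) := by
  have h0 : IrreducibleSpace ↥(pullback (f.fiberToSpecResidueField (g z)) (Spec.map (g.residueFieldMap z))) :=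
    GeometricallyIrreducible.geometrically_irreducibleSpace _ _ _ (IsPullback.of_hasPullback _ _)
  let e : (pullback.snd f g).fiber z ≅ pullback (f.fiberToSpecResidueField (g z)) (Spec.map (g.residueFieldMap z)) :=
    pullbackLeftPullbackSndIso f g _ ≪≫
      pullback.congrHom rfl (g.SpecMap_residueFieldMap_fromSpecResidueField z).symm ≪≫
      (pullbackLeftPullbackSndIso f (C.fromSpecResidueField (g z)) (Spec.map (g.residueFieldMap z))).symm
  have : IrreducibleSpace ↥((pullback.snd f g).fiber z) := e.hom.homeomorph.irreducibleSpace_iff.mpr h0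
  rw [← Scheme.Hom.range_fiberι, ← Set.image_univ]
  exact (IrreducibleSpace.isIrreducible_univ _).image _
    ((pullback.snd f g).fiberι z).continuous.continuousOn

theorem geometricallyIrreducible_comp_of_generic_fibre {k : Type u} [Field k] {X C : Scheme.{u}}
    (f : X ⟶ C) (c : C ⟶ Spec (CommRingCat.of k))
    [IrreducibleSpace C] [GeometricallyIrreducible c] [Flat f] [GeometricallyIrreducible (f.fiberToSpecResidueField (genericPoint C))] :
    GeometricallyIrreducible (f ≫ c) := by
  refine ⟨geometrically_iff_of_isClosedUnderIsomorphisms.mpr fun K _ x ↦ ?_⟩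
  rw [← (pullbackRightPullbackFstIso c x f).hom.homeomorph.irreducibleSpace_iff]
  let g := pullback.fst c x
  have hCK : IrreducibleSpace ↥(pullback c x) :=
    GeometricallyIrreducible.geometrically_irreducibleSpace _ _ _ (IsPullback.of_hasPullback _ _)
  have : Flat g := inferInstanceAs (Flat (pullback.fst c x))
  set η := genericPoint ↥(pullback c x)
  have hη : g η = genericPoint C := by
    obtain ⟨a, ha, hga⟩ := Flat.generalizingMap g (genericPoint_specializes (g η))
    rw [← hga, ((ha.antisymm (genericPoint_specializes a)).eq : a = η)]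
  have : GeometricallyIrreducible (f.fiberToSpecResidueField (g η)) := by rw [hη]; infer_instance
  let q := pullback.snd f g
  have hirr : IsIrreducible (⇑q ⁻¹' {η}) := isIrreducible_preimage_singleton_of_fibre f g η
  have hd : closure (⇑q ⁻¹' {η}) = Set.univ := by
    refine Set.eq_univ_of_forall fun w => ?_
    obtain ⟨a, ha, hqa⟩ := Flat.generalizingMap q (genericPoint_specializes (q w))
    exact closure_mono (Set.singleton_subset_iff.mpr (show a ∈ ⇑q ⁻¹' {η} from hqa))
      (specializes_iff_mem_closure.mp ha)
  rw [irreducibleSpace_def]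
  have h := hirr.closure
  rw [hd] at h
  exact h

end Groth.Agent.FBase64
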