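import Groth.Agent.FBase64.TensorField
import Mathlib.AlgebraicGeometry.Geometrically.Integral
import Mathlib.RingTheory.TensorProduct.MvPolynomial
import Mathlib.RingTheory.Polynomial.UniqueFactorization
import Mathlib.Algebra.MvPolynomial.Nilpotent

/-!
Geometrically irreducible polynomials.
-/

universe u

namespace Groth.Agent.FBase64

open CategoryTheory CategoryTheory.Limits AlgebraicGeometry TensorProduct

variable {k : Type u} [Field k] {n : ℕ} (F : MvPolynomial (Fin n) k)

theorem totalDegree_map_of_injective {R S : Type*} [CommSemiring R] [CommSemiring S] {i : R →+* S}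
    (hi : Function.Injective i) (G : MvPolynomial (Fin n) R) :
    (MvPolynomial.map i G).totalDegree = G.totalDegree := by
  simp only [MvPolynomial.totalDegree, MvPolynomial.support_map_of_injective _ hi]

theorem map_ne_zero_of_totalDegree (hF : 0 < F.totalDegree) (K : Type u) [Field K] [Algebra k K] :
    MvPolynomial.map (algebraMap k K) F ≠ 0 := by
  rw [Ne, ← map_zero (MvPolynomial.map (σ := Fin n) (algebraMap k K)),
    (MvPolynomial.map_injective _ (algebraMap k K).injective).eq_iff]
  rintro rfl
  simp at hF

theorem isDomain_tensor_iff_irreducible (hF : 0 < F.totalDegree) (K : Type u) [Field K] [Algebra k K] :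
    IsDomain (K ⊗[k] (MvPolynomial (Fin n) k ⧸ Ideal.span {F})) ↔
      Irreducible (MvPolynomial.map (algebraMap k K) F) := by
  rw [irreducible_iff_prime, ← Ideal.span_singleton_prime (map_ne_zero_of_totalDegree F hF K)]
  let π : K ⊗[k] MvPolynomial (Fin n) k →ₐ[K] K ⊗[k] (MvPolynomial (Fin n) k ⧸ Ideal.span {F}) :=
    Algebra.TensorProduct.map (AlgHom.id K K) (Ideal.Quotient.mkₐ k (Ideal.span {F}))
  have hπ : Function.Surjective π :=
    Algebra.TensorProduct.map_surjective (AlgHom.id K K) (Ideal.Quotient.mkₐ k (Ideal.span {F}))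
      Function.surjective_id Ideal.Quotient.mk_surjective
  have hker : RingHom.ker π.toRingHom = Ideal.span {(1 : K) ⊗ₜ[k] F} := by
    have hid : RingHom.ker (AlgHom.id K K) = ⊥ := le_bot_iff.mp fun x hx => hx
    have h := Algebra.TensorProduct.map_ker (AlgHom.id K K) (Ideal.Quotient.mkₐ k (Ideal.span {F}))
      Function.surjective_id Ideal.Quotient.mk_surjective
    rw [hid, Ideal.map_bot, bot_sup_eq, ← RingHom.ker_coe_toRingHom (Ideal.Quotient.mkₐ k _)] at h
    simp only [Ideal.Quotient.mkₐ_ker, Ideal.map_span, Set.image_singleton] at h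
    exact h
  let e := (MvPolynomial.algebraTensorAlgEquiv (R := k) (σ := Fin n) (A := K)).toRingEquiv
  have he : e (1 ⊗ₜ[k] F) = MvPolynomial.map (algebraMap k K) F := by
    simp [e, MvPolynomial.algebraTensorAlgEquiv_tmul]
  have hmap : (RingHom.ker π.toRingHom).map e = Ideal.span {MvPolynomial.map (algebraMap k K) F} := by
    rw [hker, Ideal.map_span, Set.image_singleton, he]
  rw [← hmap]
  constructor
  · intro h
    have : (RingHom.ker π.toRingHom).IsPrime := RingHom.ker_isPrime _
    exact Ideal.map_isPrime_of_equiv e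
  · intro h
    have h2 : (RingHom.ker π.toRingHom).IsPrime := by
      have := Ideal.IsPrime.comap (f := (e : K ⊗[k] MvPolynomial (Fin n) k →+* _)) (hK := h)
      rwa [show Ideal.comap (e : K ⊗[k] MvPolynomial (Fin n) k →+* _) ((RingHom.ker π.toRingHom).map e) =
        RingHom.ker π.toRingHom from Ideal.comap_map_of_bijective _ e.bijective] at this
    exact (RingHom.quotientKerEquivOfSurjective hπ).isDomain_iff.mp
      ((Ideal.Quotient.isDomain_iff_prime _).mpr h2)

theorem geometricallyIntegral_iff_forall_isDomain {A : Type u} [CommRing A] [Algebra k A] :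
    GeometricallyIntegral (Spec.map (CommRingCat.ofHom (algebraMap k A))) ↔
      ∀ (K : Type u) [Field K] [Algebra k K], IsDomain (K ⊗[k] A) := by
  constructor
  · intro h K _ _
    have := h.geometrically_isIntegral (Spec.map (CommRingCat.ofHom (algebraMap k K))) _ _
      (IsPullback.of_hasPullback _ _).flip
    have : IsIntegral (Spec (CommRingCat.of (K ⊗[k] A))) := IsIntegral.of_isIso (pullbackSpecIso k K A).hom
    exact (affine_isIntegral_iff _).mp this
  · intro h
    refine ⟨fun K _ x Z fst snd hZ => ?_⟩
    obtain ⟨φ, rfl⟩ := Spec.map_surjective x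
    let := φ.hom.toAlgebra
    have := h K
    have : IsIntegral (Spec (CommRingCat.of (K ⊗[k] A))) := (affine_isIntegral_iff _).mpr this
    have : IsIntegral (pullback (Spec.map (CommRingCat.ofHom (algebraMap k K))) (Spec.map (CommRingCat.ofHom (algebraMap k A)))) :=
      IsIntegral.of_isIso (pullbackSpecIso k K A).inv
    exact IsIntegral.of_isIso (IsPullback.isoPullback hZ.flip).inv

theorem irreducible_of_extension {k' : Type u} [Field k'] {L : Type u} [Field L] (i : k' →+* L)
    (G : MvPolynomial (Fin n) k') (h : Irreducible (MvPolynomial.map i G)) : Irreducible G := by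
  have : IsLocalHom (MvPolynomial.map (σ := Fin n) i) := by
    refine ⟨fun a ha => ?_⟩
    rw [MvPolynomial.isUnit_iff_totalDegree_of_isReduced] at ha ⊢
    refine ⟨?_, ?_⟩
    · rw [MvPolynomial.coeff_map] at ha
      exact isUnit_of_map_unit i _ ha.1
    · rw [← ha.2, totalDegree_map_of_injective i.injective]
  exact h.of_map

theorem geometricallyIrreducible_polynomial_tfae (Ω : Type u) [Field Ω] [Algebra k Ω] [IsAlgClosed Ω]
    (hF : 0 < F.totalDegree) :
    List.TFAE [
      GeometricallyIntegral (Spec.map (CommRingCat.ofHom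
        (algebraMap k (MvPolynomial (Fin n) k ⧸ Ideal.span ({F} : Set (MvPolynomial (Fin n) k)))))),
      ∀ (K : Type u) [Field K] [Algebra k K], Irreducible (MvPolynomial.map (algebraMap k K) F),
      Irreducible (MvPolynomial.map (algebraMap k Ω) F)] := by
  tfae_have 1 ↔ 2 := by
    rw [geometricallyIntegral_iff_forall_isDomain]
    exact forall_congr' fun K => forall_congr' fun _ => forall_congr' fun _ =>
      isDomain_tensor_iff_irreducible F hF K
  tfae_have 2 → 3 := fun h => h Ω
  tfae_have 3 → 2 := by
    intro h K _ _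
    obtain ⟨m, hm⟩ := Ideal.exists_maximal (K ⊗[k] Ω)
    let L := (K ⊗[k] Ω) ⧸ m
    let : Field L := Ideal.Quotient.field m
    let iK : K →ₐ[k] L := (Ideal.Quotient.mkₐ k m).comp Algebra.TensorProduct.includeLeft
    let iΩ : Ω →ₐ[k] L := (Ideal.Quotient.mkₐ k m).comp Algebra.TensorProduct.includeRight
    let : Algebra Ω L := iΩ.toRingHom.toAlgebra
    have hG : 0 < (MvPolynomial.map (algebraMap k Ω) F).totalDegree := by
      rwa [totalDegree_map_of_injective (algebraMap k Ω).injective]
    have hA : IsDomain (MvPolynomial (Fin n) Ω ⧸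
        Ideal.span {MvPolynomial.map (algebraMap k Ω) F}) :=
      (Ideal.Quotient.isDomain_iff_prime _).mpr
        ((Ideal.span_singleton_prime (map_ne_zero_of_totalDegree F hF Ω)).mpr (irreducible_iff_prime.mp h))
    have hL : IsDomain (L ⊗[Ω] (MvPolynomial (Fin n) Ω ⧸
        Ideal.span {MvPolynomial.map (algebraMap k Ω) F})) :=
      isDomain_tensor_of_isAlgClosed Ω L _
    rw [isDomain_tensor_iff_irreducible _ hG L, MvPolynomial.map_map,
      show (algebraMap Ω L).comp (algebraMap k Ω) = iK.toRingHom.comp (algebraMap k K) by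
        ext r; exact (iΩ.commutes r).trans (iK.commutes r).symm, ← MvPolynomial.map_map] at hL
    exact irreducible_of_extension iK.toRingHom _ hL
  tfae_finish

end Groth.Agent.FBase64
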