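import Groth.Agent.FBase64.Descend

/-!
Properties of geometric fibres.
-/

universe u

namespace Groth.Agent.FBase64

open CategoryTheory CategoryTheory.Limits AlgebraicGeometry

variable {P : ∀ (k : Type u) [Field k] (Z : Scheme.{u}), (Z ⟶ Spec (CommRingCat.of k)) → Prop}
  (hiso : ∀ (k : Type u) [Field k] (Z Z' : Scheme.{u}) (e : Z ≅ Z') (g : Z' ⟶ Spec (CommRingCat.of k)),
    P k Z' g → P k Z (e.hom ≫ g))

include hiso in
/-- Transfer between the iterated and the composite base change. -/
theorem fibreProp_comp_iff {X T : Scheme.{u}} (f : X ⟶ T) {k K : Type u} [Field k] [Field K]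
    (σ : Spec (CommRingCat.of k) ⟶ T) (i : k →+* K) (τ : Spec (CommRingCat.of K) ⟶ T)
    (h : Spec.map (CommRingCat.ofHom i) ≫ σ = τ) :
    P K (pullback (pullback.snd f σ) (Spec.map (CommRingCat.ofHom i)))
        (pullback.snd (pullback.snd f σ) (Spec.map (CommRingCat.ofHom i))) ↔
      P K (pullback f τ) (pullback.snd f τ) := by
  subst h
  let e := pullbackLeftPullbackSndIso f σ (Spec.map (CommRingCat.ofHom i))
  constructor
  · intro hP
    have := hiso K _ _ e.symm _ hP
    simpa [e] using this
  · intro hP
    have := hiso K _ _ e _ hP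
    simpa [e] using this

end Groth.Agent.FBase64
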