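import Groth.Agent.Cons62.Spread
import Groth.Agent.ConsProp93.PairInst

/-! Fibre properties which descend to stages are ind-constructible on the base. -/

set_option autoImplicit false
universe u

open CategoryTheory CategoryTheory.Limits AlgebraicGeometry TopologicalSpace Topology

namespace Groth.Agent.FBase64

theorem isIndConstructible_goodSet {P : MorphismProperty Scheme.{u}} [P.RespectsIso] [P.IsStableUnderBaseChange]
    (hd : LimDesc62.DescProp ⊤ P) {X Y S : Scheme.{u}} (f : X ⟶ Y) (g : Y ⟶ S) (h : Cons62.FP f g) :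
    ProCons.IsIndConstructible (Cons62.goodSet P f g) := by
  have := LimDesc62.respectsIso_top.{u}
  intro x
  obtain ⟨_, ⟨V₀, hV₀, rfl⟩, hx, -⟩ :=
    S.isBasis_affineOpens.exists_subset_of_mem_open (Set.mem_univ x) isOpen_univ
  let V : S.Opens := V₀
  have hV : IsAffineOpen V := hV₀
  refine ⟨V, V.2, hx, {T | IsLocallyConstructible T ∧ T ⊆ Subtype.val ⁻¹' Cons62.goodSet P f g},
    fun T hT => hT.1, subset_antisymm (fun y hy => ?_) (Set.sUnion_subset fun T hT => hT.2)⟩
  have hpre := Cons62.goodSet_openImmersion (P := P) f g hV.fromSpec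
  have key : ∀ z : (V : Scheme.{u}), (hV.fromSpec (hV.isoSpec.hom z) : S) = V.ι z := fun z =>
    (Scheme.Hom.comp_apply _ _ z).symm.trans (congrArg (fun m : (V : Scheme.{u}) ⟶ S => m z) hV.isoSpec_hom_fromSpec)
  have hmem : hV.isoSpec.hom y ∈ Cons62.goodSet P (pullback.snd f (pullback.fst g hV.fromSpec))
      (pullback.snd g hV.fromSpec) := by
    rw [hpre]
    exact (congrArg (· ∈ Cons62.goodSet P f g) (key y)).mpr hy
  obtain ⟨C, hC, hyC, hCE⟩ := Cons62.exists_nhd_of_desc hd _ _ (h.baseChange hV.fromSpec) trivial _ hmem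
  refine ⟨hV.isoSpec.hom ⁻¹' C, ⟨hC.preimage_of_isOpenEmbedding hV.isoSpec.hom.isOpenEmbedding, fun z hz => ?_⟩, hyC⟩
  have := hCE hz
  rw [hpre] at this
  exact (congrArg (· ∈ Cons62.goodSet P f g) (key z)).mp this

end Groth.Agent.FBase64
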