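import Groth.Prelude.Def_FDesc
import Groth.Agent.Cyc90.PullClosed
import Groth.Agent.FlatMor68.FibreStalk
import Groth.Agent.FlatMor67.GenericFibre
import Mathlib.RingTheory.LocalRing.Length
import Mathlib.AlgebraicGeometry.Morphisms.UniversallyOpen
import Mathlib.AlgebraicGeometry.Geometrically.Reduced

/-! Lengths of local rings at maximal points after a flat base change. -/

set_option autoImplicit false
set_option linter.style.haveILetI false
set_option backward.isDefEq.respectTransparency.types false
set_option maxHeartbeats 1000000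
universe u

open CategoryTheory CategoryTheory.Limits AlgebraicGeometry TopologicalSpace

namespace Groth.Agent.FBase64.LengthBC

theorem maximalIdeal_eq_bot_of_maximal {Z : Scheme.{u}} [IsReduced Z] (w : Z) (hw : ∀ z : Z, z ⤳ w → z = w) :
    IsLocalRing.maximalIdeal (Z.presheaf.stalk w) = ⊥ := by
  have h : ∀ q : PrimeSpectrum (Z.presheaf.stalk w), q.asIdeal = IsLocalRing.maximalIdeal (Z.presheaf.stalk w) := by
    intro q
    have h1 := hw _ ((Set.ext_iff.mp Scheme.range_fromSpecStalk _).mp ⟨q, rfl⟩)
    have h2 : (show Spec (Z.presheaf.stalk w) from q) = IsLocalRing.closedPoint (Z.presheaf.stalk w) :=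
      (Z.fromSpecStalk w).isEmbedding.injective (by rw [Scheme.fromSpecStalk_closedPoint]; exact h1)
    exact congrArg PrimeSpectrum.asIdeal h2
  refine eq_bot_iff.mpr fun a ha => ?_
  have : IsNilpotent a := nilpotent_iff_mem_prime.mpr fun J hJ => by
    rw [show J = _ from h ⟨J, hJ⟩]; exact ha
  exact this.eq_zero

theorem length_field_stalk {Z : Scheme.{u}} (w : Z) (h : IsLocalRing.maximalIdeal (Z.presheaf.stalk w) = ⊥) :
    Module.length (Z.presheaf.stalk w) (Z.presheaf.stalk w) = 1 := by
  letI := (IsLocalRing.isField_iff_maximalIdeal_eq.mpr h).toField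
  exact Module.length_eq_one_iff.mpr inferInstance

theorem isUnit_of_specializes_eq {X : Scheme.{u}} {a b : X} (h : a = b) (r : X.presheaf.stalk b)
    (hu : IsUnit ((X.presheaf.stalkSpecializes (specializes_of_eq h)).hom r)) : IsUnit r := by
  subst h
  simpa using hu

/-- The multiplicity formula along a flat morphism, for a reduced closed subscheme. -/
theorem length_stalk_mul {P X' W : Scheme.{u}} (π : P ⟶ X') [Flat π] (i : W ⟶ X') [IsClosedImmersion i]
    (p : ↑(pullback π i)) (hW : IsLocalRing.maximalIdeal (W.presheaf.stalk (pullback.snd π i p)) = ⊥) :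
    Module.length (P.presheaf.stalk (pullback.fst π i p)) (P.presheaf.stalk (pullback.fst π i p)) =
      Module.length (X'.presheaf.stalk (π (pullback.fst π i p))) (X'.presheaf.stalk (π (pullback.fst π i p))) *
        Module.length ((pullback π i).presheaf.stalk p) ((pullback π i).presheaf.stalk p) := by
  set x := pullback.fst π i p
  let B := P.presheaf.stalk x
  let A := X'.presheaf.stalk (π x)
  let B' := (pullback π i).presheaf.stalk p
  letI : Algebra A B := (π.stalkMap x).hom.toAlgebra
  haveI : IsLocalHom (algebraMap A B) := π.toLRSHom.prop x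
  haveI : Module.Flat A B := Flat.stalkMap π x
  have h1 := IsLocalRing.length_baseChange A B A
  rw [(TensorProduct.AlgebraTensorModule.rid A B B).length_eq] at h1
  rw [h1]
  congr 1
  letI : Algebra B B' := ((pullback.fst π i).stalkMap p).hom.toAlgebra
  have hs : Function.Surjective (algebraMap B B') := (pullback.fst π i).stalkMap_surjective p
  have hker : (IsLocalRing.maximalIdeal A).map (algebraMap A B) = RingHom.ker (Algebra.ofId B B').toRingHom := by
    refine le_antisymm (Ideal.map_le_iff_le_comap.mpr fun r hr => ?_) (Cyc90.ker_fst_stalkMap_le π i p)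
    rw [Ideal.mem_comap, RingHom.mem_ker]
    show ((pullback.fst π i).stalkMap p).hom ((π.stalkMap x).hom r) = 0
    have e := Scheme.Hom.stalkMap_congr_hom (pullback.fst π i ≫ π) (pullback.snd π i ≫ i) pullback.condition p
    rw [Scheme.Hom.stalkMap_comp, Scheme.Hom.stalkMap_comp] at e
    refine (congr($(congrArg CommRingCat.Hom.hom e) r)).trans ?_
    have hw : i (pullback.snd π i p) = π x :=
      congrArg (fun k : pullback π i ⟶ X' => k p) pullback.condition.symm
    show ((pullback.snd π i).stalkMap p).hom ((i.stalkMap _).hom ((X'.presheaf.stalkSpecializes (specializes_of_eq hw)).hom r)) = 0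
    suffices h0 : (i.stalkMap (pullback.snd π i p)).hom ((X'.presheaf.stalkSpecializes (specializes_of_eq hw)).hom r) = 0 by
      rw [h0, map_zero]
    rw [← Ideal.mem_bot, ← hW, IsLocalRing.mem_maximalIdeal, mem_nonunits_iff]
    intro hu
    have hu1 := IsLocalHom.map_nonunit (self := i.toLRSHom.prop _) _ hu
    exact hr (isUnit_of_specializes_eq hw r hu1)
  rw [(Ideal.quotientEquivAlgOfEq B hker).toLinearEquiv.length_eq,
    ← Module.length_eq_of_surjective (M := B') hs]
  exact (Ideal.quotientKerAlgEquivOfSurjective (f := Algebra.ofId B B') hs).toLinearEquiv.length_eq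

end Groth.Agent.FBase64.LengthBC

namespace Groth.Agent.FBase64.LengthBC

theorem length_eq_of_iso {Z Z' : Scheme.{u}} (e : Z ⟶ Z') [IsIso e] (z : Z) :
    Module.length (Z'.presheaf.stalk (e z)) (Z'.presheaf.stalk (e z)) =
      Module.length (Z.presheaf.stalk z) (Z.presheaf.stalk z) := by
  let σ := (asIso (e.stalkMap z)).commRingCatIsoToRingEquiv
  letI : Algebra (Z'.presheaf.stalk (e z)) (Z.presheaf.stalk z) := σ.toRingHom.toAlgebra
  let l : Z'.presheaf.stalk (e z) ≃ₗ[Z'.presheaf.stalk (e z)] Z.presheaf.stalk z :=
    { σ.toAddEquiv with map_smul' := fun a b => map_mul σ a b }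
  rw [l.length_eq, Module.length_eq_of_surjective (M := Z.presheaf.stalk z) (S := Z'.presheaf.stalk (e z)) σ.surjective]

theorem bc_length_mul {k' k'' : Type u} [Field k'] [Field k''] [Algebra k' k''] {X' : Scheme.{u}}
    (s : X' ⟶ Spec (CommRingCat.of k')) (x'' : ↥(FBase.bc s k''))
    (hx'' : ∀ z : ↥(FBase.bc s k''), z ⤳ x'' → z = x'')
    (z'' : ↥(FBase.bc (X'.nilradical.subschemeι ≫ s) k''))
    (hz'' : pullback.map (X'.nilradical.subschemeι ≫ s)
        (Spec.map (CommRingCat.ofHom (algebraMap k' k''))) s
        (Spec.map (CommRingCat.ofHom (algebraMap k' k''))) X'.nilradical.subschemeι (𝟙 _) (𝟙 _)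
        (Category.comp_id _) ((Category.comp_id _).trans (Category.id_comp _).symm) z'' = x'') :
    Module.length ((FBase.bc s k'').presheaf.stalk x'') ((FBase.bc s k'').presheaf.stalk x'') =
      Module.length (X'.presheaf.stalk (FBase.bcπ s k'' x'')) (X'.presheaf.stalk (FBase.bcπ s k'' x'')) *
        Module.length ((FBase.bc (X'.nilradical.subschemeι ≫ s) k'').presheaf.stalk z'')
          ((FBase.bc (X'.nilradical.subschemeι ≫ s) k'').presheaf.stalk z'') := by
  let g := Spec.map (CommRingCat.ofHom (algebraMap k' k''))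
  haveI : Flat g := by
    rw [HasRingHomProperty.Spec_iff (P := @Flat)]
    exact RingHom.flat_algebraMap_iff.mpr inferInstance
  let i := X'.nilradical.subschemeι
  let j : pullback (i ≫ s) g ⟶ pullback s g := pullback.map (i ≫ s) g s g i (𝟙 _) (𝟙 _)
    (Category.comp_id _) ((Category.comp_id _).trans (Category.id_comp _).symm)
  have hj : j ≫ pullback.snd s g = pullback.snd (i ≫ s) g :=
    (pullback.lift_snd _ _ _).trans (Category.comp_id _)
  have hsq : IsPullback j (pullback.fst (i ≫ s) g) (pullback.fst s g) i :=
    (IsPullback.of_bot (hj.symm ▸ IsPullback.of_hasPullback (i ≫ s) g) (pullback.lift_fst _ _ _).symm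
      (IsPullback.of_hasPullback s g)).flip
  let e := hsq.isoPullback
  let p := e.hom z''
  have hp : pullback.fst (pullback.fst s g) i p = x'' := by
    rw [← Scheme.Hom.comp_apply, hsq.isoPullback_hom_fst]
    exact hz''
  haveI := FlatMor67.isReduced_subscheme_nilradical X'
  have hW : IsLocalRing.maximalIdeal (X'.nilradical.subscheme.presheaf.stalk
      (pullback.snd (pullback.fst s g) i p)) = ⊥ := by
    refine maximalIdeal_eq_bot_of_maximal _ fun w hw => i.isEmbedding.injective ?_
    have h1 : i (pullback.snd (pullback.fst s g) i p) = pullback.fst s g x'' := by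
      rw [← hp]
      exact (congr($(pullback.condition (f := pullback.fst s g) (g := i)) p)).symm
    rw [h1]
    obtain ⟨z, hz, hze⟩ := Flat.generalizingMap (pullback.fst s g)
      (show i w ⤳ pullback.fst s g x'' from h1 ▸ hw.map i.continuous)
    rw [← hze, hx'' z hz]
  have key := length_stalk_mul (pullback.fst s g) i p hW
  have hc : ∀ y, y = x'' → Module.length ((pullback s g).presheaf.stalk x'') ((pullback s g).presheaf.stalk x'') =
      Module.length ((pullback s g).presheaf.stalk y) ((pullback s g).presheaf.stalk y) ∧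
      Module.length (X'.presheaf.stalk (pullback.fst s g x'')) (X'.presheaf.stalk (pullback.fst s g x'')) =
      Module.length (X'.presheaf.stalk (pullback.fst s g y)) (X'.presheaf.stalk (pullback.fst s g y)) := by
    rintro y rfl; exact ⟨rfl, rfl⟩
  obtain ⟨h1, h2⟩ := hc _ hp
  refine (h1.trans key).trans ?_
  rw [← h2, length_eq_of_iso e.hom z'']
  rfl

end Groth.Agent.FBase64.LengthBC
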