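import Groth.Agent.FBase64.Products
import Mathlib.AlgebraicGeometry.Noetherian
import Mathlib.AlgebraicGeometry.Morphisms.FiniteType
import Mathlib.RingTheory.Ideal.GoingUp

/-!
Openness of the geometrically reduced and geometrically pointwise integral loci.
-/

universe u

namespace Groth.Agent.FBase64

open CategoryTheory CategoryTheory.Limits AlgebraicGeometry TensorProduct

/-- In a Noetherian ring some basic open injects into the local ring at a prime. -/
theorem exists_away_injective {A : Type u} [CommRing A] [IsNoetherianRing A] (p : Ideal A) [p.IsPrime] :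
    ∃ (f : A) (hf : f ∉ p),
      Function.Injective (IsLocalization.Away.lift f
        (g := algebraMap A (Localization.AtPrime p))
        (IsLocalization.map_units (M := p.primeCompl) _ ⟨f, hf⟩) :
          Localization.Away f →+* Localization.AtPrime p) := by
  obtain ⟨s, hs⟩ := (IsNoetherian.noetherian (RingHom.ker (algebraMap A (Localization.AtPrime p))))
  have hc : ∀ a ∈ s, ∃ c : p.primeCompl, (c : A) * a = 0 := fun a ha => by
    have : a ∈ RingHom.ker (algebraMap A (Localization.AtPrime p)) := hs ▸ Submodule.subset_span ha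
    exact (IsLocalization.map_eq_zero_iff p.primeCompl (Localization.AtPrime p) a).mp this
  choose c hc using hc
  let f : p.primeCompl := ∏ a : s, c a.1 a.2
  refine ⟨(f : A), f.2, ?_⟩
  rw [injective_iff_map_eq_zero]
  intro z hz
  obtain ⟨a, ⟨_, n, rfl⟩, rfl⟩ := IsLocalization.exists_mk'_eq (Submonoid.powers (f : A)) z
  have hz' : algebraMap A (Localization.AtPrime p) a = 0 := by
    have h2 := congrArg (fun w => w * algebraMap A (Localization.AtPrime p) ((f : A) ^ n)) hz
    simp only [zero_mul] at h2
    rw [← IsLocalization.Away.lift_eq (S := Localization.Away (f : A)) (f : A)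
      (g := algebraMap A (Localization.AtPrime p))
      (IsLocalization.map_units (M := p.primeCompl) _ f) ((f : A) ^ n), ← map_mul,
      IsLocalization.mk'_spec, IsLocalization.Away.lift_eq] at h2
    exact h2
  rw [IsLocalization.mk'_eq_zero_iff]
  refine ⟨⟨(f : A), 1, pow_one _⟩, ?_⟩
  have hle : (RingHom.ker (algebraMap A (Localization.AtPrime p))) ≤
      (⊥ : Ideal A).colon {(f : A)} := by
    rw [← hs]
    refine Submodule.span_le.mpr fun b hb => ?_
    rw [SetLike.mem_coe, Submodule.mem_colon_singleton, smul_eq_mul, Ideal.mem_bot]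
    obtain ⟨d, hd⟩ : (c b hb : A) ∣ (f : A) := by
      rw [Submonoid.coe_finsetProd]
      exact Finset.dvd_prod_of_mem (fun a : s => (c a.1 a.2 : A)) (Finset.mem_univ ⟨b, hb⟩)
    rw [hd, ← mul_assoc, mul_comm b, hc b hb, zero_mul]
  have h3 := hle (RingHom.mem_ker.mpr hz')
  rw [Submodule.mem_colon_singleton, smul_eq_mul, Ideal.mem_bot] at h3
  rw [mul_comm]
  exact h3

theorem isGeometricallyReduced_atPrime {k A : Type u} [Field k] [CommRing A] [Algebra k A]
    (p : Ideal A) [p.IsPrime]
    (h : ∀ P : Ideal (A ⊗[k] AlgebraicClosure k), ∀ _ : P.IsPrime,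
      P.comap (algebraMap A _) = p → IsReduced (Localization.AtPrime P)) :
    Algebra.IsGeometricallyReduced k (Localization.AtPrime p) := by
  rw [Algebra.isGeometricallyReduced_field_iff]
  suffices IsReduced (Localization.AtPrime p ⊗[k] AlgebraicClosure k) from isReduced_tensor_comm
  let S := A ⊗[k] AlgebraicClosure k
  have : IsReduced (S ⊗[A] Localization.AtPrime p) := by
    refine ⟨fun z hz => ?_⟩
    let M := Algebra.algebraMapSubmonoid S p.primeCompl
    obtain ⟨x, m, rfl⟩ := IsLocalization.exists_mk'_eq M z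
    obtain ⟨n, hn⟩ := hz
    rw [← IsLocalization.mk'_pow, IsLocalization.mk'_eq_zero_iff] at hn
    obtain ⟨⟨_, g0, hg0, rfl⟩, hn⟩ := hn
    let J : Ideal S := (⊥ : Ideal S).colon {x}
    by_cases hJ : J.comap (algebraMap A S) ≤ p
    · have : Algebra.IsIntegral A S := inferInstance
      obtain ⟨P, hJP, hP, hPp⟩ := Ideal.exists_ideal_over_prime_of_isIntegral p J hJ
      exfalso
      have := h P hP hPp
      have hnil : IsNilpotent (algebraMap S (Localization.AtPrime P) x) := by
        refine ⟨n, ?_⟩
        rw [← map_pow, IsLocalization.map_eq_zero_iff P.primeCompl]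
        exact ⟨⟨algebraMap A S g0, fun hh => hg0 (hPp.le hh)⟩, hn⟩
      obtain ⟨c, hc⟩ := (IsLocalization.map_eq_zero_iff P.primeCompl _ x).mp hnil.eq_zero
      exact c.2 (hJP (by
        rw [Submodule.mem_colon_singleton, smul_eq_mul, Ideal.mem_bot]; exact hc))
    · obtain ⟨g, hgJ, hgp⟩ := SetLike.not_le_iff_exists.mp hJ
      rw [IsLocalization.mk'_eq_zero_iff]
      refine ⟨⟨algebraMap A S g, Algebra.mem_algebraMapSubmonoid_of_mem ⟨g, hgp⟩⟩, ?_⟩
      rw [Ideal.mem_comap, Submodule.mem_colon_singleton, smul_eq_mul, Ideal.mem_bot] at hgJ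
      exact hgJ
  let e : S ⊗[A] Localization.AtPrime p ≃+* Localization.AtPrime p ⊗[k] AlgebraicClosure k :=
    (Algebra.TensorProduct.comm A S (Localization.AtPrime p)).toRingEquiv.trans
      (Algebra.TensorProduct.cancelBaseChange k A A (Localization.AtPrime p) (AlgebraicClosure k)).toRingEquiv
  exact isReduced_of_injective e.symm e.symm.injective

theorem isOpen_setOf_isDomain_stalk {Y : Scheme.{u}} [IsLocallyNoetherian Y] :
    IsOpen {y : Y | IsDomain (Y.presheaf.stalk y)} := by
  rw [isOpen_iff_forall_mem_open]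
  intro y (hy : IsDomain (Y.presheaf.stalk y))
  obtain ⟨R, j, hji, ⟨P, rfl⟩, -⟩ :=
    Scheme.exists_affine_mem_range_and_range_subset (U := (⊤ : Y.Opens)) (Set.mem_univ y)
  have := isLocallyNoetherian_of_isOpenImmersion j
  have : IsNoetherianRing R :=
    have : IsNoetherianRing Γ(Spec R, ⊤) :=
      IsLocallyNoetherian.component_noetherian ⟨⊤, isAffineOpen_top (Spec R)⟩
    isNoetherianRing_of_ringEquiv _ (Scheme.ΓSpecIso R).commRingCatIsoToRingEquiv
  obtain ⟨e⟩ := nonempty_stalkEquiv (R := R) j P
  have : IsDomain (Localization.AtPrime (show PrimeSpectrum R from P).asIdeal) :=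
    e.symm.toMulEquiv.isDomain
  obtain ⟨f, hf, hinj⟩ := exists_away_injective (show PrimeSpectrum R from P).asIdeal
  have : IsDomain (Localization.Away f) := Function.Injective.isDomain _ hinj
  let jf : Spec (CommRingCat.of (Localization.Away f)) ⟶ Spec R :=
    Spec.map (CommRingCat.ofHom (algebraMap R (Localization.Away f)))
  have hjf : IsOpenImmersion jf := inferInstance
  refine ⟨Set.range (jf ≫ j), ?_, (jf ≫ j).isOpenEmbedding.isOpen_range, ?_⟩
  · rintro _ ⟨Q, rfl⟩
    obtain ⟨e'⟩ := nonempty_stalkEquiv (jf ≫ j) Q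
    have : IsDomain (Localization.AtPrime (show PrimeSpectrum (Localization.Away f) from Q).asIdeal) :=
      isDomain_of_localization (show PrimeSpectrum (Localization.Away f) from Q).asIdeal.primeCompl
    exact e'.toMulEquiv.isDomain
  · have hP : P ∈ Set.range jf := by
      refine (PrimeSpectrum.localization_away_comap_range (Localization.Away f) f).ge ?_
      exact hf
    obtain ⟨Q, hQ⟩ := hP
    exact ⟨Q, by rw [Scheme.Hom.comp_apply, hQ]⟩

variable {k : Type u} [Field k] {X : Scheme.{u}} (f : X ⟶ Spec (CommRingCat.of k))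

theorem isOpen_setOf_isGeomPtIntegralAt [LocallyOfFiniteType f] :
    IsOpen {x : X | FBase.IsGeomPtIntegralAt f x} := by
  let p := pullback.fst f (Spec.map (CommRingCat.ofHom (algebraMap k (AlgebraicClosure k))))
  have : IsLocallyNoetherian (pullback f (Spec.map (CommRingCat.ofHom (algebraMap k (AlgebraicClosure k))))) :=
    LocallyOfFiniteType.isLocallyNoetherian (pullback.snd f (Spec.map (CommRingCat.ofHom (algebraMap k (AlgebraicClosure k)))))
  convert p.isOpenMap _ isOpen_setOf_isDomain_stalk
  ext x
  constructor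
  · intro h
    obtain ⟨x', rfl⟩ := p.surjective x
    exact ⟨x', h (AlgebraicClosure k) x' rfl, rfl⟩
  · rintro ⟨x', hx', rfl⟩
    have : IsDomain ((FBase.bc f (AlgebraicClosure k)).presheaf.stalk x') := hx'
    exact isGeomPtIntegralAt_of_isAlgClosed f _ x' rfl

theorem isGeometricallyReduced_atPrime_of_point {A : Type u} [CommRing A] [Algebra k A]
    (j : Spec (CommRingCat.of A) ⟶ X) [IsOpenImmersion j]
    (hj : j ≫ f = Spec.map (CommRingCat.ofHom (algebraMap k A))) (q : PrimeSpectrum A)
    (h : FBase.IsGeomReducedAt f (j q)) :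
    Algebra.IsGeometricallyReduced k (Localization.AtPrime q.asIdeal) := by
  refine isGeometricallyReduced_atPrime q.asIdeal fun P hP hPp => ?_
  let tK := Spec.map (CommRingCat.ofHom (algebraMap k (AlgebraicClosure k)))
  let P' : ↥(Spec (CommRingCat.of (A ⊗[k] AlgebraicClosure k))) :=
    (⟨P, hP⟩ : PrimeSpectrum (A ⊗[k] AlgebraicClosure k))
  let c := prodChart f tK j (𝟙 _) hj (Category.id_comp _)
  have hq : Spec.map (CommRingCat.ofHom (algebraMap A (A ⊗[k] AlgebraicClosure k))) P' = q :=
    PrimeSpectrum.ext hPp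
  have := h (AlgebraicClosure k) (c P') (by
    show pullback.fst f tK (c P') = j q
    rw [← Scheme.Hom.comp_apply, prodChart_fst, Scheme.Hom.comp_apply]
    exact congrArg j hq)
  obtain ⟨e⟩ := nonempty_stalkEquiv c P'
  have : IsReduced ((pullback f tK).presheaf.stalk (c P')) := this
  exact isReduced_of_injective e.symm e.symm.injective

theorem isOpen_setOf_isGeomReducedAt [IsLocallyNoetherian X] :
    IsOpen {x : X | FBase.IsGeomReducedAt f x} := by
  rw [isOpen_iff_forall_mem_open]
  intro x hx
  obtain ⟨A, _, _, j, _, ⟨q, rfl⟩, hj⟩ := exists_chart f x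
  have := isLocallyNoetherian_of_isOpenImmersion j
  have : IsNoetherianRing A :=
    have : IsNoetherianRing Γ(Spec (CommRingCat.of A), ⊤) :=
      IsLocallyNoetherian.component_noetherian ⟨⊤, isAffineOpen_top (Spec (CommRingCat.of A))⟩
    isNoetherianRing_of_ringEquiv _ (Scheme.ΓSpecIso (CommRingCat.of A)).commRingCatIsoToRingEquiv
  have hq := isGeometricallyReduced_atPrime_of_point f j hj q hx
  obtain ⟨g, hg, hinj⟩ := exists_away_injective (show PrimeSpectrum A from q).asIdeal
  let φ : Localization.Away g →ₐ[k] Localization.AtPrime (show PrimeSpectrum A from q).asIdeal :=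
    { toRingHom := IsLocalization.Away.lift g
        (g := algebraMap A (Localization.AtPrime (show PrimeSpectrum A from q).asIdeal))
        (IsLocalization.map_units (M := (show PrimeSpectrum A from q).asIdeal.primeCompl) _ ⟨g, hg⟩)
      commutes' := fun r => by
        rw [IsScalarTower.algebraMap_apply k A (Localization.Away g)]
        simp only [RingHom.toMonoidHom_eq_coe, OneHom.toFun_eq_coe, MonoidHom.toOneHom_coe,
          MonoidHom.coe_coe, IsLocalization.Away.lift_eq]
        rw [← IsScalarTower.algebraMap_apply] }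
  have hgr : Algebra.IsGeometricallyReduced k (Localization.Away g) :=
    Algebra.IsGeometricallyReduced.of_injective φ hinj
  let jg : Spec (CommRingCat.of (Localization.Away g)) ⟶ X :=
    Spec.map (CommRingCat.ofHom (algebraMap A (Localization.Away g))) ≫ j
  have hjg : jg ≫ f = Spec.map (CommRingCat.ofHom (algebraMap k (Localization.Away g))) := by
    simp only [jg, Category.assoc, hj, ← Spec.map_comp, ← CommRingCat.ofHom_comp,
      ← IsScalarTower.algebraMap_eq]
  refine ⟨Set.range jg, ?_, jg.isOpenEmbedding.isOpen_range, ?_⟩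
  · intro y hy
    let tK := Spec.map (CommRingCat.ofHom (algebraMap k (AlgebraicClosure k)))
    obtain ⟨y', hy'⟩ := (pullback.fst f tK).surjective y
    obtain ⟨P, hP⟩ : y' ∈ Set.range (prodChart f tK jg (𝟙 _) hjg (Category.id_comp _)) := by
      rw [range_prodChart]
      exact ⟨by rw [Set.mem_preimage, hy']; exact hy, ⟨_, rfl⟩⟩
    have h0 := (Algebra.isGeometricallyReduced_field_iff k (Localization.Away g)).mp hgr
    have : IsReduced (Localization.Away g ⊗[k] AlgebraicClosure k) := isReduced_tensor_comm
    obtain ⟨e⟩ := nonempty_stalkEquiv (prodChart f tK jg (𝟙 _) hjg (Category.id_comp _)) P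
    have : IsReduced ((FBase.bc f (AlgebraicClosure k)).presheaf.stalk
        (prodChart f tK jg (𝟙 _) hjg (Category.id_comp _) P)) :=
      isReduced_of_injective e e.injective
    exact isGeomReducedAt_of_perfect f y _ (by rw [← hy', ← hP]; rfl)
  · have hP : (show PrimeSpectrum A from q) ∈ Set.range
        (PrimeSpectrum.comap (algebraMap A (Localization.Away g))) :=
      (PrimeSpectrum.localization_away_comap_range (Localization.Away g) g).ge hg
    obtain ⟨Q, hQ⟩ := hP
    exact ⟨Q, congrArg j hQ⟩

end Groth.Agent.FBase64
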