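import Groth.Agent.FBase64.PointCmp
import Mathlib.RingTheory.Localization.Submodule
import Mathlib.FieldTheory.PurelyInseparable.PerfectClosure
import Mathlib.LinearAlgebra.TensorProduct.RightExactness

/-! Reduction becomes geometrically reduced after a finite purely inseparable extension. -/

set_option autoImplicit false
set_option linter.style.haveILetI false
set_option backward.isDefEq.respectTransparency.types false
set_option maxHeartbeats 1000000
set_option synthInstance.maxHeartbeats 200000
universe u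

open CategoryTheory CategoryTheory.Limits AlgebraicGeometry TensorProduct

namespace Groth.Agent.FBase64.PIReduce

theorem isGeometricallyReduced_of_perfect {L B Ω : Type u} [Field L] [CommRing B] [Algebra L B] [Field Ω]
    [Algebra L Ω] [PerfectField Ω] [_root_.IsReduced (Ω ⊗[L] B)] : Algebra.IsGeometricallyReduced L B := by
  haveI : _root_.IsReduced (B ⊗[L] Ω) :=
    isReduced_of_injective (Algebra.TensorProduct.comm L B Ω) (Algebra.TensorProduct.comm L B Ω).injective
  let f := Spec.map (CommRingCat.ofHom (algebraMap L B))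
  haveI : AlgebraicGeometry.IsReduced (Spec (CommRingCat.of (B ⊗[L] Ω))) := inferInstance
  haveI : AlgebraicGeometry.IsReduced (FBase.bc f Ω) := isReduced_of_isOpenImmersion (pullbackSpecIso L B Ω).hom
  haveI := geometricallyReduced_of_isReduced_perfect f Ω
  haveI : AlgebraicGeometry.IsReduced (pullback f (Spec.map (CommRingCat.ofHom (algebraMap L (AlgebraicClosure L))))) :=
    GeometricallyReduced.geometrically_isReduced (Spec.map (CommRingCat.ofHom (algebraMap L (AlgebraicClosure L))))
      (pullback.fst _ _) (pullback.snd _ _) (IsPullback.of_hasPullback _ _)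
  haveI : AlgebraicGeometry.IsReduced (Spec (CommRingCat.of (B ⊗[L] AlgebraicClosure L))) :=
    isReduced_of_isOpenImmersion (pullbackSpecIso L B (AlgebraicClosure L)).inv
  haveI : _root_.IsReduced (B ⊗[L] AlgebraicClosure L) := (affine_isReduced_iff _).mp this
  rw [Algebra.isGeometricallyReduced_field_iff]
  exact isReduced_of_injective (Algebra.TensorProduct.comm L (AlgebraicClosure L) B)
    (Algebra.TensorProduct.comm L (AlgebraicClosure L) B).injective

theorem isGeometricallyReduced_quotient_nilradical {L A Ω : Type u} [Field L] [CommRing A] [Algebra L A]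
    [Field Ω] [Algebra L Ω] [PerfectField Ω]
    (h : nilradical (Ω ⊗[L] A) ≤
      (nilradical A).map (Algebra.TensorProduct.includeRight : A →ₐ[L] Ω ⊗[L] A)) :
    Algebra.IsGeometricallyReduced L (A ⧸ nilradical A) := by
  let q : A →ₐ[L] A ⧸ nilradical A := Ideal.Quotient.mkₐ L _
  have hq : Function.Surjective q := Ideal.Quotient.mk_surjective
  have hker : RingHom.ker q = nilradical A := Ideal.Quotient.mkₐ_ker L _
  let π : Ω ⊗[L] A →ₐ[L] Ω ⊗[L] (A ⧸ nilradical A) := Algebra.TensorProduct.map (AlgHom.id L Ω) q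
  have hπ : Function.Surjective π := LinearMap.lTensor_surjective Ω hq
  have hkπ : RingHom.ker π = (nilradical A).map (Algebra.TensorProduct.includeRight : A →ₐ[L] Ω ⊗[L] A) := by
    rw [Algebra.TensorProduct.lTensor_ker q hq, hker]
  haveI : _root_.IsReduced (Ω ⊗[L] (A ⧸ nilradical A)) := by
    refine ⟨fun b hb => ?_⟩
    obtain ⟨a, rfl⟩ := hπ b
    obtain ⟨n, hn⟩ := hb
    rw [← map_pow] at hn
    have h1 : a ^ n ∈ RingHom.ker π := hn
    rw [hkπ] at h1
    have h2 : a ^ n ∈ nilradical (Ω ⊗[L] A) :=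
      (Ideal.map_le_iff_le_comap.mpr fun x hx => mem_nilradical.mpr ((mem_nilradical.mp hx).map _)) h1
    obtain ⟨m, hm⟩ := mem_nilradical.mp h2
    have h3 : a ∈ RingHom.ker π := hkπ.symm ▸ h (mem_nilradical.mpr ⟨n * m, by rw [pow_mul]; exact hm⟩)
    exact h3
  exact isGeometricallyReduced_of_perfect (Ω := Ω) (B := A ⧸ nilradical A)

theorem reduce_tower {k L Ω A : Type u} [Field k] [Field L] [Field Ω] [CommRing A] [Algebra k L] [Algebra k Ω]
    [Algebra L Ω] [IsScalarTower k L Ω] [Algebra k A] [PerfectField Ω] (s : Set (Ω ⊗[k] A))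
    (hs : Ideal.span s = nilradical (Ω ⊗[k] A))
    (hgen : ∀ u ∈ s, u ∈ Set.range (Algebra.TensorProduct.map (IsScalarTower.toAlgHom k L Ω) (AlgHom.id k A))) :
    Algebra.IsGeometricallyReduced L ((L ⊗[k] A) ⧸ nilradical (L ⊗[k] A)) := by
  let φ : L ⊗[k] A →ₐ[k] Ω ⊗[k] A := Algebra.TensorProduct.map (IsScalarTower.toAlgHom k L Ω) (AlgHom.id k A)
  have hφ : Function.Injective φ :=
    Module.Flat.rTensor_preserves_injective_linearMap (IsScalarTower.toAlgHom k L Ω).toLinearMap
      (algebraMap L Ω).injective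
  let e : Ω ⊗[L] (L ⊗[k] A) ≃ₐ[L] Ω ⊗[k] A := Algebra.TensorProduct.cancelBaseChange k L L Ω A
  have heφ : ∀ x : L ⊗[k] A, e ((1 : Ω) ⊗ₜ[L] x) = φ x := by
    intro x
    induction x with
    | zero => simp
    | add a b ha hb => rw [TensorProduct.tmul_add, map_add, map_add, ha, hb]
    | tmul a b =>
      rw [Algebra.TensorProduct.cancelBaseChange_tmul, Algebra.TensorProduct.map_tmul]
      simp [Algebra.smul_def]
  refine isGeometricallyReduced_quotient_nilradical (Ω := Ω) ?_
  intro t ht
  have ht' : e t ∈ Ideal.span s := hs.symm ▸ mem_nilradical.mpr ((mem_nilradical.mp ht).map e)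
  have hle : Ideal.span s ≤
      ((nilradical (L ⊗[k] A)).map
        (Algebra.TensorProduct.includeRight : L ⊗[k] A →ₐ[L] Ω ⊗[L] (L ⊗[k] A))).comap e.symm := by
    rw [Ideal.span_le]
    intro u hu
    obtain ⟨x, hx⟩ := hgen u hu
    have hxJ : x ∈ nilradical (L ⊗[k] A) := by
      have hn : IsNilpotent u := mem_nilradical.mp (hs ▸ Submodule.subset_span hu)
      rw [← hx] at hn
      obtain ⟨n, hn⟩ := hn
      exact mem_nilradical.mpr ⟨n, hφ (by rw [map_pow, hn, map_zero])⟩
    rw [SetLike.mem_coe, Ideal.mem_comap, ← hx, ← heφ, e.symm_apply_apply]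
    exact Ideal.mem_map_of_mem _ hxJ
  have h2 := hle ht'
  rw [Ideal.mem_comap, e.symm_apply_apply] at h2
  exact h2

theorem exists_reduce_aux {k : Type u} [Field k] (A : Type u) [CommRing A] [Algebra k A]
    [Algebra.EssFiniteType k A] (Ω : Type u) [Field Ω] [Algebra k Ω] [IsPurelyInseparable k Ω] [PerfectField Ω] :
    ∃ (k' : Type u) (_ : Field k') (_ : Algebra k k'), FiniteDimensional k k' ∧ IsPurelyInseparable k k' ∧
      Algebra.IsGeometricallyReduced k' ((k' ⊗[k] A) ⧸ nilradical (k' ⊗[k] A)) := by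
  classical
  haveI : IsNoetherianRing (Ω ⊗[k] A) := Algebra.EssFiniteType.isNoetherianRing Ω (Ω ⊗[k] A)
  obtain ⟨s, hs⟩ := (IsNoetherian.noetherian (nilradical (Ω ⊗[k] A)) : (nilradical (Ω ⊗[k] A)).FG)
  choose T hT using fun t : Ω ⊗[k] A => TensorProduct.exists_finset t
  let S : Finset Ω := s.biUnion fun t => (T t).image Prod.fst
  let L : IntermediateField k Ω := IntermediateField.adjoin k (S : Set Ω)
  haveI : FiniteDimensional k L :=
    IntermediateField.finiteDimensional_adjoin fun a _ => Algebra.IsIntegral.isIntegral a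
  haveI : IsPurelyInseparable k L := IsPurelyInseparable.tower_bot k L Ω
  refine ⟨L, inferInstance, inferInstance, inferInstance, inferInstance,
    reduce_tower (L := L) (s : Set (Ω ⊗[k] A)) hs fun u hu => ?_⟩
  rw [hT u]
  refine Subalgebra.sum_mem (Algebra.TensorProduct.map (IsScalarTower.toAlgHom k L Ω) (AlgHom.id k A)).range
    fun i hi => ?_
  have : i.1 ∈ L := IntermediateField.subset_adjoin k _
    (Finset.mem_biUnion.mpr ⟨u, hu, Finset.mem_image_of_mem _ hi⟩)
  exact ⟨(⟨i.1, this⟩ : L) ⊗ₜ[k] i.2, Algebra.TensorProduct.map_tmul _ _ _ _⟩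

theorem exists_reduce {k : Type u} [Field k] (A : Type u) [CommRing A] [Algebra k A] [Algebra.EssFiniteType k A] :
    ∃ (k' : Type u) (_ : Field k') (_ : Algebra k k'), FiniteDimensional k k' ∧ IsPurelyInseparable k k' ∧
      Algebra.IsGeometricallyReduced k' ((k' ⊗[k] A) ⧸ nilradical (k' ⊗[k] A)) :=
  exists_reduce_aux A (perfectClosure k (AlgebraicClosure k))

end Groth.Agent.FBase64.PIReduce

namespace Groth.Agent.FBase64.PIReduce

theorem maximal_eq_nilradical {k k' K : Type u} [Field k] [Field k'] [Field K] [Algebra k k'] [Algebra k K]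
    [IsPurelyInseparable k k'] (m : Ideal (k' ⊗[k] K)) (hm : m.IsMaximal) : m = nilradical (k' ⊗[k] K) := by
  refine le_antisymm (fun x hx => mem_nilradical.mpr ?_) (nilradical_le_prime m)
  obtain ⟨n, hn, c, hc⟩ :=
    IsPurelyInseparable.exists_pow_mem_range_tensorProduct (k := k) (K := k') (R := K)
      (Algebra.TensorProduct.comm k k' K x)
  by_cases hc0 : c = 0
  · refine ⟨n, (Algebra.TensorProduct.comm k k' K).injective ?_⟩
    rw [map_pow, ← hc, hc0, map_zero, map_zero]
  · exfalso
    have hu : IsUnit ((Algebra.TensorProduct.comm k k' K x) ^ n) := hc ▸ (isUnit_iff_ne_zero.mpr hc0).map _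
    rw [← map_pow] at hu
    have hu' := hu.map (Algebra.TensorProduct.comm k k' K).symm
    rw [AlgEquiv.symm_apply_apply] at hu'
    exact hm.ne_top (Ideal.eq_top_of_isUnit_mem m (Ideal.pow_mem_of_mem m hx n hn) hu')

end Groth.Agent.FBase64.PIReduce
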