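import Mathlib.Topology.LocallyClosed
import Mathlib.Topology.Sets.Opens

/-! Quasi-homeomorphisms and quasi-constructible sets. -/

set_option autoImplicit false
universe u

namespace Groth.Agent.FBase64

variable {X Y : Type u} [TopologicalSpace X] [TopologicalSpace Y]

/-- Finite union of locally closed sets. -/
def QC (Z : Set Y) : Prop := ∃ T : Set (Set Y), T.Finite ∧ (∀ t ∈ T, IsLocallyClosed t) ∧ Z = ⋃₀ T

theorem QC.preimage {Z : Set Y} (h : QC Z) {f : X → Y} (hf : Continuous f) : QC (f ⁻¹' Z) := by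
  obtain ⟨T, hT, hlc, rfl⟩ := h
  refine ⟨(f ⁻¹' ·) '' T, hT.image _, ?_, ?_⟩
  · rintro _ ⟨t, ht, rfl⟩; exact (hlc t ht).preimage hf
  · rw [Set.preimage_sUnion, Set.sUnion_image]

theorem QC.inter_open {Z V : Set Y} (h : QC Z) (hV : IsOpen V) : QC (Z ∩ V) := by
  obtain ⟨T, hT, hlc, rfl⟩ := h
  refine ⟨(· ∩ V) '' T, hT.image _, ?_, ?_⟩
  · rintro _ ⟨t, ht, rfl⟩; exact (hlc t ht).inter hV.isLocallyClosed
  · rw [Set.sUnion_image, Set.sUnion_eq_biUnion, Set.iUnion₂_inter]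

theorem qc_subtype_iff {Z V : Set Y} (hV : IsOpen V) :
    QC (Subtype.val ⁻¹' Z : Set V) ↔ QC (Z ∩ V) := by
  refine ⟨fun ⟨T, hT, hlc, hZ⟩ => ⟨(Subtype.val '' ·) '' T, hT.image _, ?_, ?_⟩, fun h => ?_⟩
  · rintro _ ⟨t, ht, rfl⟩
    obtain ⟨U, C, hU, hC, rfl⟩ := hlc t ht
    obtain ⟨U', hU', rfl⟩ := isOpen_induced_iff.mp hU
    obtain ⟨C', hC', rfl⟩ := isClosed_induced_iff.mp hC
    refine ⟨U' ∩ V, C', hU'.inter hV, hC', ?_⟩
    ext y
    simp [Set.mem_image]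
    tauto
  · rw [Set.sUnion_image, ← Set.image_iUnion₂, ← Set.sUnion_eq_biUnion, ← hZ, Subtype.image_preimage_coe,
      Set.inter_comm]
  · have h2 := h.preimage (continuous_subtype_val : Continuous (Subtype.val : V → Y))
    rwa [Set.preimage_inter, Subtype.coe_preimage_self, Set.inter_univ] at h2

variable {f : X → Y} (hf : Continuous f)
  (hq : Function.Bijective (fun U : TopologicalSpace.Opens Y =>
      (⟨f ⁻¹' (U : Set Y), U.isOpen.preimage hf⟩ : TopologicalSpace.Opens X)))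

include hq in
theorem open_eq {U V : Set Y} (hU : IsOpen U) (hV : IsOpen V) (h : f ⁻¹' U = f ⁻¹' V) : U = V :=
  congrArg (fun W : TopologicalSpace.Opens Y => (W : Set Y))
    (hq.1 (a₁ := ⟨U, hU⟩) (a₂ := ⟨V, hV⟩) (TopologicalSpace.Opens.ext h))

include hq in
theorem exists_open {U : Set X} (hU : IsOpen U) : ∃ U' : Set Y, IsOpen U' ∧ f ⁻¹' U' = U := by
  obtain ⟨W, hW⟩ := hq.2 ⟨U, hU⟩
  exact ⟨W, W.isOpen, congrArg (fun V : TopologicalSpace.Opens X => (V : Set X)) hW⟩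

include hq in
theorem lc_eq_empty {W : Set Y} (hW : IsLocallyClosed W) (h : f ⁻¹' W = ∅) : W = ∅ := by
  obtain ⟨U, C, hU, hC, rfl⟩ := hW
  have : U = U ∩ Cᶜ := open_eq hf hq hU (hU.inter hC.isOpen_compl) (by
    ext x
    have := Set.eq_empty_iff_forall_notMem.mp h x
    simp only [Set.mem_preimage, Set.mem_inter_iff, Set.mem_compl_iff] at this ⊢
    tauto)
  rw [this, Set.inter_assoc]
  simp

theorem exists_lc_avoid {T : Set (Set Y)} (hT : T.Finite) (hlc : ∀ t ∈ T, IsLocallyClosed t) {y : Y}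
    (hy : y ∉ ⋃₀ T) : ∃ W : Set Y, IsLocallyClosed W ∧ y ∈ W ∧ Disjoint W (⋃₀ T) := by
  induction T, hT using Set.Finite.induction_on with
  | empty => exact ⟨Set.univ, isOpen_univ.isLocallyClosed, trivial, by simp⟩
  | @insert t T _ _ ih =>
    rw [Set.sUnion_insert, Set.mem_union, not_or] at hy
    obtain ⟨W, hW, hyW, hd⟩ := ih (fun s hs => hlc s (Set.mem_insert_of_mem t hs)) hy.2
    obtain ⟨U, C, hU, hC, rfl⟩ := hlc t (Set.mem_insert t T)
    by_cases hyU : y ∈ U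
    · refine ⟨W ∩ Cᶜ, hW.inter hC.isOpen_compl.isLocallyClosed, ⟨hyW, fun h => hy.1 ⟨hyU, h⟩⟩, ?_⟩
      rw [Set.sUnion_insert, Set.disjoint_union_right]
      exact ⟨Set.disjoint_left.mpr fun z hz hz' => hz.2 hz'.2, hd.mono_left Set.inter_subset_left⟩
    · refine ⟨W ∩ Uᶜ, hW.inter hU.isClosed_compl.isLocallyClosed, ⟨hyW, hyU⟩, ?_⟩
      rw [Set.sUnion_insert, Set.disjoint_union_right]
      exact ⟨Set.disjoint_left.mpr fun z hz hz' => hz.2 hz'.1, hd.mono_left Set.inter_subset_left⟩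

include hq in
theorem QC.subset_of_preimage {A B : Set Y} (hA : QC A) (hB : QC B) (h : f ⁻¹' A ⊆ f ⁻¹' B) : A ⊆ B := by
  obtain ⟨S, -, hS, rfl⟩ := hA
  obtain ⟨T, hT, hlc, rfl⟩ := hB
  rintro y ⟨t, ht, hyt⟩
  by_contra hy
  obtain ⟨W, hW, hyW, hd⟩ := exists_lc_avoid hT hlc hy
  have h0 : f ⁻¹' (t ∩ W) = ∅ := Set.eq_empty_iff_forall_notMem.mpr fun x hx =>
    Set.disjoint_left.mp hd hx.2 (h (show f x ∈ ⋃₀ S from ⟨t, ht, hx.1⟩))
  exact Set.eq_empty_iff_forall_notMem.mp (lc_eq_empty hf hq ((hS t ht).inter hW) h0) y ⟨hyt, hyW⟩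

include hq in
theorem QC.eq_of_preimage {A B : Set Y} (hA : QC A) (hB : QC B) (h : f ⁻¹' A = f ⁻¹' B) : A = B :=
  (hA.subset_of_preimage hf hq hB h.subset).antisymm (hB.subset_of_preimage hf hq hA h.superset)

include hq in
theorem exists_qc {Z : Set X} (h : QC Z) : ∃ A : Set Y, QC A ∧ f ⁻¹' A = Z := by
  obtain ⟨T, hT, hlc, rfl⟩ := h
  have : ∀ t ∈ T, ∃ s : Set Y, IsLocallyClosed s ∧ f ⁻¹' s = t := fun t ht => by
    obtain ⟨U, C, hU, hC, rfl⟩ := hlc t ht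
    obtain ⟨U', hU', rfl⟩ := exists_open hf hq hU
    obtain ⟨C', hC', hCe⟩ := exists_open hf hq hC.isOpen_compl
    refine ⟨U' ∩ C'ᶜ, hU'.isLocallyClosed.inter hC'.isClosed_compl.isLocallyClosed, ?_⟩
    rw [Set.preimage_inter, Set.preimage_compl, hCe, compl_compl]
  choose! s hs hse using this
  refine ⟨⋃₀ (s '' T), ⟨_, hT.image _, ?_, rfl⟩, ?_⟩
  · rintro _ ⟨t, ht, rfl⟩; exact hs t ht
  · rw [Set.sUnion_image, Set.preimage_iUnion₂, Set.sUnion_eq_biUnion]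
    exact Set.iUnion₂_congr hse

/-- Locally quasi-constructible. -/
def LQC (Z : Set Y) : Prop := ∀ y : Y, ∃ V : Set Y, IsOpen V ∧ y ∈ V ∧ QC (Z ∩ V)

theorem lqc_iff {Z : Set Y} : LQC Z ↔ ∀ y : Y, ∃ V : Set Y, IsOpen V ∧ y ∈ V ∧
    ∃ T : Set (Set V), T.Finite ∧ (∀ t ∈ T, IsLocallyClosed t) ∧ (Subtype.val ⁻¹' Z : Set V) = ⋃₀ T :=
  forall_congr' fun _ => exists_congr fun _ =>
    ⟨fun ⟨hV, hy, h⟩ => ⟨hV, hy, (qc_subtype_iff hV).mpr h⟩, fun ⟨hV, hy, h⟩ => ⟨hV, hy, (qc_subtype_iff hV).mp h⟩⟩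

include hq in
theorem bijOn_lqc : Set.BijOn (fun Z : Set Y => f ⁻¹' Z) {Z | LQC Z} {Z | LQC Z} := by
  refine ⟨fun Z hZ x => ?_, fun A hA B hB h => ?_, fun W hW => ?_⟩
  · obtain ⟨V, hV, hxV, h⟩ := hZ (f x)
    exact ⟨f ⁻¹' V, hV.preimage hf, hxV, h.preimage hf⟩
  · ext y
    obtain ⟨V, hV, hyV, hAV⟩ := hA y
    obtain ⟨V', hV', hyV', hBV⟩ := hB y
    have e : A ∩ V ∩ V' = B ∩ V' ∩ V := (hAV.inter_open hV').eq_of_preimage hf hq (hBV.inter_open hV) (by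
      simp only [Set.preimage_inter]
      rw [show f ⁻¹' A = f ⁻¹' B from h, Set.inter_right_comm])
    have := Set.ext_iff.mp e y
    simp only [Set.mem_inter_iff, hyV, hyV', and_true] at this
    exact this
  · choose V hV hxV hWV using hW
    choose V' hV' hVe using fun x => exists_open hf hq (hV x)
    choose A hA hAe using fun x => exists_qc hf hq (hWV x)
    have hA' : ∀ x, f ⁻¹' (A x ∩ V' x) = W ∩ V x := fun x => by
      rw [Set.preimage_inter, hAe, hVe, Set.inter_assoc, Set.inter_self]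
    have hcov : (⋃ x, V' x) = Set.univ := open_eq hf hq (isOpen_iUnion hV') isOpen_univ (by
      rw [Set.preimage_iUnion, Set.preimage_univ]
      exact Set.eq_univ_of_forall fun x => Set.mem_iUnion.mpr ⟨x, by rw [hVe]; exact hxV x⟩)
    have hcompat : ∀ x x', A x ∩ V' x ∩ V' x' = A x' ∩ V' x' ∩ V' x := fun x x' =>
      (((hA x).inter_open (hV' x)).inter_open (hV' x')).eq_of_preimage hf hq
        (((hA x').inter_open (hV' x')).inter_open (hV' x)) (by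
          simp only [Set.preimage_inter, hAe, hVe]; tauto_set)
    refine ⟨⋃ x, A x ∩ V' x, fun y => ?_, ?_⟩
    · obtain ⟨x, hx⟩ := Set.mem_iUnion.mp (hcov.symm ▸ Set.mem_univ y)
      refine ⟨V' x, hV' x, hx, ?_⟩
      convert (hA x).inter_open (hV' x) using 1
      refine subset_antisymm ?_ fun z hz => ⟨Set.mem_iUnion.mpr ⟨x, hz⟩, hz.2⟩
      rintro z ⟨hz, hzV⟩
      obtain ⟨x', hx'⟩ := Set.mem_iUnion.mp hz
      exact ((hcompat x' x).subset ⟨hx', hzV⟩).1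
    · show f ⁻¹' (⋃ x, A x ∩ V' x) = W
      rw [Set.preimage_iUnion]
      ext z
      simp only [hA', Set.mem_iUnion, Set.mem_inter_iff]
      exact ⟨fun ⟨x, h, _⟩ => h, fun h => ⟨z, h, hxV z⟩⟩

include hq in
theorem bijOn_qc : Set.BijOn (fun Z : Set Y => f ⁻¹' Z) {Z | QC Z} {Z | QC Z} :=
  ⟨fun _ hZ => hZ.preimage hf, fun _ hA _ hB h => hA.eq_of_preimage hf hq hB h,
    fun _ hW => exists_qc hf hq hW⟩

end Groth.Agent.FBase64
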