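import Groth.Agent.FBase64.ReducedModField
import Groth.Agent.FBase64.FibreNoetherian
import Groth.Agent.FlatMor66.BCStalk

/-! Products of reduced modules over a field. -/

set_option autoImplicit false
set_option linter.style.haveILetI false
set_option backward.isDefEq.respectTransparency.types false
set_option maxHeartbeats 1000000
universe u

open CategoryTheory CategoryTheory.Limits AlgebraicGeometry TopologicalSpace

namespace Groth.Agent.FBase64.RedField

open AssSheaf AssTensor

theorem isReducedMod_externalTensor {k : Type u} [Field k] {X Y : Scheme.{u}}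
    [IsLocallyNoetherian X] [IsLocallyNoetherian Y] (f : X ⟶ Spec (CommRingCat.of k))
    (g : Y ⟶ Spec (CommRingCat.of k)) [IsLocallyNoetherian (pullback f g)] (F : X.Modules) (hF : Coh.IsCoh F)
    (G : Y.Modules) (hG : Coh.IsCoh G)
    (hFgr : ∀ (k' : Type u) [Field k'] [Algebra k k'] [FiniteDimensional k k'] [IsPurelyInseparable k k'],
      AssSch.IsReducedMod ((Scheme.Modules.pullback (FBase.bcπ f k')).obj F))
    (hGr : AssSch.IsReducedMod G) :
    AssSch.IsReducedMod (CohB1.tensorMod ((Scheme.Modules.pullback (pullback.fst f g)).obj F)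
      ((Scheme.Modules.pullback (pullback.snd f g)).obj G)) := by
  haveI := hF.1
  haveI := hF.2
  let pr1 := pullback.fst f g
  let pr2 := pullback.snd f g
  let F' := (Scheme.Modules.pullback pr1).obj F
  have hF' : Coh.IsCoh F' := ⟨QCPull72.isQuasicoherent_pullback pr1 F, QCPull72.isFiniteType_pullback pr1 F⟩
  have hfl : FlatMod.IsFlatOver pr2 F' := fun z =>
    FlatMor66.isFlatOverAt_baseChange (IsPullback.of_hasPullback f g) F hF.1 z (isFlatOver_field f F _)
  rw [isReducedMod_congr (EGA73.tensComm F' ((Scheme.Modules.pullback pr2).obj G)),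
    isReducedMod_pullTensor_iff pr2 G hG.1 F' hF' hfl]
  intro y hy
  refine ⟨fun y' hy' hsp => (hGr.1 y hy.1 y' hy' hsp).symm, hGr.2 y hy.1, ?_⟩
  obtain ⟨ψ, hψ⟩ : ∃ ψ : CommRingCat.of k ⟶ Y.residueField y, Y.fromSpecResidueField y ≫ g = Spec.map ψ :=
    ⟨Spec.preimage _, (Spec.map_preimage _).symm⟩
  letI : Algebra k (Y.residueField y) := ψ.hom.toAlgebra
  let e : pr2.fiber y ≅ FBase.bc f (Y.residueField y) :=
    pullbackLeftPullbackSndIso f g (Y.fromSpecResidueField y) ≪≫ pullback.congrHom rfl hψ
  have he : e.hom ≫ FBase.bcπ f (Y.residueField y) = pr2.fiberι y ≫ pr1 := by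
    show (pullbackLeftPullbackSndIso f g (Y.fromSpecResidueField y)).hom ≫
      (pullback.congrHom rfl hψ).hom ≫ pullback.fst _ _ = _
    rw [pullback.congrHom_hom, pullback.lift_fst, Category.comp_id, pullbackLeftPullbackSndIso_hom_fst]
    rfl
  haveI := isLocallyNoetherian_fiber pr2 y
  haveI : IsLocallyNoetherian (FBase.bc f (Y.residueField y)) := isLocallyNoetherian_of_isOpenImmersion e.inv
  have h := isReducedMod_bc f F hF.1 hFgr (Y.residueField y)
  rw [← isReducedMod_pullback_iso e.hom] at h
  exact (isReducedMod_congr ((Scheme.Modules.pullbackComp e.hom _).app F ≪≫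
    (Scheme.Modules.pullbackCongr he).app F ≪≫ ((Scheme.Modules.pullbackComp (pr2.fiberι y) pr1).app F).symm)).mp h

end Groth.Agent.FBase64.RedField

namespace Groth.Agent.FBase64.RedField

theorem isLocallyNoetherian_bc_finite {k : Type u} [Field k] {X : Scheme.{u}} [IsLocallyNoetherian X]
    (f : X ⟶ Spec (CommRingCat.of k)) (k' : Type u) [Field k'] [Algebra k k'] [FiniteDimensional k k'] :
    IsLocallyNoetherian (FBase.bc f k') := by
  let g := Spec.map (CommRingCat.ofHom (algebraMap k k'))
  haveI : LocallyOfFiniteType g := by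
    rw [HasRingHomProperty.Spec_iff (P := @LocallyOfFiniteType)]
    exact RingHom.finiteType_algebraMap.mpr inferInstance
  haveI : IsLocallyNoetherian (pullback f g) := by
    haveI : LocallyOfFiniteType (pullback.fst f g) := inferInstance
    exact LocallyOfFiniteType.isLocallyNoetherian (pullback.fst f g)
  exact this

end Groth.Agent.FBase64.RedField
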