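import Groth.Agent.FBase64.Components
import Groth.Agent.FBase64.Descend

/-!
Geometric components become defined over a finite separable extension.
-/

universe u

namespace Groth.Agent.FBase64

open CategoryTheory CategoryTheory.Limits AlgebraicGeometry

variable {k : Type u} [Field k] {X : Scheme.{u}} (f : X ⟶ Spec (CommRingCat.of k))

/-- A finite separable subfield containing all images of finitely many separable finite fields. -/
theorem exists_finite_separable_containing {E : Type u} [Field E] [Algebra k E] {ι : Type*} [Finite ι]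
    (κ : ι → Type u) [∀ i, Field (κ i)] [∀ i, Algebra k (κ i)]
    [∀ i, FiniteDimensional k (κ i)] [∀ i, Algebra.IsSeparable k (κ i)] :
    ∃ K : IntermediateField k E, FiniteDimensional k K ∧ Algebra.IsSeparable k K ∧
      ∀ i (σ : κ i →ₐ[k] E) c, σ c ∈ (algebraMap K E).range := by
  let F : (Σ i, κ i →ₐ[k] E) → IntermediateField k E := fun p => p.2.fieldRange
  have : Finite (Σ i, κ i →ₐ[k] E) := inferInstance
  have hfd : ∀ p, FiniteDimensional k (F p) := fun p =>
    Module.Finite.equiv (AlgEquiv.ofInjectiveField p.2).toLinearEquiv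
  refine ⟨⨆ p, F p, IntermediateField.finiteDimensional_iSup_of_finite, ?_, fun i σ c => ?_⟩
  · rw [← le_separableClosure_iff]
    refine iSup_le fun p => ?_
    rw [le_separableClosure_iff]
    exact AlgEquiv.Algebra.isSeparable (AlgEquiv.ofInjectiveField p.2)
  · exact ⟨⟨σ c, le_iSup F ⟨i, σ⟩ ⟨c, rfl⟩⟩, rfl⟩

theorem eq_of_specializes_of_maximal_bc {E : Type u} [Field E] [Algebra k E]
    {y : ↥(FBase.bc f E)} (hy : ∀ y', y' ⤳ y → y' = y) :
    ∀ w : X, w ⤳ FBase.bcπ f E y → w = FBase.bcπ f E y := by
  intro w hw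
  have : Flat (FBase.bcπ f E) :=
    flat_of_isPullback (pr := FBase.bcπ f E) (IsPullback.of_hasPullback _ _)
  obtain ⟨y', hy', rfl⟩ := Flat.generalizingMap (FBase.bcπ f E) hw
  rw [hy y' hy']

theorem maximal_bc_iff {E : Type u} [Field E] [Algebra k E] [Algebra.IsAlgebraic k E]
    (y : ↥(FBase.bc f E)) :
    (∀ y', y' ⤳ y → y' = y) ↔ ∀ w : X, w ⤳ FBase.bcπ f E y → w = FBase.bcπ f E y := by
  refine ⟨fun h => eq_of_specializes_of_maximal_bc f h, fun h y' hy' => ?_⟩
  exact eq_of_specializes_fst f hy' (h _ (hy'.map (FBase.bcπ f E).continuous))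

theorem maximal_genericPoint {Z : Set X} (hZ : Z ∈ irreducibleComponents X) :
    ∀ w : X, w ⤳ hZ.1.genericPoint → w = hZ.1.genericPoint := by
  refine (closure_singleton_mem_irreducibleComponents_iff _).mp ?_
  rw [hZ.1.closure_genericPoint (isClosed_of_mem_irreducibleComponents _ hZ)]
  exact hZ

theorem connectedComponents_finite_bc {K : Type u} [Field K] [Algebra k K] {ι : Type*} [Finite ι]
    (κ : ι → Type u) [∀ i, Field (κ i)] [∀ i, Algebra k (κ i)]
    (j : ∀ i, Spec (CommRingCat.of (κ i)) ⟶ X)
    (hx : ∀ i, j i ≫ f = Spec.map (CommRingCat.ofHom (algebraMap k (κ i))))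
    [∀ i, FiniteDimensional k (separableClosure k (κ i))]
    (hmeet : ∀ V : Set X, IsClopen V → V.Nonempty → ∃ i, ∃ pt, j i pt ∈ V) :
    Finite (_root_.ConnectedComponents ↥(FBase.bc f K)) ∧
      Nat.card (_root_.ConnectedComponents ↥(FBase.bc f K)) ≤
        Nat.card (Σ i, separableClosure k (κ i) →ₐ[k] AlgebraicClosure k) := by
  let tE := Spec.map (CommRingCat.ofHom (algebraMap k (AlgebraicClosure k)))
  obtain ⟨h1, h2, -⟩ := connectedComponents_finite_of_points
    (IsPullback.of_hasPullback f tE) κ j hx hmeet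
  have h3 := mk_connectedComponents_bc_le f (algebraMap k (AlgebraicClosure k)) (algebraMap k K)
  have h4 : Finite (_root_.ConnectedComponents ↥(FBase.bc f K)) :=
    Cardinal.lt_aleph0_iff_finite.mp (h3.trans_lt (Cardinal.lt_aleph0_of_finite _))
  refine ⟨h4, le_trans ?_ h2⟩
  exact Cardinal.toNat_le_toNat h3 (Cardinal.lt_aleph0_of_finite _)

theorem geometricallyConnected_of_finite_separable (x : X)
    (hx : FBase.ResidueFieldProp f x (fun K _ _ => FiniteDimensional k (separableClosure k K)))
    (h : ∀ (K : Type u) [Field K] [Algebra k K] [FiniteDimensional k K] [Algebra.IsSeparable k K],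
      ConnectedSpace ↥(FBase.bc f K)) :
    GeometricallyConnected f := by
  obtain ⟨κ, _, _, j, _, hr, hj, hfin⟩ := exists_point_of_residueFieldProp f hx
  let E := AlgebraicClosure k
  obtain ⟨K, _, _, hK⟩ := exists_finite_separable_containing (k := k) (E := E)
    (fun _ : Unit => separableClosure k κ)
  have : ConnectedSpace ↥(FBase.bc f K) := h K
  obtain ⟨y, hy⟩ : ∃ y : ↥(FBase.bc f K), FBase.bcπ f K y = x :=
    surjective_of_isPullback
      (IsPullback.of_hasPullback f (Spec.map (CommRingCat.ofHom (algebraMap k K)))) x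
  have h1 := isConnected_preimage_connectedComponent f (K := K) (E := E) j hj (fun σ => hK () σ) y
    (by rw [hr]; exact hy)
  rw [PreconnectedSpace.connectedComponent_eq_univ, Set.preimage_univ] at h1
  have hc : ConnectedSpace ↥(FBase.bc (FBase.bcStr f K) E) := connectedSpace_iff_univ.mpr h1
  have : GeometricallyConnected (pullback.snd f (Spec.map (CommRingCat.ofHom (algebraMap k K)))) :=
    @geometricallyConnected_of_sepClosed _ _ _ _ E _ (algebraMap K E) _ hc
  exact geometricallyConnected_of_bcStr f (algebraMap k K)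

theorem exists_finite_separable_connectedComponents [Finite (_root_.ConnectedComponents ↥X)]
    (hx : ∀ c : _root_.ConnectedComponents ↥X, ∃ x : X, _root_.ConnectedComponents.mk x = c ∧
      FBase.ResidueFieldProp f x (fun K _ _ => FiniteDimensional k (separableClosure k K))) :
    ∃ (k'' : Type u) (_ : Field k'') (_ : Algebra k k''), FiniteDimensional k k'' ∧ Algebra.IsSeparable k k'' ∧
      ∀ (K : Type u) [Field K] [Algebra k'' K] (x' : ↥(FBase.bc f k'')),
        _root_.IsConnected (⇑(FBase.bcπ (FBase.bcStr f k'') K) ⁻¹' connectedComponent x') := by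
  choose x hxc hP using hx
  choose κ instF instA j hmono hr hj hfin using fun c => exists_point_of_residueFieldProp f (hP c)
  let E := AlgebraicClosure k
  obtain ⟨K, hfd, hsep, hK⟩ := exists_finite_separable_containing (k := k) (E := E)
    (fun c => separableClosure k (κ c))
  refine ⟨K, inferInstance, inferInstance, hfd, hsep, fun L _ _ x' => ?_⟩
  have hmeet : ∀ V : Set X, IsClopen V → V.Nonempty → ∃ c, ∃ pt, j c pt ∈ V := by
    rintro V hV ⟨v, hv⟩
    refine ⟨_root_.ConnectedComponents.mk v, Classical.arbitrary _, ?_⟩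
    have h1 : j (_root_.ConnectedComponents.mk v) (Classical.arbitrary _) = x _ :=
      (hr (_root_.ConnectedComponents.mk v)).le ⟨_, rfl⟩
    rw [h1]
    exact hV.connectedComponent_subset hv (_root_.ConnectedComponents.coe_eq_coe'.mp (hxc _))
  have : Finite (_root_.ConnectedComponents ↥(FBase.bc f K)) :=
    (connectedComponents_finite_bc f κ j hj hmeet).1
  have hclopen := isClopen_connectedComponent_of_finite x'
  let sq := IsPullback.of_hasPullback f (Spec.map (CommRingCat.ofHom (algebraMap k K)))
  obtain ⟨c, pt, y, hy, hyc⟩ := hmeet (FBase.bcπ f K '' connectedComponent x')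
    ⟨isClosedMap_of_isPullback sq _ hclopen.1, isOpenMap_of_isPullback sq _ hclopen.2⟩
    (connectedComponent_nonempty.image _)
  rw [connectedComponent_eq hy]
  have h1 := isConnected_preimage_connectedComponent f (K := K) (E := E) (j c) (hj c)
    (fun σ => hK c σ) y ⟨pt, hyc.symm⟩
  exact isConnected_preimage_of_sepClosed (FBase.bcStr f K) (algebraMap K E) h1 (algebraMap K L)

theorem exists_finite_separable_irreducibleComponents [Finite ↥(irreducibleComponents ↥X)]
    (hx : ∀ (Z : Set ↥X) (hZ : Z ∈ irreducibleComponents ↥X),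
      FBase.ResidueFieldProp f hZ.1.genericPoint (fun K _ _ => FiniteDimensional k (separableClosure k K))) :
    ∃ (L : Type u) (_ : Field L) (_ : Algebra k L), FiniteDimensional k L ∧ Algebra.IsSeparable k L ∧
      ∀ (K : Type u) [Field K] [Algebra L K] (Z' : Set ↥(FBase.bc f L)), Z' ∈ irreducibleComponents ↥(FBase.bc f L) →
        IsIrreducible (⇑(FBase.bcπ (FBase.bcStr f L) K) ⁻¹' Z') := by
  choose κ instF instA j hmono hr hj hfin using
    fun Z : irreducibleComponents ↥X => exists_point_of_residueFieldProp f (hx Z.1 Z.2)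
  let E := AlgebraicClosure k
  obtain ⟨K, hfd, hsep, hK⟩ := exists_finite_separable_containing (k := k) (E := E)
    (fun Z => separableClosure k (κ Z))
  refine ⟨K, inferInstance, inferInstance, hfd, hsep, fun L _ _ Z' hZ' => ?_⟩
  have hgen := hZ'.1.closure_genericPoint (isClosed_of_mem_irreducibleComponents _ hZ')
  have hmax := eq_of_specializes_of_maximal_bc f (maximal_genericPoint hZ')
  have hmem := (closure_singleton_mem_irreducibleComponents_iff _).mpr hmax
  have heq : hmem.1.genericPoint = FBase.bcπ f K hZ'.1.genericPoint :=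
    ((hmem.1.isGenericPoint_genericPoint isClosed_closure).eq
      (isGenericPoint_closure (x := FBase.bcπ f K hZ'.1.genericPoint)))
  have h1 := isIrreducible_preimage_closure_singleton f (K := K) (E := E) (j ⟨_, hmem⟩) (hj ⟨_, hmem⟩)
    (hr ⟨_, hmem⟩) (maximal_genericPoint hmem) (fun σ => hK ⟨_, hmem⟩ σ) hZ'.1.genericPoint heq.symm
  rw [hgen] at h1
  exact isIrreducible_preimage_of_sepClosed (FBase.bcStr f K) (algebraMap K E) h1 (algebraMap K L)

theorem card_irreducibleComponents_bc_galois {k'' : Type u} [Field k''] [Algebra k k'']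
    [IsGalois k k''] [IrreducibleSpace X] {κ : Type u} [Field κ] [Algebra k κ]
    (j : Spec (CommRingCat.of κ) ⟶ X) [Mono j]
    (hj : j ≫ f = Spec.map (CommRingCat.ofHom (algebraMap k κ)))
    (hr : Set.range j = {genericPoint X}) [FiniteDimensional k (separableClosure k κ)]
    (he : Nonempty (separableClosure k κ →ₐ[k] k'')) :
    Nat.card (irreducibleComponents ↥(FBase.bc f k'')) = Module.finrank k (separableClosure k κ) := by
  obtain ⟨e⟩ := he
  let E := AlgebraicClosure k''
  let π := FBase.bcπ (FBase.bcStr f k'') E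
  have : Algebra.IsAlgebraic k E := Algebra.IsAlgebraic.trans k k'' E
  have sq := isPullback_tower f (K := k'') (E := E)
  have sq' : IsPullback π (FBase.bcStr (FBase.bcStr f k'') E) (FBase.bcStr f k'')
      (Spec.map (CommRingCat.ofHom (algebraMap k'' E))) := IsPullback.of_hasPullback _ _
  have hmaxη : ∀ w : X, w ⤳ genericPoint X → w = genericPoint X := fun w hw =>
    (hw.antisymm (genericPoint_specializes w)).eq
  have hK : ∀ (σ : separableClosure k κ →ₐ[k] E) c, σ c ∈ (algebraMap k'' E).range := by
    intro σ c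
    have hint : IsIntegral k (e c) := Algebra.IsIntegral.isIntegral _
    have h0 : Polynomial.aeval (σ c) (minpoly k (e c)) = 0 := by
      rw [minpoly.algHom_eq e e.injective, Polynomial.aeval_algHom_apply, minpoly.aeval, map_zero]
    have hsplit := Normal.splits (inferInstance : Normal k k'') (e c)
    rw [Polynomial.aeval_def, IsScalarTower.algebraMap_eq k k'' E, ← Polynomial.eval₂_map] at h0
    exact hsplit.mem_range_of_isRoot ((Polynomial.monic_map_iff).mpr (minpoly.monic hint) |>.ne_zero)
      (by rw [Polynomial.IsRoot, Polynomial.eval_map]; exact h0)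
  let MaxPts := {y : ↥(FBase.bc f k'') // ∀ y', y' ⤳ y → y' = y}
  have hover : ∀ y : MaxPts, FBase.bcπ f k'' y.1 = genericPoint X := fun y =>
    (eq_of_specializes_of_maximal_bc f y.2 _ (genericPoint_specializes _)).symm
  have hsurj : ∀ y : MaxPts, ∃ σ z, IsPointOf (π ≫ FBase.bcπ f k'')
      (FBase.bcStr (FBase.bcStr f k'') E) j σ z ∧ π z = y.1 := fun y => by
    obtain ⟨z, hz⟩ := surjective_of_isPullback sq' y.1
    obtain ⟨σ, hσ⟩ := exists_isPointOf sq j hj (z := z)
      (by rw [hr, Scheme.Hom.comp_apply, hz]; exact hover y)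
    exact ⟨σ, z, hσ, hz⟩
  choose σ z hσ hz using hsurj
  have hbij : Function.Bijective σ := by
    refine ⟨fun y y' h => Subtype.ext ?_, fun τ => ?_⟩
    · have := IsPointOf.eq_of_maximal sq j hj hr hmaxη (h ▸ hσ y) (hσ y')
      rw [← hz y, ← hz y', this]
    · obtain ⟨w, hw⟩ := (isIrreducible_setOf_isPointOf sq j hj τ).nonempty
      have hwη : FBase.bcπ f k'' (π w) = genericPoint X := by
        have := hw.apply_mem
        rw [hr] at this
        exact this
      have hy : ∀ y', y' ⤳ π w → y' = π w := by
        refine (maximal_bc_iff f (π w)).mpr ?_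
        rw [hwη]; exact hmaxη
      exact ⟨⟨π w, hy⟩, eq_of_image_eq_tower f j hK (hσ ⟨π w, hy⟩) hw (hz ⟨π w, hy⟩)⟩
  let e1 : MaxPts ≃ irreducibleComponents ↥(FBase.bc f k'') :=
    (Equiv.subtypeEquivRight fun y => (closure_singleton_mem_irreducibleComponents_iff y).symm).trans
      genericPoints.equiv
  rw [← Nat.card_congr e1, Nat.card_congr (Equiv.ofBijective σ hbij), ← AlgHom.card k _ E,
    Nat.card_eq_fintype_card]

end Groth.Agent.FBase64
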