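import Groth.Agent.VarGal.TensorDim
import Mathlib.LinearAlgebra.TensorProduct.RightExactness

/-!
Transcendence degrees at minimal primes of tensor products over a field.
-/

universe u

open TensorProduct

namespace Groth.Agent.FBase64

open CAlgH2

variable {k : Type u} [Field k]

/-- `trdegQuot` through a surjection. -/
theorem trdegQuot_comap {S T : Type u} [CommRing S] [CommRing T] [Algebra k S] [Algebra k T]
    (π : S →ₐ[k] T) (hπ : Function.Surjective π) (Q : Ideal T) :
    trdegQuot k (Q.comap π) = trdegQuot k Q := by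
  unfold trdegQuot
  have e : (S ⧸ Q.comap π) ≃ₐ[k] (T ⧸ Q) :=
    (Ideal.quotientEquivAlgOfEq k (by ext; simp [Ideal.Quotient.eq_zero_iff_mem])).trans
      (Ideal.quotientKerAlgEquivOfSurjective
        (f := (Ideal.Quotient.mkₐ k Q).comp π) (Ideal.Quotient.mk_surjective.comp hπ))
  exact congrArg Cardinal.toNat e.trdeg_eq

/-- A prime minimal over the kernel of a surjection comes from a minimal prime. -/
theorem exists_minimalPrimes_comap {S T : Type u} [CommRing S] [CommRing T] (π : S →+* T)
    (hπ : Function.Surjective π) (Q : Ideal S) (hQ : Q ∈ (RingHom.ker π).minimalPrimes) :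
    ∃ Q' ∈ minimalPrimes T, Q = Q'.comap π := by
  rw [RingHom.ker, Ideal.comap_minimalPrimes_eq_of_surjective hπ] at hQ
  obtain ⟨Q', hQ', rfl⟩ := hQ
  exact ⟨Q', hQ', rfl⟩

theorem trdegQuot_eq_of_minimal_pair {A B : Type u} [CommRing A] [CommRing B]
    [Algebra k A] [Algebra k B] [Algebra.FiniteType k A] [Algebra.FiniteType k B]
    (Q : Ideal (A ⊗[k] B)) [Q.IsPrime]
    (hmin : ∀ Q' : Ideal (A ⊗[k] B), Q'.IsPrime → Q' ≤ Q →
      Q'.comap (Algebra.TensorProduct.includeLeft (S := k) : A →ₐ[k] A ⊗[k] B) =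
        Q.comap (Algebra.TensorProduct.includeLeft (S := k) : A →ₐ[k] A ⊗[k] B) →
      Q'.comap (Algebra.TensorProduct.includeRight : B →ₐ[k] A ⊗[k] B) =
        Q.comap (Algebra.TensorProduct.includeRight : B →ₐ[k] A ⊗[k] B) → Q' = Q) :
    trdegQuot k Q = trdegQuot k (Q.comap (Algebra.TensorProduct.includeLeft (S := k) : A →ₐ[k] A ⊗[k] B))
      + trdegQuot k (Q.comap (Algebra.TensorProduct.includeRight : B →ₐ[k] A ⊗[k] B)) := by
  let P1 := Q.comap (Algebra.TensorProduct.includeLeft (S := k) : A →ₐ[k] A ⊗[k] B)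
  let P2 := Q.comap (Algebra.TensorProduct.includeRight : B →ₐ[k] A ⊗[k] B)
  have h1 : Function.Surjective (Ideal.Quotient.mkₐ k P1) := Ideal.Quotient.mk_surjective
  have h2 : Function.Surjective (Ideal.Quotient.mkₐ k P2) := Ideal.Quotient.mk_surjective
  have : Algebra.FiniteType k (A ⧸ P1) := Algebra.FiniteType.of_surjective _ h1
  have : Algebra.FiniteType k (B ⧸ P2) := Algebra.FiniteType.of_surjective _ h2
  let π := Algebra.TensorProduct.map (Ideal.Quotient.mkₐ k P1) (Ideal.Quotient.mkₐ k P2)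
  have hπ : Function.Surjective π := TensorProduct.map_surjective h1 h2
  have hker : RingHom.ker π = P1.map (Algebra.TensorProduct.includeLeft (S := k) : A →ₐ[k] A ⊗[k] B) ⊔
      P2.map (Algebra.TensorProduct.includeRight : B →ₐ[k] A ⊗[k] B) := by
    rw [Algebra.TensorProduct.map_ker _ _ h1 h2, ← RingHom.ker_coe_toRingHom (Ideal.Quotient.mkₐ k P1),
      ← RingHom.ker_coe_toRingHom (Ideal.Quotient.mkₐ k P2)]
    simp only [Ideal.Quotient.mkₐ_ker]
  have hle : RingHom.ker π.toRingHom ≤ Q :=
    hker.trans_le (sup_le Ideal.map_comap_le Ideal.map_comap_le)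
  obtain ⟨Q', hQ', e⟩ := exists_minimalPrimes_comap π.toRingHom hπ Q
    ⟨⟨inferInstance, hle⟩, fun R ⟨hR, hRk⟩ hRQ => by
      refine (hmin R hR hRQ ?_ ?_).ge
      · exact le_antisymm (Ideal.comap_mono hRQ)
          (Ideal.map_le_iff_le_comap.mp ((le_sup_left.trans_eq hker.symm).trans hRk))
      · exact le_antisymm (Ideal.comap_mono hRQ)
          (Ideal.map_le_iff_le_comap.mp ((le_sup_right.trans_eq hker.symm).trans hRk))⟩
  rw [show Q = Q'.comap π from e, trdegQuot_comap π hπ Q',
    VarGal.trdegQuot_minimalPrimes_tensor _ _ Q' hQ', ← show Q = Q'.comap π from e]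
  rfl

variable (K : Type u) [Field K] [Algebra k K]

/-- Minimal primes of `K ⊗ A` for a domain `A`. -/
theorem trdegQuot_minimalPrimes_baseChange (A : Type u) [CommRing A] [IsDomain A] [Algebra k A]
    [Algebra.FiniteType k A] (Q : Ideal (K ⊗[k] A)) (hQ : Q ∈ minimalPrimes (K ⊗[k] A)) :
    trdegQuot K Q = Cardinal.toNat (Algebra.trdeg k A) := by
  have hQp : Q.IsPrime := hQ.1.1
  obtain ⟨a, f, hf, hff⟩ := exists_finite_inj_algHom_of_fg k A
  let P := MvPolynomial (Fin a) k
  have hA : Algebra.trdeg k A = (a : Cardinal.{u}) := by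
    let := f.toRingHom.toAlgebra
    have : IsScalarTower k P A := .of_algebraMap_eq fun c => (f.commutes c).symm
    have : Module.Finite P A := hff
    have : FaithfulSMul P A := (faithfulSMul_iff_algebraMap_injective _ _).2 hf
    rw [← trdeg_add_eq k P (A := A), trdeg_eq_zero (R := P) (A := A), add_zero,
      MvPolynomial.trdeg_of_isDomain]
    simp
  let g : K ⊗[k] P →ₐ[K] K ⊗[k] A := Algebra.TensorProduct.map (AlgHom.id K K) f
  have hgfin : g.Finite :=
    RingHom.Finite.tensorProductMap (f := AlgHom.id k K) (g := f) (RingHom.Finite.id K) hff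
  have hnzd : ∀ r, r ≠ 0 → ∀ w, g r * w = 0 → w = 0 := by
    intro r hr w hw
    let L := FractionRing A
    let F := FractionRing P
    let iL : P →ₐ[k] L := (IsScalarTower.toAlgHom k A L).comp f
    have hiL : Function.Injective iL := (IsFractionRing.injective A L).comp hf
    let iF : F →ₐ[k] L := IsFractionRing.liftAlgHom hiL
    let := iF.toRingHom.toAlgebra
    have : IsScalarTower k F L := .of_algebraMap_eq fun c => (iF.commutes c).symm
    have hdom : IsDomain (F ⊗[k] K) := VarGal.isDomain_fractionRing_mvPolynomial_tensor a K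
    let rF : K ⊗[k] P →ₐ[k] F ⊗[k] K :=
      (Algebra.TensorProduct.map (IsScalarTower.toAlgHom k P F) (AlgHom.id k K)).comp
        (Algebra.TensorProduct.comm k K P).toAlgHom
    have hrF : Function.Injective rF :=
      (VarGal.tensorMap_injective (IsScalarTower.toAlgHom k P F) (AlgHom.id k K)
        (IsFractionRing.injective P F) Function.injective_id).comp
        (Algebra.TensorProduct.comm k K P).injective
    let j : K ⊗[k] A →ₐ[k] L ⊗[k] K :=
      (Algebra.TensorProduct.map (IsScalarTower.toAlgHom k A L) (AlgHom.id k K)).comp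
        (Algebra.TensorProduct.comm k K A).toAlgHom
    have hj : Function.Injective j :=
      (VarGal.tensorMap_injective (IsScalarTower.toAlgHom k A L) (AlgHom.id k K)
        (IsFractionRing.injective A L) Function.injective_id).comp
        (Algebra.TensorProduct.comm k K A).injective
    have hcomm : ∀ s, Algebra.TensorProduct.map (IsScalarTower.toAlgHom k F L) (AlgHom.id k K) (rF s) =
        j (g s) := by
      intro s
      induction s with
      | zero => simp
      | tmul c p => simp [rF, j, g, P, F, L, RingHom.algebraMap_toAlgebra, iF, iL]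
      | add x y hx hy => simp only [map_add, hx, hy]
    apply hj
    rw [map_zero]
    refine VarGal.mul_injective_baseChange_field (r := rF r)
      (fun e => hr (hrF (e.trans (map_zero _).symm))) ?_
    rw [hcomm, ← map_mul, hw, map_zero]
  let φ : K ⊗[k] P →ₐ[K] (K ⊗[k] A ⧸ Q) := (Ideal.Quotient.mkₐ K Q).comp g
  have hφ : Function.Injective φ := by
    rw [injective_iff_map_eq_zero]
    intro r hr
    by_contra hne
    exact Set.disjoint_left.1 (Ideal.disjoint_nonZeroDivisors_of_mem_minimalPrimes hQ)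
      (Ideal.Quotient.eq_zero_iff_mem.1 hr)
      (mem_nonZeroDivisors_iff.2
        ⟨fun w hw => hnzd r hne w hw, fun w hw => hnzd r hne w (by rwa [mul_comm] at hw)⟩)
  have hφfin : φ.Finite := AlgHom.Finite.comp (AlgHom.Finite.of_surjective _ Ideal.Quotient.mk_surjective) hgfin
  let := φ.toRingHom.toAlgebra
  have : IsScalarTower K (K ⊗[k] P) (K ⊗[k] A ⧸ Q) := .of_algebraMap_eq fun c => (φ.commutes c).symm
  have : IsDomain (K ⊗[k] P) :=
    (MvPolynomial.algebraTensorAlgEquiv (R := k) (σ := Fin a) (A := K)).toMulEquiv.isDomain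
  have : Module.Finite (K ⊗[k] P) (K ⊗[k] A ⧸ Q) := hφfin
  have : FaithfulSMul (K ⊗[k] P) (K ⊗[k] A ⧸ Q) := (faithfulSMul_iff_algebraMap_injective _ _).2 hφ
  rw [trdegQuot, ← trdeg_add_eq K (K ⊗[k] P) (A := K ⊗[k] A ⧸ Q),
    trdeg_eq_zero (R := K ⊗[k] P) (A := K ⊗[k] A ⧸ Q), add_zero,
    (MvPolynomial.algebraTensorAlgEquiv (R := k) (σ := Fin a) (A := K)).trdeg_eq,
    MvPolynomial.trdeg_of_isDomain, hA]
  simp

/-- A prime of `K ⊗ A` minimal among those with the same contraction. -/
theorem trdegQuot_eq_of_minimal_baseChange {A : Type u} [CommRing A] [Algebra k A]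
    [Algebra.FiniteType k A] (Q : Ideal (K ⊗[k] A)) [Q.IsPrime]
    (hmin : ∀ Q' : Ideal (K ⊗[k] A), Q'.IsPrime → Q' ≤ Q →
      Q'.comap (Algebra.TensorProduct.includeRight : A →ₐ[k] K ⊗[k] A) =
        Q.comap (Algebra.TensorProduct.includeRight : A →ₐ[k] K ⊗[k] A) → Q' = Q) :
    trdegQuot K Q = trdegQuot k (Q.comap (Algebra.TensorProduct.includeRight : A →ₐ[k] K ⊗[k] A)) := by
  let P := Q.comap (Algebra.TensorProduct.includeRight : A →ₐ[k] K ⊗[k] A)
  have h1 : Function.Surjective (Ideal.Quotient.mkₐ k P) := Ideal.Quotient.mk_surjective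
  have : Algebra.FiniteType k (A ⧸ P) := Algebra.FiniteType.of_surjective _ h1
  let π : K ⊗[k] A →ₐ[K] K ⊗[k] (A ⧸ P) :=
    Algebra.TensorProduct.map (AlgHom.id K K) (Ideal.Quotient.mkₐ k P)
  have hπ : Function.Surjective π :=
    Algebra.TensorProduct.map_surjective (AlgHom.id K K) (Ideal.Quotient.mkₐ k P) Function.surjective_id h1
  have hker : RingHom.ker π.toRingHom =
      P.map (Algebra.TensorProduct.includeRight : A →ₐ[k] K ⊗[k] A) := by
    have hid : RingHom.ker (AlgHom.id K K) = ⊥ :=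
      le_bot_iff.mp fun x hx => hx
    have h := Algebra.TensorProduct.map_ker (AlgHom.id K K) (Ideal.Quotient.mkₐ k P)
      Function.surjective_id h1
    rw [hid, Ideal.map_bot, bot_sup_eq, ← RingHom.ker_coe_toRingHom (Ideal.Quotient.mkₐ k P)] at h
    simp only [Ideal.Quotient.mkₐ_ker] at h
    exact h
  have hle : RingHom.ker π.toRingHom ≤ Q := hker.trans_le Ideal.map_comap_le
  obtain ⟨Q', hQ', e⟩ := exists_minimalPrimes_comap π.toRingHom hπ Q
    ⟨⟨inferInstance, hle⟩, fun R ⟨hR, hRk⟩ hRQ => by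
      refine (hmin R hR hRQ ?_).ge
      exact le_antisymm (Ideal.comap_mono hRQ) (Ideal.map_le_iff_le_comap.mp (hker.symm.trans_le hRk))⟩
  rw [show Q = Q'.comap π from e, trdegQuot_comap π hπ Q',
    trdegQuot_minimalPrimes_baseChange K _ Q' hQ', ← show Q = Q'.comap π from e]
  rfl

end Groth.Agent.FBase64
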